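import Cfsg.Agent.Omega.Lie.Nodes.SigGrp

/-!
# NODE LIE, TEXT NODES (#14331) (L): orders of `SG g`, `DZ g = SG g ⊓ (SG g)^n` and `Σ`
-/

set_option autoImplicit false
set_option linter.unusedSectionVars false

namespace Cfsg.Agent.Omega.Lie.Nodes

open Subgroup Cfsg.Agent.Omega.BTwo

universe u v w

/-- `|A ⊔ B| |A ⊓ B| = |A| |B|` if `A` and `B` commute -/
theorem card_sup_comm {G : Type*} [Group G] [Finite G] {A B : Subgroup G}
    (hc : ∀ x ∈ A ⊔ B, ∀ y ∈ A ⊔ B, x * y = y * x) :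
    Nat.card (A ⊔ B : Subgroup G) * Nat.card (A ⊓ B : Subgroup G) = Nat.card A * Nat.card B := by
  set T := A ⊔ B with hT
  have hA : A ≤ T := le_sup_left
  have hB : B ≤ T := le_sup_right
  have hn : (B.subgroupOf T).Normal := ⟨by
    rintro ⟨x, hx⟩ hx' ⟨g, hg⟩
    change g * x * g⁻¹ ∈ B
    rw [hc g hg x hx, mul_inv_cancel_right]
    exact hx'⟩
  have h1 := relIndex_sup_right (H := A.subgroupOf T) (K := B.subgroupOf T)
  have h2 : A.subgroupOf T ⊔ B.subgroupOf T = ⊤ := by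
    rw [← subgroupOf_sup hA hB, subgroupOf_self]
  rw [h2, relIndex_top_right, relIndex_subgroupOf hA] at h1
  have h3 : (B.subgroupOf T).index * Nat.card B = Nat.card T := by
    have := (B.subgroupOf T).index_mul_card
    rw [Nat.card_congr (subgroupOfEquivOfLe hB).toEquiv] at this
    exact this
  have h4 : B.relIndex A * Nat.card (A ⊓ B : Subgroup G) = Nat.card A := by
    rw [← inf_relIndex_right, inf_comm B A]
    have := ((A ⊓ B).subgroupOf A).index_mul_card
    rw [Nat.card_congr (subgroupOfEquivOfLe (inf_le_left : A ⊓ B ≤ A)).toEquiv] at this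
    exact this
  rw [← h3, h1, mul_assoc, mul_comm (Nat.card B), ← mul_assoc, h4]

section pre

variable {G : Type u} [Group G] {F : Type v} [Field F] {M : Type u} [AddCommGroup M] [Module F M]
    {R W : Subgroup G} {q : G → M} {f : M →ₗ[F] M →ₗ[F] F} {r : F → G} (h : Fr R W q f r)

/-- `|N^| = |R| |N|` -/
theorem card_pre [Finite G] (hRW : R ≤ W) (N : Submodule F M) :
    Nat.card (pre h N) = Nat.card R * Nat.card N := by
  classical
  let φ : pre h N →* Multiplicative N :=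
    { toFun := fun x => Multiplicative.ofAdd ⟨q x, x.2.2⟩
      map_one' := by
        apply Multiplicative.toAdd.injective
        exact Subtype.ext h.q_one
      map_mul' := fun x y => by
        apply Multiplicative.toAdd.injective
        exact Subtype.ext (h.mul x x.2.1 y y.2.1) }
  have hs : Function.Surjective φ := by
    intro m
    obtain ⟨x, hx, e1⟩ := h.surj (Multiplicative.toAdd m : N)
    refine ⟨⟨x, hx, by rw [e1]; exact (Multiplicative.toAdd m : N).2⟩, ?_⟩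
    apply Multiplicative.toAdd.injective
    exact Subtype.ext e1
  have hk : φ.ker = R.subgroupOf (pre h N) := by
    ext x
    rw [MonoidHom.mem_ker, mem_subgroupOf, ← h.zero _ x.2.1]
    constructor
    · intro e1
      have := congrArg (fun m => ((Multiplicative.toAdd m : N) : M)) e1
      exact this
    · intro e1
      apply Multiplicative.toAdd.injective
      exact Subtype.ext e1
  have h1 := φ.ker.card_mul_index
  rw [index_ker, MonoidHom.range_eq_top.2 hs, card_top, hk,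
    Nat.card_congr (subgroupOfEquivOfLe (le_pre h hRW)).toEquiv] at h1
  rw [← h1]
  rfl

end pre

variable {G : Type u} [Group G] {ι : Type w}
    {V : Subgroup G} {R : ι → Subgroup G} {i j : ι} {F : Type v} [Field F] {v : F → F → G}
    {M E : Type u} [AddCommGroup M] [Module F M] [AddCommGroup E] [Module F E] {P1 P2 : G → E}
    {q : G → M} {f : M →ₗ[F] M →ₗ[F] F} {e : M} {M0 : Submodule F M} {n : E →ₗ[F] M} {s : E → E → M}
    {sh : E → E → F} {α : E → M →ₗ[F] M}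

/-- `e + Z` -/
def eZ (F : Type v) [Field F] {M : Type u} [AddCommGroup M] [Module F M] {E : Type u} (e : M) (s : E → E → M)
    (g : E) : Submodule F M := Submodule.span F {e} ⊔ Zg F s g

theorem mem_eZ {g : E} {m : M} : m ∈ eZ F e s g ↔ ∃ c : F, ∃ z ∈ Zg F s g, m = c • e + z := by
  unfold eZ
  rw [Submodule.mem_sup]
  constructor
  · rintro ⟨y, hy, z, hz, rfl⟩
    obtain ⟨c, rfl⟩ := Submodule.mem_span_singleton.1 hy
    exact ⟨c, z, hz, rfl⟩
  · rintro ⟨c, z, hz, rfl⟩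
    exact ⟨c • e, Submodule.mem_span_singleton.2 ⟨c, rfl⟩, z, hz, rfl⟩

theorem eZ_le {g : E} : eZ F e s g ≤ Ng e n s g := by
  intro m hm
  obtain ⟨c, z, hz, rfl⟩ := mem_eZ.1 hm
  exact mem_Ng.2 ⟨c, z, hz, 0, by rw [zero_smul, add_zero]⟩

section

variable (h : GFr V R i j v P1 P2 q f e M0 n s sh α)

/-- `SG g ⊓ (SG g)^n` -/
def GFr.DZ (g : E) : Subgroup G := pre h.fr (eZ F e s g)

theorem GFr.DZ_le_SG (g : E) : h.DZ g ≤ h.SG g := fun _ hx => ⟨hx.1, eZ_le hx.2⟩

theorem GFr.DZ_le_D (b : BT V R) {w1 w2 : F → G} (y : YPair V R i j w1 w2 E P1 P2) (g : E) :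
    h.DZ g ≤ DD V R := by
  intro x hx
  obtain ⟨c, z, hz, e1⟩ := mem_eZ.1 hx.2
  exact h.mem_D_of b y hx.1 (h.lin.Zg_le hz) e1

theorem GFr.V_le_DZ (hV : ∀ x, x ∈ V ↔ ∃ b c, v b c = x) (g : E) : V ≤ h.DZ g := by
  intro x hx
  obtain ⟨a, a', rfl⟩ := (hV x).1 hx
  refine ⟨V_le_WW V (R i) hx, ?_⟩
  rw [h.q_V]
  exact mem_eZ.2 ⟨a', 0, Submodule.zero_mem _, by rw [add_zero]⟩

/-- `X` normalises `DZ` -/
theorem GFr.X_norm_DZ (b : BT V R) (hV : ∀ x, x ∈ V ↔ ∃ b c, v b c = x) {w1 w2 : F → G}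
    (y : YPair V R i j w1 w2 E P1 P2) (g : E) : XX V R ≤ normalizer (h.DZ g : Set G) := by
  have h0 := h.V_le_DZ hV g
  have h3 := h.DZ_le_D b y g
  revert h0 h3
  generalize h.DZ g = K
  intro h0 h3
  refine le_normalizer_of fun x hx d hd => ?_
  have h1 := h0 (b.XD hx (h3 hd))
  have h2 := mul_mem h1 hd
  rwa [inv_mul_cancel_right] at h2

variable (b : BTC V R) {w1 w2 : F → G} (y : YPair V R i j w1 w2 E P1 P2) [CharP F 2]
  (c : Coord V R i j v w1 w2) [Finite G] [Finite F]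
include b y c

theorem GFr.SG_inf (g : E) : h.SG g ⊓ cj (nn w1 w2 1) (h.SG g) = h.DZ g := by
  apply le_antisymm
  · rintro x hx
    obtain ⟨hx1, hx2⟩ := mem_inf.1 hx
    have hU := (h.mem_cj_SG b.toBT y c hx2).1
    have hD : x ∈ DD V R := by
      rw [← b.UU_inf c.ne]
      exact mem_inf.2 ⟨h.SG_le_U g hx1, hU⟩
    refine ⟨hx1.1, ?_⟩
    obtain ⟨c1, d, hd, e1⟩ := h.q_D b.toBT y hD
    obtain ⟨c2, z, hz, r, e2⟩ := mem_Ng.1 hx1.2
    have h3 : (0 : E) = r • g := by
      refine h.n_unique (c := c1) (c' := c2) hd (h.lin.Zg_le hz) ?_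
      rw [map_zero, add_zero, ← e1, e2, map_smul]
    rw [e2, ← map_smul, ← h3, map_zero, add_zero]
    exact mem_eZ.2 ⟨c2, z, hz, rfl⟩
  · refine le_inf (h.DZ_le_SG g) ?_
    have h1 : cj (nn w1 w2 1) (h.DZ g) = h.DZ g :=
      cj_eq_self_iff.2 (h.X_norm_DZ b.toBT c.mem_V y g (c.nn_mem_X b.toBT 1))
    intro x hx
    rw [← h1, mem_cj] at hx
    rw [mem_cj]
    exact h.DZ_le_SG g hx

/-- **the order of `Σ`** -/
theorem GFr.card_sigma {g : E} (hk : Key e n s α g) :
    Nat.card (h.SG g ⊔ cj (nn w1 w2 1) (h.SG g) : Subgroup G) * Nat.card (h.DZ g) = Nat.card (h.SG g) ^ 2 := by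
  rw [← h.SG_inf b y c g, card_sup_comm (h.sigma_comm b y c hk), sq]
  congr 1
  exact Nat.card_congr (Subgroup.equivMapOfInjective _ _ (MulAut.conj (nn w1 w2 1)).injective).symm.toEquiv

end

/-! ### generation by the conjugates of `V` -/

section gen

variable (h : GFr V R i j v P1 P2 q f e M0 n s sh α) (b : BT V R)
include b

/-- `SG g` is generated by conjugates of `V` if `N` is spanned by the images of `e` -/
theorem GFr.SG_le_iSup (hV : ∀ x, x ∈ V ↔ ∃ b c, v b c = x) {g : E} {P : Subgroup G}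
    (hPR : P ≤ normalizer (R i : Set G))
    (hN : Ng e n s g ≤ Submodule.span F {m | ∃ p ∈ P, ∃ A : M →ₗ[F] M,
      (∀ x ∈ WW V (R i), q (p * x * p⁻¹) = A (q x)) ∧ m = A e}) :
    h.SG g ≤ ⨆ p : P, cj (p : G) V := by
  set T : Subgroup G := ⨆ p : P, cj (p : G) V with hT
  have hcj : ∀ p ∈ P, cj p V ≤ T := fun p hp => le_iSup (fun p : P => cj (p : G) V) ⟨p, hp⟩
  have hVT : V ≤ T := by
    have := hcj 1 (one_mem _)
    rwa [cj_one] at this
  -- every element of the span is hit by `T ⊓ W`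
  have key : ∀ m ∈ Submodule.span F {m | ∃ p ∈ P, ∃ A : M →ₗ[F] M,
      (∀ x ∈ WW V (R i), q (p * x * p⁻¹) = A (q x)) ∧ m = A e}, ∃ x ∈ T, x ∈ WW V (R i) ∧ q x = m := by
    intro m hm
    refine Submodule.closure_induction (p := fun m _ => ∃ x ∈ T, x ∈ WW V (R i) ∧ q x = m)
      ?_ ?_ ?_ hm
    · exact ⟨1, one_mem _, one_mem _, h.fr.q_one⟩
    · rintro m m' _ _ ⟨x, hx, hx', rfl⟩ ⟨x2, hx2, hx2', rfl⟩
      exact ⟨x * x2, mul_mem hx hx2, mul_mem hx' hx2', h.fr.mul x hx' x2 hx2'⟩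
    · rintro a m ⟨p, hp, A, hA, rfl⟩
      have hvW : v 0 a ∈ V := (hV _).2 ⟨0, a, rfl⟩
      refine ⟨p * v 0 a * p⁻¹, hcj p hp (conj_mem_cj hvW), ?_, ?_⟩
      · exact conj_mem_of_normalizer (normalizer_le_WW V (R i) (hPR hp)) (V_le_WW V (R i) hvW)
      · rw [hA _ (V_le_WW V (R i) hvW), h.q_V, map_smul]
  intro x hx
  obtain ⟨x', hx', hx'W, e1⟩ := key _ (hN hx.2)
  have h1 : x * x'⁻¹ ∈ R i := by
    rw [← h.fr.zero _ (mul_mem hx.1 (inv_mem hx'W)), h.fr.mul _ hx.1 _ (inv_mem hx'W), h.fr.q_inv hx'W, e1,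
      add_neg_cancel]
  have h2 := mul_mem (hVT (b.R_le i h1)) hx'
  rwa [inv_mul_cancel_right] at h2

/-- `SG g` is elementary abelian -/
theorem GFr.SG_sq {g : E} {P : Subgroup G} (hg : h.SG g ≤ ⨆ p : P, cj (p : G) V)
    (hPS : P ≤ normalizer (h.SG g : Set G)) (hV : ∀ x, x ∈ V ↔ ∃ b c, v b c = x) :
    ∀ x ∈ h.SG g, x * x = 1 := by
  have hVS := h.V_le_SG b hV g
  let T : Subgroup G :=
    { carrier := {x | x ∈ h.SG g ∧ x * x = 1}
      one_mem' := ⟨one_mem _, one_mul 1⟩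
      mul_mem' := by
        rintro x y ⟨hx, hx'⟩ ⟨hy, hy'⟩
        refine ⟨mul_mem hx hy, ?_⟩
        calc x * y * (x * y) = x * (y * x) * y := by group
          _ = x * (x * y) * y := by rw [h.SG_comm b hx hy]
          _ = (x * x) * (y * y) := by group
          _ = 1 := by rw [hx', hy', one_mul]
      inv_mem' := by
        rintro x ⟨hx, hx'⟩
        refine ⟨inv_mem hx, ?_⟩
        rw [← mul_inv_rev, hx', inv_one] }
  have hT : h.SG g ≤ T := by
    refine hg.trans (iSup_le fun p x hx => ?_)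
    have hx' := mem_cj.1 hx
    have e1 : x = p * ((p : G)⁻¹ * x * p) * (p : G)⁻¹ := by group
    constructor
    · rw [e1]
      exact conj_mem_of_normalizer (hPS p.2) (hVS hx')
    · have h3 := b.V_sq _ hx'
      calc x * x = p * ((p : G)⁻¹ * x * p * ((p : G)⁻¹ * x * p)) * (p : G)⁻¹ := by group
        _ = 1 := by rw [h3]; group
  exact fun x hx => (hT hx).2

end gen

end Cfsg.Agent.Omega.Lie.Nodes
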