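import Cfsg.Agent.Omega.Lie.Nodes.SigGrp
import Cfsg.Agent.Omega.Lie.LemT

/-!
# NODE LIE, TEXT NODES (#14331) (L): `P^` normalises `Σ = W_N y_2`

`P_norm_sigma`: `P ≤ C(R i)` acts `F`-linearly on `M`, preserves `N_g` and commutes with `A_g` on `M` ((S)), `KEY` and
`(l k)# = l² k#` imply `P ≤ N(Σ)`.
-/

set_option autoImplicit false
set_option linter.unusedSectionVars false

namespace Cfsg.Agent.Omega.Lie.Nodes

open Subgroup Cfsg.Agent.Omega.BTwo

universe u v w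

variable {G : Type u} [Group G] {ι : Type w}
    {V : Subgroup G} {R : ι → Subgroup G} {i j : ι} {F : Type v} [Field F] {v : F → F → G}
    {M E : Type u} [AddCommGroup M] [Module F M] [AddCommGroup E] [Module F E] {P1 P2 : G → E}
    {q : G → M} {f : M →ₗ[F] M →ₗ[F] F} {e : M} {M0 : Submodule F M} {n : E →ₗ[F] M} {s : E → E → M}
    {sh : E → E → F} {α : E → M →ₗ[F] M}

open Classical in
/-- the `n`-component of `m` -/
noncomputable def nco (e : M) (M0 : Submodule F M) (n : E →ₗ[F] M) (m : M) : E :=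
  if H : ∃ c : F, ∃ d ∈ M0, ∃ g, m = c • e + d + n g then H.choose_spec.choose_spec.2.choose else 0

theorem NFr.nco_eq (h : NFr f e M0 n s) {c : F} {d : M} (hd : d ∈ M0) (g : E) :
    nco e M0 n (c • e + d + n g) = g := by
  have H : ∃ c' : F, ∃ d' ∈ M0, ∃ g', c • e + d + n g = c' • e + d' + n g' := ⟨c, d, hd, g, rfl⟩
  unfold nco
  rw [dif_pos H]
  set c' := H.choose
  set d' := H.choose_spec.choose
  have hd' : d' ∈ M0 := H.choose_spec.choose_spec.1
  set g' := H.choose_spec.choose_spec.2.choose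
  have e1 : c • e + d + n g = c' • e + d' + n g' := H.choose_spec.choose_spec.2.choose_spec
  have h1 : (c' - c) • e + (d' - d) + n (g' - g) = 0 := by
    rw [sub_smul, map_sub]
    have : c' • e - c • e + (d' - d) + (n g' - n g) = (c' • e + d' + n g') - (c • e + d + n g) := by abel
    rw [this, e1, sub_self]
  exact sub_eq_zero.1 (h.indep _ _ (M0.sub_mem hd' hd) _ h1)

open Classical in
/-- `r` with `x = r • g` -/
noncomputable def rco (F : Type v) [Field F] {E : Type u} [AddCommGroup E] [Module F E] (g x : E) : F :=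
  if H : ∃ r : F, x = r • g then H.choose else 0

theorem rco_spec {g x : E} (H : ∃ r : F, x = r • g) : x = rco F g x • g := by
  unfold rco
  rw [dif_pos H]
  exact H.choose_spec

section

variable (h : GFr V R i j v P1 P2 q f e M0 n s sh α) (b : BTC V R)
    {w1 w2 : F → G} (y : YPair V R i j w1 w2 E P1 P2) [CharP F 2] (c : Coord V R i j v w1 w2)
    [Finite G] [Finite F]
include h b y c

/-- `[w, x] ∈ R i` is given by `r ⟨k#, g⟩` for `w ∈ C_W(SG g)` -/
theorem GFr.comm_formula {g : E} (hk : Key e n s α g) {x : G} (hx : x ∈ cj (nn w1 w2 1) (h.SG g)) {w : G}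
    (hw : w ∈ WW V (R i)) (hwC : ∀ z ∈ h.SG g, w * z = z * w) :
    w * x * w⁻¹ * x⁻¹ = v (rco F g (P2 x) * sh (nco e M0 n (q w)) g) 0 := by
  set m := nn w1 w2 1 with hm
  obtain ⟨hxU, hr⟩ := h.mem_cj_SG b.toBT y c hx
  have hr' := rco_spec hr
  set r := rco F g (P2 x) with hrd
  -- the components of `q w`
  have hperp : ∀ z ∈ Ng e n s g, f (q w) z = 0 := by
    intro z hz
    obtain ⟨z', hz', rfl⟩ := h.fr.surj z
    exact (h.fr.comm_iff hw hz').1 (hwC z' ⟨hz', hz⟩)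
  obtain ⟨a, d, hd, k, hqw, hdg, hsk⟩ := h.lin.mem_perp hperp
  have hnc : nco e M0 n (q w) = k := by rw [hqw, h.lin.nco_eq hd]
  rw [hnc]
  have hwU : w ∈ UU V R i := by
    apply h.mem_U w hw
    rw [h.lin.skew, hperp e e_mem_Ng, neg_zero]
  have hP1 : P1 w = k := by
    obtain ⟨c', d', hd', e2⟩ := h.q_U w hwU
    exact h.n_unique (c := c') (c' := a) hd' hd (by rw [← e2, hqw])
  -- conjugate to `U j`
  set w' := m⁻¹ * w * m with hw'
  have ew : m * w' * m⁻¹ = w := by rw [hw']; group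
  have hX := c.nn_mem_X b.toBT 1
  have hw'U : w' ∈ UU V R j := by
    have h1 : cj m (UU V R j) = UU V R i := b.cj_UU (b.X_le_NV hX) (c.nn_R2 b.toBT one_ne_zero)
    rw [← h1, mem_cj] at hwU
    exact hwU
  have hP2 : P2 w' = k := by
    have h2 := (y.nn1 b.toBT c one_ne_zero (UU_le_YY j hw'U)).1
    rw [one_smul] at h2
    rw [← h2, ← hP1, ← hm, ew]
  set x' := m⁻¹ * x * m with hx'
  have ex : m * x' * m⁻¹ = x := by rw [hx']; group
  have hx'S : x' ∈ h.SG g := mem_cj.1 hx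
  have hP1x : P1 x' = r • g := by
    have h2 := (y.nn1 b.toBT c one_ne_zero (UU_le_YY i (h.SG_le_U g hx'S))).2
    rw [inv_one, one_smul, ← hm, ex] at h2
    rw [← h2]; exact hr'
  -- `q x'`
  obtain ⟨c1, z, hz, r1, hqx⟩ := mem_Ng.1 hx'S.2
  have hr1 : r1 • g = r • g := by
    obtain ⟨c', d', hd', e2⟩ := h.q_U x' (h.SG_le_U g hx'S)
    rw [← hP1x]
    refine h.n_unique (c := c1) (c' := c') (h.lin.Zg_le hz) hd' ?_
    rw [← e2, hqx, map_smul]
  have hnr : r1 • n g = r • n g := by rw [← map_smul, hr1, map_smul]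
  -- `q [w', x']`
  have hcm : w' * x' * w'⁻¹ ∈ WW V (R i) :=
    conj_mem_of_normalizer (b.cen_le_NW i (UU_le_cen j hw'U)) hx'S.1
  have h3 : q (w' * x' * w'⁻¹) = q x' + (r * sh k g) • e := by
    rw [h.act w' hw'U x' hx'S.1, hP2, hqx, hnr]
    have hzk : f z (n k) = 0 := by
      refine Submodule.span_induction (p := fun z _ => f z (n k) = 0) ?_ ?_ ?_ ?_ hz
      · rintro _ ⟨l, rfl⟩
        rw [h.lin.T_swap, hsk, map_zero, LinearMap.zero_apply, neg_zero]
      · rw [map_zero, LinearMap.zero_apply]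
      · intro p p' _ _ hp hp'
        rw [map_add, LinearMap.add_apply, hp, hp', add_zero]
      · intro a' p _ hp
        rw [map_smul, LinearMap.smul_apply, hp, smul_zero]
    rw [map_add, map_add, map_smul, map_smul, h.α_e, h.α_M0 k z (h.lin.Zg_le hz), h.α_n, hzk, hsk]
    module
  have hcmm : w' * x' * w'⁻¹ * x'⁻¹ ∈ WW V (R i) := mul_mem hcm (inv_mem hx'S.1)
  have h4 : q (w' * x' * w'⁻¹ * x'⁻¹) = q (v 0 (r * sh k g)) := by
    rw [h.fr.mul _ hcm _ (inv_mem hx'S.1), h.fr.q_inv hx'S.1, h3, h.q_V]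
    abel
  -- `[w', x'] ∈ R j`
  have hcR : w' * x' * w'⁻¹ * x'⁻¹ ∈ R j := by
    -- `[w, x] ∈ R i`
    have h6 : w * x * w⁻¹ * x⁻¹ ∈ R i := by
      have hxw : x * w * x⁻¹ ∈ WW V (R i) := conj_mem_of_normalizer (b.cen_le_NW i (UU_le_cen j hxU)) hw
      have e1 : w * x * w⁻¹ * x⁻¹ = w * (x * w * x⁻¹)⁻¹ := by group
      rw [← h.fr.zero _ (by rw [e1]; exact mul_mem hw (inv_mem hxw)), h.fr.q_comm hw hxw,
        h.act x hxU w hw, hr', h.fix_perp b.toBT y hk hperp r, sub_self]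
    have h7 : w' * x' * w'⁻¹ * x'⁻¹ = m⁻¹ * (w * x * w⁻¹ * x⁻¹) * m := by rw [hw', hx']; group
    rw [h7, ← mem_cj, c.nn_R2 b.toBT one_ne_zero]
    exact h6
  obtain ⟨β, hβ⟩ := (c.mem_R2 _).1 hcR
  have h8 : β • e = (r * sh k g) • e := by
    rw [← h.q_V 0 β, ← h.q_V 0 (r * sh k g), ← h4, hβ]
  have he : e ≠ 0 := by
    intro h0
    have h9 : q (v 0 1) = 0 := by rw [h.q_V, h0, smul_zero]
    rw [h.fr.zero _ (V_le_WW V (R i) (c.v_mem 0 1)), c.mem_R1] at h9
    obtain ⟨b', hb'⟩ := h9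
    exact zero_ne_one (c.v_inj hb').2
  have h9 : β = r * sh k g := by
    by_contra hne
    apply he
    have h10 : (β - r * sh k g) • e = 0 := by rw [sub_smul, h8, sub_self]
    exact (smul_eq_zero.1 h10).resolve_left (sub_ne_zero.2 hne)
  have h10 : w * x * w⁻¹ * x⁻¹ = m * (w' * x' * w'⁻¹ * x'⁻¹) * m⁻¹ := by rw [hw', hx']; group
  rw [h10, ← hβ, h9]
  have h11 := c.nn_act one_ne_zero 0 (r * sh k g)
  rw [inv_one, one_mul, one_mul] at h11
  exact h11

/-- an element of `C(R i)` trivial on `M` lies in `W i` -/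
theorem GFr.mem_W_of_triv (hQ : QQ (R i) = WW V (R i)) (hZ : centralizer (WW V (R i) : Set G) ≤ R i) {g : G}
    (hg : g ∈ centralizer (R i : Set G)) (ht : ∀ x ∈ WW V (R i), q (g * x * g⁻¹) = q x) :
    g ∈ WW V (R i) := by
  have hgR : g ∈ normalizer (R i : Set G) := centralizer_le_normalizer _ hg
  have hgW := normalizer_le_WW V (R i) hgR
  rw [← hQ]
  have hRW : R i ≤ WW V (R i) := (b.R_le i).trans (V_le_WW V (R i))
  refine LemT.KT_le_Q b (N := centralizer (R i : Set G)) le_rfl (fun g hg x hx => ?_) ⟨⟨hg, ?_, ?_⟩, ?_, ?_⟩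
  · exact mul_mem (mul_mem hg hx) (inv_mem hg)
  · exact normalizer_le_normalizer_centralizer _ hgW
  · intro x hx
    have h1 := ht x hx
    have hx' := conj_mem_of_normalizer hgW hx
    have h2 : q (g * x * g⁻¹ * x⁻¹) = 0 := by
      rw [h.fr.mul _ hx' _ (inv_mem hx), h1, h.fr.q_inv hx, add_neg_cancel]
    exact b.R_cen_W i ((h.fr.zero _ (mul_mem hx' (inv_mem hx))).1 h2)
  · exact hgR
  · intro z hz
    have hz' := hZ hz.2
    rw [← mem_centralizer_iff.1 hg z hz', mul_inv_cancel_right, mul_inv_cancel]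
    exact one_mem _

/-- **`P^` normalises `Σ`** -/
theorem GFr.P_norm_sigma (hQ : QQ (R i) = WW V (R i)) (hZ : centralizer (WW V (R i) : Set G) ≤ R i)
    {g : E} (hk : Key e n s α g) {l : F} (hl : l ≠ 0) (hl1 : l ≠ 1)
    (hsq : ∀ k : E, sh (l • k) g = l * l * sh k g)
    {P : Subgroup G} (hPR : P ≤ centralizer (R i : Set G))
    (hP : ∀ p ∈ P, ∃ A : M →ₗ[F] M, (∀ x ∈ WW V (R i), q (p * x * p⁻¹) = A (q x)) ∧
      (∀ m ∈ Ng e n s g, A m ∈ Ng e n s g) ∧ ∀ (r : F) (m : M), A (α (r • g) m) = α (r • g) (A m)) :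
    P ≤ normalizer ((h.SG g ⊔ cj (nn w1 w2 1) (h.SG g) : Subgroup G) : Set G) := by
  have : Finite M := Finite.of_surjective (fun x : WW V (R i) => q x) fun m => by
    obtain ⟨x, hx, e1⟩ := h.fr.surj m
    exact ⟨⟨x, hx⟩, e1⟩
  have hPW : P ≤ normalizer (WW V (R i) : Set G) := fun p hp =>
    normalizer_le_WW V (R i) (centralizer_le_normalizer _ (hPR hp))
  have hPS : P ≤ normalizer (h.SG g : Set G) := by
    refine le_normalizer_of fun p hp x hx => ?_
    obtain ⟨A, hA, hN, -⟩ := hP p hp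
    refine ⟨conj_mem_of_normalizer (hPW hp) hx.1, ?_⟩
    rw [hA x hx.1]
    exact hN _ hx.2
  refine P_norm (n := nn w1 w2 1) h.fr (h.SG_le_W g) (h.SG_comm_cj b y c hk) hPR hPS hPW
    (fun p hp => (hP p hp).imp fun A hA => hA.1) ?_
    (fun x m => rco F g (P2 x) * sh (nco e M0 n m) g)
    (fun x hx w hw hwC => h.comm_formula b y c hk hx hw fun z hz => hwC z hz) hl hl1 ?_ ?_
  · -- (S)
    intro p hp x hx
    obtain ⟨hxU, r, hr⟩ := h.mem_cj_SG b.toBT y c hx
    obtain ⟨A, hA, hN, hAα⟩ := hP p hp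
    have hxW : x ∈ normalizer (WW V (R i) : Set G) := b.cen_le_NW i (UU_le_cen j hxU)
    have hxR : x ∈ centralizer (R i : Set G) := by
      rw [mem_centralizer_iff]
      exact fun z hz => mem_centralizer_iff.1 (UU_le_cen j hxU) z (b.R_le i hz)
    refine h.mem_W_of_triv b y c hQ hZ (mul_mem (mul_mem (mul_mem (hPR hp) hxR) (inv_mem (hPR hp)))
      (inv_mem hxR)) fun z hz => ?_
    -- `q (p z₀ p⁻¹) = A (q z₀)`, write `z = x p x⁻¹ ..`
    set z1 := x⁻¹ * z * x with hz1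
    have hz1W : z1 ∈ WW V (R i) := conj_inv_mem_of_normalizer hxW hz
    set z2 := p⁻¹ * z1 * p with hz2
    have hz2W : z2 ∈ WW V (R i) := conj_inv_mem_of_normalizer (hPW hp) hz1W
    have hxz2 : x * z2 * x⁻¹ ∈ WW V (R i) := conj_mem_of_normalizer hxW hz2W
    have hpz2 : p * z2 * p⁻¹ ∈ WW V (R i) := conj_mem_of_normalizer (hPW hp) hz2W
    have e1 : p * x * p⁻¹ * x⁻¹ * z * (p * x * p⁻¹ * x⁻¹)⁻¹ = p * (x * z2 * x⁻¹) * p⁻¹ := by
      rw [hz2, hz1]; group
    have e2 : z = x * (p * z2 * p⁻¹) * x⁻¹ := by rw [hz2, hz1]; group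
    rw [e1, hA _ hxz2, h.act x hxU _ hz2W, hr, hAα, ← hA _ hz2W, ← hr, ← h.act x hxU _ hpz2, ← e2]
  · -- `semi`
    intro x hx w hw hwC
    have hperp : ∀ z ∈ Ng e n s g, f (q w) z = 0 := by
      intro z hz
      obtain ⟨z', hz', rfl⟩ := h.fr.surj z
      exact (h.fr.comm_iff hw hz').1 (hwC z' ⟨hz', hz⟩)
    obtain ⟨a, d, hd, k, hqw, -, -⟩ := h.lin.mem_perp hperp
    show rco F g (P2 x) * sh (nco e M0 n (l • q w)) g = l * l * (rco F g (P2 x) * sh (nco e M0 n (q w)) g)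
    have e1 : l • q w = (l * a) • e + l • d + n (l • k) := by
      rw [hqw, smul_add, smul_add, map_smul, smul_smul]
    rw [e1, hqw, h.lin.nco_eq hd, h.lin.nco_eq (M0.smul_mem _ hd), hsq]
    ring
  · -- double centraliser
    exact h.fr.dc_of (h.R_le_SG b.toBT g) (h.SG_le_W g) (Ng e n s g)
      (fun x hx => ⟨fun h1 => h1.2, fun h1 => ⟨hx, h1⟩⟩) (h.lin.perp_perp _)

end

end Cfsg.Agent.Omega.Lie.Nodes
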