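import Cfsg.Agent.ParSys.ResFrat
import Cfsg.Agent.Omega.Lie.Nodes.SigCard
import Cfsg.Agent.Omega.Lie.Nodes.SigP
import Cfsg.Agent.Omega.Lie.End.Zero

/-!
# NODE LIE, the END: the field `frat` for the residues `(0, x)`, `x` a moved node

In the frame `GFr` of helper843 (`SG k` the preimage of `N_k`, `Σ = SG k ⊔ (SG k)^n`).

* `GFr.U_le_of`: `U_i ≤ [U_j, W_i] C_W(N)` if `C_N(A) = e` (duality);
* `GFr.U_le_D`: `U_i ≤ [W_i, U_j] D`;
* `GFr.sigma_inf_W`: `Σ ∩ W_i = SG k`;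
* `GFr.tau_step`: `C_W(SG k) ≤ [τ, C_W(SG k)] C_W(Σ)`;
* `GFr.frat_four`: the field `frat` for a quadrangle, `GFr.frat_three` for a plane.
-/

set_option autoImplicit false
set_option linter.unusedSectionVars false

namespace Cfsg.Agent.Omega.Lie.Nodes

open Subgroup Cfsg.Agent.Omega.BTwo Cfsg.Agent.ParSys
open scoped commutatorElement

universe u v w

variable {G : Type u} [Group G] {ι : Type w}
    {V : Subgroup G} {R : ι → Subgroup G} {i j : ι} {F : Type v} [Field F] {v : F → F → G}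
    {M E : Type u} [AddCommGroup M] [Module F M] [AddCommGroup E] [Module F E] {P1 P2 : G → E}
    {q : G → M} {f : M →ₗ[F] M →ₗ[F] F} {e : M} {M0 : Submodule F M} {n : E →ₗ[F] M} {s : E → E → M}
    {sh : E → E → F} {α : E → M →ₗ[F] M}

section dual

variable (h : GFr V R i j v P1 P2 q f e M0 n s sh α)
include h

theorem GFr.f_U {x : G} (hx : x ∈ UU V R i) : f (q x) e = 0 := by
  obtain ⟨c, d, hd, e1⟩ := h.q_U x hx
  rw [e1, map_add, map_add, LinearMap.add_apply, LinearMap.add_apply, map_smul, LinearMap.smul_apply, h.lin.ee,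
    h.lin.f_M0_e hd, h.lin.f_n_e, smul_zero, add_zero, add_zero]

/-- **Duality**: `U_i ≤ [U_j, W_i] C_W(N)` if the elements of `N` fixed by `A` are in `e`. -/
theorem GFr.U_le_of (b : BT V R) {w1 w2 : F → G} (y : YPair V R i j w1 w2 E P1 P2) [Finite G] [Finite F]
    (N : Submodule F M) (hN : ∀ m ∈ N, (∀ κ, α κ m = m) → ∃ c : F, m = c • e) {Ψ : Subgroup G}
    (h1 : ∀ u ∈ UU V R j, ∀ w ∈ WW V (R i), u * w * u⁻¹ * w⁻¹ ∈ Ψ)
    (h0 : ∀ w ∈ WW V (R i), (∀ m ∈ N, f (q w) m = 0) → w ∈ Ψ) : UU V R i ≤ Ψ := by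
  have : Finite M := Finite.of_surjective (fun x : WW V (R i) => q x) fun m => by
    obtain ⟨x, hx, e1⟩ := h.fr.surj m
    exact ⟨⟨x, hx⟩, e1⟩
  let Np : Submodule F M :=
    { carrier := {m | ∀ x ∈ N, f m x = 0}
      zero_mem' := fun x _ => by rw [map_zero, LinearMap.zero_apply]
      add_mem' := fun {m m'} hm hm' x hx => by rw [map_add, LinearMap.add_apply, hm x hx, hm' x hx, add_zero]
      smul_mem' := fun l m hm x hx => by rw [map_smul, LinearMap.smul_apply, hm x hx, smul_zero] }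
  let S : Set M := {m | ∃ κ m', m = α κ m' - m'}
  set T : Submodule F M := Submodule.span F S ⊔ Np with hT
  -- the predicate
  let p : M → Prop := fun m => ∀ x ∈ WW V (R i), q x = m → x ∈ Ψ
  have p0 : p 0 := fun x hx hq => h0 x hx fun m _ => by rw [hq, map_zero, LinearMap.zero_apply]
  have padd : ∀ m m', p m → p m' → p (m + m') := by
    intro m m' hm hm' x hx hq
    obtain ⟨x1, hx1, e1⟩ := h.fr.surj m
    have h2 := hm x1 hx1 e1
    have h3 := hm' (x1⁻¹ * x) (mul_mem (inv_mem hx1) hx) (by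
      rw [h.fr.mul _ (inv_mem hx1) _ hx, h.fr.q_inv hx1, e1, hq, neg_add_cancel_left])
    have := mul_mem h2 h3
    rwa [mul_inv_cancel_left] at this
  have pS : ∀ m ∈ Submodule.span F S, ∀ l : F, p (l • m) := by
    intro m hm
    refine Submodule.span_induction (p := fun m _ => ∀ l : F, p (l • m)) ?_ ?_ ?_ ?_ hm
    · rintro _ ⟨κ, m', rfl⟩ l x hx hq
      obtain ⟨u, hu, hu1, hu2⟩ := y.surj 0 κ
      have huU : u ∈ UU V R j := (y.mem_U2 u hu).2 hu1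
      obtain ⟨w, hw, e1⟩ := h.fr.surj (l • m')
      have hw' : u * w * u⁻¹ ∈ WW V (R i) := BTwo.conj_mem_of_normalizer (b.cen_le_NW i (UU_le_cen j huU)) hw
      have h2 : q (u * w * u⁻¹ * w⁻¹) = l • (α κ m' - m') := by
        rw [h.fr.mul _ hw' _ (inv_mem hw), h.fr.q_inv hw, h.act u huU w hw, e1, hu2, map_smul, smul_sub,
          sub_eq_add_neg]
      have h3 := h1 u huU w hw
      have h4 := p0 ((u * w * u⁻¹ * w⁻¹)⁻¹ * x) (mul_mem (inv_mem (mul_mem hw' (inv_mem hw))) hx) (by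
        rw [h.fr.mul _ (inv_mem (mul_mem hw' (inv_mem hw))) _ hx, h.fr.q_inv (mul_mem hw' (inv_mem hw)), h2, hq,
          neg_add_cancel])
      have := mul_mem h3 h4
      rwa [mul_inv_cancel_left] at this
    · intro l
      rw [smul_zero]
      exact p0
    · intro m m' _ _ hm hm' l
      rw [smul_add]
      exact padd _ _ (hm l) (hm' l)
    · intro a m _ hm l
      rw [smul_smul]
      exact hm _
  have pT : ∀ m ∈ T, p m := by
    intro m hm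
    obtain ⟨m1, hm1, m2, hm2, rfl⟩ := Submodule.mem_sup.1 hm
    refine padd _ _ ?_ ?_
    · have := pS m1 hm1 1
      rwa [one_smul] at this
    · intro x hx hq
      exact h0 x hx fun m hm => by rw [hq]; exact hm2 m hm
  intro x hx
  have hxW := UU_le_WW i hx
  refine pT (q x) (h.lin.perp_perp T _ fun m' hm' => ?_) x hxW rfl
  -- `m' ∈ T^⊥`
  have k1 : m' ∈ N := h.lin.perp_perp N _ fun m'' hm'' => hm' m'' (Submodule.mem_sup_right hm'')
  have k2 : ∀ κ, α κ m' = m' := by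
    intro κ
    rw [← sub_eq_zero]
    apply h.lin.nd
    intro m2
    obtain ⟨m3, rfl⟩ := h.α_surj b y κ m2
    have k3 := hm' (α κ m3 - m3) (Submodule.mem_sup_left (Submodule.subset_span ⟨κ, m3, rfl⟩))
    rw [map_sub, sub_eq_zero] at k3
    rw [map_sub, LinearMap.sub_apply, h.α_f, ← k3, sub_self]
  obtain ⟨c, rfl⟩ := hN m' k1 k2
  rw [map_smul, h.f_U hx, smul_zero]

/-- `C_N(A) = e` for `N = N_k` -/
theorem GFr.fixed_Ng {k : E} (he : e ≠ 0) (hne : ∃ κ, s k κ ≠ 0 ∨ sh κ k ≠ 0) {m : M} (hm : m ∈ Ng e n s k)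
    (hfix : ∀ κ, α κ m = m) : ∃ c : F, m = c • e := by
  obtain ⟨c, z, hz, r, rfl⟩ := mem_Ng.1 hm
  have hz0 := h.lin.Zg_le hz
  have key : ∀ κ, (f z (n κ) + r * sh κ k) • e + r • s k κ = 0 := by
    intro κ
    have h1 := hfix κ
    rw [map_add, map_add, map_smul, map_smul, h.α_e, h.α_M0 κ z hz0, h.α_n] at h1
    have h2 : (f z (n κ) + r * sh κ k) • e + r • s k κ =
        (c • e + (z + f z (n κ) • e) + r • (n k + s k κ + sh κ k • e)) - (c • e + z + r • n k) := by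
      rw [smul_add, smul_add, smul_smul, add_smul]
      abel
    rw [h2, h1, sub_self]
  -- independence of `e` and `M0`
  have hind : ∀ (a : F) (d : M), d ∈ M0 → a • e + d = 0 → a • e = 0 ∧ d = 0 := by
    intro a d hd h1
    have h2 : d = 0 := by
      apply h.lin.inj d hd
      intro g
      have h3 := congrArg (fun m => f m (n g)) h1
      simpa only [map_add, LinearMap.add_apply, map_smul, LinearMap.smul_apply, h.lin.f_e_n, smul_zero, zero_add,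
        map_zero, LinearMap.zero_apply] using h3
    rw [h2, add_zero] at h1
    exact ⟨h1, h2⟩
  have k1 : ∀ κ, f z (n κ) + r * sh κ k = 0 ∧ r • s k κ = 0 := by
    intro κ
    obtain ⟨h1, h2⟩ := hind _ _ (M0.smul_mem r (h.lin.s_mem k κ)) (key κ)
    exact ⟨(smul_eq_zero.1 h1).resolve_right he, h2⟩
  have hr : r = 0 := by
    by_contra hr
    have h2 : ∀ κ, s k κ = 0 := fun κ => (smul_eq_zero.1 (k1 κ).2).resolve_left hr
    have h3 : z = 0 := by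
      refine Submodule.span_induction (p := fun z _ => z = 0) ?_ rfl ?_ ?_ hz
      · rintro _ ⟨κ, rfl⟩
        exact h2 κ
      · rintro x y _ _ rfl rfl
        rw [add_zero]
      · rintro a x _ rfl
        rw [smul_zero]
    obtain ⟨κ, hκ | hκ⟩ := hne
    · exact hκ (h2 κ)
    · have h4 := (k1 κ).1
      rw [h3, map_zero, LinearMap.zero_apply, zero_add] at h4
      exact hκ ((mul_eq_zero.1 h4).resolve_left hr)
  have hz' : z = 0 := by
    apply h.lin.inj z hz0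
    intro g
    have := (k1 g).1
    rwa [hr, zero_mul, add_zero] at this
  exact ⟨c, by rw [hz', hr, zero_smul, add_zero, add_zero]⟩

end dual

/-- `U_i ≤ [W_i, U_j] D` -/
theorem U_le_D [Finite G] (b : BT V R) {w1 w2 : F → G} (c : Coord V R i j v w1 w2) {Ψ : Subgroup G}
    (h1 : ∀ w ∈ WW V (R i), ∀ u ∈ UU V R j, w * u * w⁻¹ * u⁻¹ ∈ Ψ) :
    ∀ x ∈ UU V R i, ∃ k ∈ Ψ, ∃ d ∈ DD V R, x = k * d := by
  intro x hx
  have hw : w1 1 ∉ UU V R i := by
    intro hw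
    have h2 := mem_centralizer_iff.1 (UU_le_cen i hw) _ (c.v_mem 0 1)
    have h3 := c.w1_act 1 0 1
    rw [← h2, mul_inv_cancel_right] at h3
    have h4 := (c.v_inj h3).1
    rw [zero_add, mul_one] at h4
    exact zero_ne_one h4
  obtain ⟨u, hu, h2⟩ := b.surj c.ne.symm (c.w1_mem 1) hw hx
  exact ⟨_, h1 _ (c.w1_mem 1) u hu, _, h2, by rw [mul_inv_cancel_left]⟩

section sigma

variable (h : GFr V R i j v P1 P2 q f e M0 n s sh α) (b : BTC V R)
    {w1 w2 : F → G} (y : YPair V R i j w1 w2 E P1 P2) [CharP F 2] (c : Coord V R i j v w1 w2)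
    [Finite G] [Finite F]
include h b y c

/-- `Σ ∩ W_i = SG k` -/
theorem GFr.sigma_inf_W {k : E} (hk : Key e n s α k) :
    (h.SG k ⊔ cj (nn w1 w2 1) (h.SG k)) ⊓ WW V (R i) = h.SG k := by
  apply le_antisymm
  · intro x hx
    obtain ⟨hx, hxW⟩ := mem_inf.1 hx
    have hn : cj (nn w1 w2 1) (h.SG k) ≤ normalizer (h.SG k : Set G) := by
      refine le_normalizer_of fun x hx z hz => ?_
      rw [← h.SG_comm_cj b y c hk z hz x hx, mul_inv_cancel_right]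
      exact hz
    have h1 : x ∈ ((h.SG k ⊔ cj (nn w1 w2 1) (h.SG k) : Subgroup G) : Set G) := hx
    rw [coe_mul_of_right_le_normalizer_left _ _ hn] at h1
    obtain ⟨s1, hs1, s2, hs2, rfl⟩ := h1
    have hs1' : s1 ∈ h.SG k := hs1
    have hs2' : s2 ∈ cj (nn w1 w2 1) (h.SG k) := hs2
    have h2 : s2 ∈ WW V (R i) := by
      have := mul_mem (inv_mem (h.SG_le_W k hs1')) hxW
      rwa [inv_mul_cancel_left] at this
    have hU := (h.mem_cj_SG b.toBT y c hs2').1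
    have hD : s2 ∈ DD V R := by
      rw [b.D_eq' c.ne]
      exact mem_inf.2 ⟨h2, UU_le_WW j hU⟩
    have hnD : nn w1 w2 1 ∈ normalizer (DD V R : Set G) := b.NV_le_ND (b.X_le_NV (c.nn_mem_X b.toBT 1))
    set z := (nn w1 w2 1)⁻¹ * s2 * nn w1 w2 1 with hz
    have hzS : z ∈ h.SG k := mem_cj.1 hs2'
    have hzD : z ∈ DD V R := conj_inv_mem_of_normalizer hnD hD
    have hzZ : z ∈ h.DZ k := by
      refine ⟨hzS.1, ?_⟩
      obtain ⟨c1, d, hd, e1⟩ := h.q_D b.toBT y hzD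
      obtain ⟨c2, z', hz', r, e2⟩ := mem_Ng.1 hzS.2
      have h3 : (0 : E) = r • k := by
        refine h.n_unique (c := c1) (c' := c2) hd (h.lin.Zg_le hz') ?_
        rw [map_zero, add_zero, ← e1, e2, map_smul]
      rw [e2, ← map_smul, ← h3, map_zero, add_zero]
      exact mem_eZ.2 ⟨c2, z', hz', rfl⟩
    have h3 := BTwo.conj_mem_of_normalizer (h.X_norm_DZ b.toBT c.mem_V y k (c.nn_mem_X b.toBT 1)) hzZ
    have e3 : nn w1 w2 1 * z * (nn w1 w2 1)⁻¹ = s2 := by rw [hz]; group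
    rw [e3] at h3
    exact mul_mem hs1' (h.DZ_le_SG k h3)
  · exact le_inf le_sup_left (h.SG_le_W k)

/-- an element of `N(Σ) ∩ N(R i)` normalises `SG k` -/
theorem GFr.norm_SG {k : E} (hk : Key e n s α k) {g : G}
    (h1 : g ∈ normalizer ((h.SG k ⊔ cj (nn w1 w2 1) (h.SG k) : Subgroup G) : Set G))
    (h2 : g ∈ normalizer (R i : Set G)) : g ∈ normalizer (h.SG k : Set G) := by
  rw [← cj_eq_self_iff] at h1
  have h3 := cj_eq_self_iff.2 (normalizer_le_WW V (R i) h2)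
  rw [← cj_eq_self_iff, ← h.sigma_inf_W b y c hk, cj_inf, h1, h3]

/-- **`C_W(SG k) ≤ [τ, C_W(SG k)] C_W(Σ)`**, `τ = h(a)`. -/
theorem GFr.tau_step {k : E} (hk : Key e n s α k) (hs0 : sh 0 k = 0) {a : F} (ha : a ≠ 0) (ha1 : a ≠ 1)
    {x : G} (hx : x ∈ WW V (R i)) (hxC : ∀ z ∈ h.SG k, x * z = z * x) :
    ∃ x' ∈ WW V (R i), (∀ z ∈ h.SG k, x' * z = z * x') ∧
      (hh w1 w2 a * x' * (hh w1 w2 a)⁻¹ * x'⁻¹)⁻¹ * x ∈ WW V (R i) ∧
      ∀ z ∈ h.SG k ⊔ cj (nn w1 w2 1) (h.SG k), (hh w1 w2 a * x' * (hh w1 w2 a)⁻¹ * x'⁻¹)⁻¹ * x * z =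
        z * ((hh w1 w2 a * x' * (hh w1 w2 a)⁻¹ * x'⁻¹)⁻¹ * x) := by
  set τ := hh w1 w2 a with hτ
  have hτX : τ ∈ XX V R := c.hh_mem_X b.toBT a
  have hτR : τ ∈ normalizer (R i : Set G) := cj_eq_self_iff.1 (c.hh_R1 b.toBT ha)
  have hτS : τ ∈ normalizer (h.SG k : Set G) := h.norm_SG b y c hk (h.X_norm_sigma b y c hk hτX) hτR
  have hτW : τ ∈ normalizer (WW V (R i) : Set G) := normalizer_le_WW V (R i) hτR
  have ha1' : a - 1 ≠ 0 := sub_ne_zero.2 ha1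
  -- `C_W(SG k)`
  have hC : ∀ {x : G}, x ∈ WW V (R i) → (∀ z ∈ h.SG k, x * z = z * x) → ∀ m ∈ Ng e n s k, f (q x) m = 0 := by
    intro x hx hxC m hm
    obtain ⟨z', hz', rfl⟩ := h.fr.surj m
    exact (h.fr.comm_iff hx hz').1 (hxC z' ⟨hz', hm⟩)
  have hCU : ∀ {x : G}, x ∈ WW V (R i) → (∀ z ∈ h.SG k, x * z = z * x) → x ∈ UU V R i := by
    intro x hx hxC
    apply h.mem_U x hx
    rw [h.lin.skew, hC hx hxC e e_mem_Ng, neg_zero]
  obtain ⟨x', hx', e1⟩ := h.fr.surj ((a - 1)⁻¹ • q x)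
  have hx'C : ∀ z ∈ h.SG k, x' * z = z * x' := by
    intro z hz
    rw [h.fr.comm_iff hx' (h.SG_le_W k hz), e1, map_smul, LinearMap.smul_apply, hC hx hxC _ hz.2, smul_zero]
  have hxU := hCU hx hxC
  have hx'U := hCU hx' hx'C
  have hP1 : P1 x' = (a - 1)⁻¹ • P1 x := by
    obtain ⟨c1, d1, hd1, e2⟩ := h.q_U x hxU
    obtain ⟨c2, d2, hd2, e3⟩ := h.q_U x' hx'U
    refine h.n_unique (c := c2) (c' := (a - 1)⁻¹ * c1) (d := d2) (d' := (a - 1)⁻¹ • d1) hd2 (M0.smul_mem _ hd1) ?_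
    rw [← e3, e1, e2, smul_add, smul_add, smul_smul, map_smul]
  -- the commutator
  set g := τ * x' * τ⁻¹ * x'⁻¹ with hg
  have hcx' : τ * x' * τ⁻¹ ∈ WW V (R i) := BTwo.conj_mem_of_normalizer hτW hx'
  have hgW : g ∈ WW V (R i) := mul_mem hcx' (inv_mem hx')
  have hcC : ∀ z ∈ h.SG k, τ * x' * τ⁻¹ * z = z * (τ * x' * τ⁻¹) := by
    intro z hz
    have h1 := hx'C (τ⁻¹ * z * τ) (conj_inv_mem_of_normalizer hτS hz)
    calc τ * x' * τ⁻¹ * z = τ * (x' * (τ⁻¹ * z * τ)) * τ⁻¹ := by group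
      _ = τ * (τ⁻¹ * z * τ * x') * τ⁻¹ := by rw [h1]
      _ = z * (τ * x' * τ⁻¹) := by group
  have hCsub : ∀ {p r : G}, (∀ z ∈ h.SG k, p * z = z * p) → (∀ z ∈ h.SG k, r * z = z * r) →
      ∀ z ∈ h.SG k, p * r⁻¹ * z = z * (p * r⁻¹) := by
    intro p r hp hr z hz
    have h1 : r⁻¹ * z = z * r⁻¹ := by
      have := hr z hz
      calc r⁻¹ * z = r⁻¹ * (z * r) * r⁻¹ := by group
        _ = r⁻¹ * (r * z) * r⁻¹ := by rw [this]
        _ = z * r⁻¹ := by group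
    rw [mul_assoc, h1, ← mul_assoc, hp z hz, mul_assoc]
  have hgC : ∀ z ∈ h.SG k, g * z = z * g := hCsub hcC hx'C
  have hgxC : ∀ z ∈ h.SG k, g⁻¹ * x * z = z * (g⁻¹ * x) := by
    have h1 : ∀ z ∈ h.SG k, x⁻¹ * g * z = z * (x⁻¹ * g) := by
      intro z hz
      have h2 := hCsub (p := 1) (r := x) (fun z _ => by rw [one_mul, mul_one]) hxC z hz
      rw [one_mul] at h2
      rw [mul_assoc, hgC z hz, ← mul_assoc, h2, mul_assoc]
    intro z hz
    have h2 := hCsub (p := 1) (r := x⁻¹ * g) (fun z _ => by rw [one_mul, mul_one]) h1 z hz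
    rw [one_mul, mul_inv_rev, inv_inv] at h2
    exact h2
  have hgx : g⁻¹ * x ∈ WW V (R i) := mul_mem (inv_mem hgW) hx
  -- `P1 (g⁻¹ x) = 0`
  have hcU := hCU hcx' hcC
  have hY : ∀ {x}, x ∈ UU V R i → x ∈ YY V R := fun hx => UU_le_YY i hx
  have hP : P1 (g⁻¹ * x) = 0 := by
    have h1 : P1 (τ * x' * τ⁻¹) = a • P1 x' := (y.hh1 b.toBT c ha (hY hx'U)).1
    have hgU : g ∈ UU V R i := hCU hgW hgC
    have h2 : P1 g = P1 x := by
      rw [hg, y.mul1 _ (hY hcU) _ (inv_mem (hY hx'U)), y.inv1 (hY hx'U), h1, hP1, smul_smul, ← sub_eq_add_neg,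
        ← sub_smul]
      have e4 : a * (a - 1)⁻¹ - (a - 1)⁻¹ = 1 := by
        rw [← sub_one_mul, mul_inv_cancel₀ ha1']
      rw [e4, one_smul]
    rw [y.mul1 _ (inv_mem (hY hgU)) _ (hY hxU), y.inv1 (hY hgU), h2, neg_add_cancel]
  refine ⟨x', hx', hx'C, hgx, ?_⟩
  -- `g⁻¹ x` centralises `(SG k)^n`
  have hnc : nco e M0 n (q (g⁻¹ * x)) = 0 := by
    obtain ⟨c1, d1, hd1, e2⟩ := h.q_U _ (hCU hgx hgxC)
    rw [e2, h.lin.nco_eq hd1, hP]
  have hcj : ∀ z ∈ cj (nn w1 w2 1) (h.SG k), g⁻¹ * x * z = z * (g⁻¹ * x) := by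
    intro z hz
    have h1 := h.comm_formula b y c hk hz hgx hgxC
    rw [hnc, hs0, mul_zero, c.v_zero, mul_inv_eq_one, mul_inv_eq_iff_eq_mul] at h1
    exact h1
  have hle : h.SG k ⊔ cj (nn w1 w2 1) (h.SG k) ≤ centralizer {g⁻¹ * x} :=
    sup_le (fun z hz => mem_centralizer_singleton_iff.2 (hgxC z hz).symm)
      (fun z hz => mem_centralizer_singleton_iff.2 (hcj z hz).symm)
  exact fun z hz => (mem_centralizer_singleton_iff.1 (hle hz)).symm

end sigma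

/-! ### The residue -/

/-- Data of the node `x`: `P x` normalises `R i`, `W_x` (the subgroup `S`), and its chambers are the conjugates of `V`. -/
structure NodeX (V : Subgroup G) (R : ι → Subgroup G) (i : ι) (B U Px : Subgroup G) : Prop where
  norm : B ≤ normalizer (U : Set G)
  isP : IsPGroup 2 U
  index : Nat.Coprime 2 (U.relIndex B)
  YU : YY V R ≤ U
  le : B ≤ Px
  PR : Px ≤ normalizer (R i : Set G)
  PV : Px ⊓ normalizer (V : Set G) ≤ B
  reg : ∀ u ∈ U, ∀ g ∈ Px, g ∉ B → g⁻¹ * u * g ∈ B → u ∈ Qk B Px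

section res

variable {B U : Subgroup G} {I : Type*} {P : I → Subgroup G} {o x : I}

/-- `C_U(Σ)` is in the kernel of the residue -/
theorem cen_le_Qk_res [Finite G] (b : BT V R) (D : Zero.Dat V R i B U) (hPo : P o = Zero.P0 V R B) (X : NodeX V R i B U (P x))
    {Sig : Subgroup G} (hVS : V ≤ Sig) (hX : XX V R ≤ normalizer (Sig : Set G)) (hP : P x ≤ normalizer (Sig : Set G))
    {z : G} (hz : z ∈ U) (hzS : z ∈ centralizer (Sig : Set G)) : z ∈ Qk B (P o ⊔ P x) := by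
  have hp := mem_U_of_conj (p := 2) X.norm X.isP X.index
  have key : ∀ g ∈ P o ⊔ P x, ∀ z ∈ U ⊓ centralizer (Sig : Set G), g⁻¹ * z * g ∈ U ⊓ centralizer (Sig : Set G) := by
    have h0 : ∀ g ∈ P o, ∀ z ∈ U ⊓ centralizer (Sig : Set G), g⁻¹ * z * g ∈ U ⊓ centralizer (Sig : Set G) := by
      rintro g hg z hz
      obtain ⟨hz1, hz2⟩ := mem_inf.1 hz
      rw [hPo] at hg
      have hgN : g ∈ normalizer (Sig : Set G) := (sup_le hX (X.le.trans hP)) hg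
      refine mem_inf.2 ⟨hp z hz1 g ?_, BTwo.conj_inv_mem_of_normalizer (normalizer_le_normalizer_centralizer _ hgN) hz2⟩
      exact Zero.cen_le_Qk b D ((le_sup_right : B ≤ Zero.P0 V R B) (D.UB hz1)) (centralizer_le hVS hz2) g hg
    have h1 : ∀ g ∈ P x, ∀ z ∈ U ⊓ centralizer (Sig : Set G), g⁻¹ * z * g ∈ U ⊓ centralizer (Sig : Set G) := by
      rintro g hg z hz
      obtain ⟨hz1, hz2⟩ := mem_inf.1 hz
      have h2 := BTwo.conj_inv_mem_of_normalizer (normalizer_le_normalizer_centralizer _ (hP hg)) hz2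
      refine mem_inf.2 ⟨hp z hz1 g (X.PV (mem_inf.2 ⟨?_, ?_⟩)), h2⟩
      · exact mul_mem (mul_mem (inv_mem hg) (X.le (D.UB hz1))) hg
      · exact (cen_le_NV V) (centralizer_le hVS h2)
    let T : Subgroup G :=
      { carrier := {g | (∀ z ∈ U ⊓ centralizer (Sig : Set G), g⁻¹ * z * g ∈ U ⊓ centralizer (Sig : Set G)) ∧
          ∀ z ∈ U ⊓ centralizer (Sig : Set G), g * z * g⁻¹ ∈ U ⊓ centralizer (Sig : Set G)}
        one_mem' := ⟨fun z hz => by simpa using hz, fun z hz => by simpa using hz⟩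
        mul_mem' := by
          rintro g g' ⟨h1, h1'⟩ ⟨h2, h2'⟩
          refine ⟨fun z hz => ?_, fun z hz => ?_⟩
          · have := h2 _ (h1 z hz)
            rwa [show g'⁻¹ * (g⁻¹ * z * g) * g' = (g * g')⁻¹ * z * (g * g') by group] at this
          · have := h1' _ (h2' z hz)
            rwa [show g * (g' * z * g'⁻¹) * g⁻¹ = (g * g') * z * (g * g')⁻¹ by group] at this
        inv_mem' := by
          rintro g ⟨h1, h1'⟩
          exact ⟨fun z hz => by rw [inv_inv]; exact h1' z hz, fun z hz => by rw [inv_inv]; exact h1 z hz⟩ }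
    have hT : P o ⊔ P x ≤ T := sup_le
      (fun g hg => ⟨h0 g hg, fun z hz => by have := h0 _ (inv_mem hg) z hz; rwa [inv_inv] at this⟩)
      (fun g hg => ⟨h1 g hg, fun z hz => by have := h1 _ (inv_mem hg) z hz; rwa [inv_inv] at this⟩)
    exact fun g hg => (hT hg).1
  exact le_Qk_of (inf_le_left.trans D.UB) key (mem_inf.2 ⟨hz, hzS⟩)

/-- `W_i` is in the kernel of the panel of `x` -/
theorem W_le_Qx (D : Zero.Dat V R i B U) (X : NodeX V R i B U (P x)) : WW V (R i) ≤ Qk B (P x) :=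
  le_Qk_of (D.WU.trans D.UB) fun _ hg _ hz =>
    BTwo.conj_inv_mem_of_normalizer (normalizer_le_WW V (R i) (X.PR hg)) hz

variable {w1 w2 : F → G} [CharP F 2] [Finite G] [Finite F]

theorem nn_mem_P0 (b : BT V R) (c : Coord V R i j v w1 w2) : nn w1 w2 1 ∈ Zero.P0 V R B :=
  (le_sup_left : XX V R ≤ _) (c.nn_mem_X b 1)

theorem nn_notMem (b : BT V R) (c : Coord V R i j v w1 w2) (D : Zero.Dat V R i B U) : nn w1 w2 1 ∉ B := by
  rw [Zero.not_mem_B_iff b D (nn_mem_P0 b c)]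
  exact ⟨j, c.ne.symm, c.nn_R1 b one_ne_zero⟩

/-- `n U_j n⁻¹ = U_i` -/
theorem nn_U (b : BT V R) (c : Coord V R i j v w1 w2) {u : G} (hu : u ∈ UU V R j) :
    nn w1 w2 1 * u * (nn w1 w2 1)⁻¹ ∈ UU V R i := by
  rw [← b.cj_UU (b.X_le_NV (c.nn_mem_X b 1)) (c.nn_R2 b one_ne_zero)]
  exact conj_mem_cj hu

/-- **The field `frat` for a plane** (type `(alpha)`): `Σ = W_N` is centralised by `C_W(N)`. -/
theorem GFr.frat_three (h : GFr V R i j v P1 P2 q f e M0 n s sh α) (b : BTC V R)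
    (y : YPair V R i j w1 w2 E P1 P2) (c : Coord V R i j v w1 w2) (D : Zero.Dat V R i B U)
    (hPo : P o = Zero.P0 V R B) (X : NodeX V R i B U (P x)) (poly : Polygon B P o x 3)
    (N : Submodule F M) (hN : ∀ m ∈ N, (∀ κ, α κ m = m) → ∃ c : F, m = c • e) (heN : e ∈ N)
    (hX : XX V R ≤ normalizer (pre h.fr N : Set G)) (hP : P x ≤ normalizer (pre h.fr N : Set G))
    {y0 : G} (hy0 : y0 ∈ P x) (hy0B : y0 ∉ B)
    (tr1 : ∀ y' ∈ P x, y' ∉ B → ∃ u ∈ UU V R j, (u * y0)⁻¹ * y' ∈ B) :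
    ∀ Z ≤ U, (∀ u ∈ U, ∃ z ∈ Z, z⁻¹ * u ∈ Qk B (P o) ∧ z⁻¹ * u ∈ Qk B (P x)) →
      ∀ u ∈ U, ∃ z ∈ Z, z⁻¹ * u ∈ Qk B (P o ⊔ P x) := by
  have hUjU : UU V R j ≤ U := (UU_le_YY j).trans X.YU
  have hUiU : UU V R i ≤ U := (UU_le_YY i).trans X.YU
  have hVS : V ≤ pre h.fr N := by
    intro z hz
    obtain ⟨a, a', rfl⟩ := (c.mem_V z).1 hz
    refine ⟨V_le_WW V (R i) hz, ?_⟩
    rw [h.q_V]
    exact N.smul_mem _ heN
  refine frat_of_cover (p := 2) (O := UU V R i) (by rw [hPo]; exact le_sup_right) D.UB X.isP hUiU ?_ ?_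
  · refine poly.cover_three (U2 := UU V R j) (n := nn w1 w2 1) (y := y0) (by rw [hPo]; exact le_sup_right) X.le D.UB
      (mem_U_of_conj (p := 2) X.norm X.isP X.index) (by rw [hPo]; exact Zero.reg b.toBT D) X.reg
      (by rw [hPo]; exact nn_mem_P0 b.toBT c) (nn_notMem b.toBT c D) hy0 hy0B hUiU
      ((UU_le_WW i).trans (W_le_Qx D X)) (fun u hu => nn_U b.toBT c hu) tr1
  · refine h.U_le_of b.toBT y N hN (fun u hu w hw => ?_) fun w hw h0 => ?_
    · exact Subgroup.mem_sup_left (commutator_mem_commutator (hUjU hu) (D.WU hw))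
    · refine Subgroup.mem_sup_right (mem_inf.2 ⟨D.WU hw, ?_⟩)
      refine cen_le_Qk_res b.toBT D hPo X hVS hX hP (D.WU hw) ?_
      rw [mem_centralizer_iff]
      intro z hz
      exact ((h.fr.comm_iff hw hz.1).2 (h0 _ hz.2)).symm

/-- the groups `y₀⁻¹ D y₀` is transitive on the points `≠ R i` of `V` -/
theorem GFr.exists_D (h : GFr V R i j v P1 P2 q f e M0 n s sh α) (b : BTC V R)
    (y : YPair V R i j w1 w2 E P1 P2) (c : Coord V R i j v w1 w2) {y0 : G} (hy0 : y0 ∈ normalizer (R i : Set G))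
    (hDV : ∃ d ∈ DD V R, ∃ z ∈ V, d * (y0 * z * y0⁻¹) ≠ y0 * z * y0⁻¹ * d) {k : ι} (hk : k ≠ i) :
    ∃ u ∈ DD V R, cj (y0⁻¹ * u * y0) (R j) = R k := by
  have hcV : ∀ β γ, y0 * v β γ * y0⁻¹ ∈ WW V (R i) := fun β γ =>
    BTwo.conj_mem_of_normalizer (normalizer_le_WW V (R i) hy0) (V_le_WW V (R i) (c.v_mem β γ))
  set ℓ := q (y0 * v 0 1 * y0⁻¹) with hℓ
  -- `f(D, ℓ) ≠ 0`
  have h1 : ∃ d ∈ DD V R, f (q d) ℓ ≠ 0 := by
    obtain ⟨d, hd, z, hz, hne⟩ := hDV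
    refine ⟨d, hd, fun h0 => hne ?_⟩
    obtain ⟨β, γ, rfl⟩ := (c.mem_V z).1 hz
    have hdW := D_le_W V R i hd
    -- `d` centralises `y0 v(0,1) y0⁻¹`; it acts on `V` (moved back) as `up a`, hence `a = 0`
    set w := y0⁻¹ * d * y0 with hw
    have hwW : w ∈ WW V (R i) := BTwo.conj_inv_mem_of_normalizer (normalizer_le_WW V (R i) hy0) hdW
    obtain ⟨a, ha⟩ := c.exists_up hwW
    have h2 := (h.fr.comm_iff hdW (hcV 0 1)).2 h0
    have h3 : w * v 0 1 * w⁻¹ = v 0 1 := by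
      rw [hw]
      calc y0⁻¹ * d * y0 * v 0 1 * (y0⁻¹ * d * y0)⁻¹ = y0⁻¹ * (d * (y0 * v 0 1 * y0⁻¹)) * d⁻¹ * y0 := by group
        _ = y0⁻¹ * (y0 * v 0 1 * y0⁻¹ * d) * d⁻¹ * y0 := by rw [h2]
        _ = v 0 1 := by group
    have h4 := ha 0 1
    rw [h3, Lib.SL2Mat.up_00, Lib.SL2Mat.up_01, Lib.SL2Mat.up_10, Lib.SL2Mat.up_11] at h4
    have h5 := (c.v_inj h4).1
    have ha0 : a = 0 := by
      rw [mul_zero, mul_one, zero_add] at h5
      exact h5.symm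
    have h6 := ha β γ
    rw [ha0, Lib.SL2Mat.up_00, Lib.SL2Mat.up_01, Lib.SL2Mat.up_10, Lib.SL2Mat.up_11, one_mul, zero_mul, add_zero,
      zero_mul, one_mul, zero_add] at h6
    have h7 : w * v β γ = v β γ * w := mul_inv_eq_iff_eq_mul.1 h6
    calc d * (y0 * v β γ * y0⁻¹) = y0 * (w * v β γ) * y0⁻¹ := by rw [hw]; group
      _ = y0 * (v β γ * w) * y0⁻¹ := by rw [h7]
      _ = y0 * v β γ * y0⁻¹ * d := by rw [hw]; group
  obtain ⟨d0, hd0, hne⟩ := h1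
  -- every value is taken
  have h2 : ∀ β : F, ∃ d ∈ DD V R, f (q d) ℓ = β := by
    intro β
    obtain ⟨c1, m1, hm1, e1⟩ := h.q_D b.toBT y hd0
    obtain ⟨d, hd, e2⟩ := h.fr.surj ((β * (f (q d0) ℓ)⁻¹) • q d0)
    refine ⟨d, ?_, ?_⟩
    · refine h.mem_D_of b.toBT y hd (c := β * (f (q d0) ℓ)⁻¹ * c1) (d := (β * (f (q d0) ℓ)⁻¹) • m1)
        (M0.smul_mem _ hm1) ?_
      rw [e2, e1, smul_add, smul_smul]
    · rw [e2, map_smul, LinearMap.smul_apply, smul_eq_mul, mul_assoc, inv_mul_cancel₀ hne, mul_one]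
  obtain ⟨w', hw', ew'⟩ := b.trans i c.ne.symm hk
  obtain ⟨a, ha⟩ := c.exists_up hw'
  -- the element of `R i` corresponding to `v a 0`
  have h3 : y0 * v a 0 * y0⁻¹ ∈ R i := BTwo.conj_mem_of_normalizer hy0 ((c.mem_R1 _).2 ⟨a, rfl⟩)
  obtain ⟨β, hβ⟩ := (c.mem_R1 _).1 h3
  obtain ⟨d, hd, hdβ⟩ := h2 β
  refine ⟨d, hd, ?_⟩
  have hdW := D_le_W V R i hd
  set w := y0⁻¹ * d * y0 with hw
  have hwW : w ∈ WW V (R i) := BTwo.conj_inv_mem_of_normalizer (normalizer_le_WW V (R i) hy0) hdW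
  obtain ⟨a', ha'⟩ := c.exists_up hwW
  have h4 : w * v 0 1 * w⁻¹ = v a 0 * v 0 1 := by
    have h5 := h.fr.comm d hdW _ (hcV 0 1)
    rw [← hℓ, hdβ] at h5
    have h5' : d * (y0 * v 0 1 * y0⁻¹) * d⁻¹ * (y0 * v 0 1 * y0⁻¹)⁻¹ = v β 0 := h5
    rw [hβ] at h5'
    calc w * v 0 1 * w⁻¹ = y0⁻¹ * (d * (y0 * v 0 1 * y0⁻¹) * d⁻¹ * (y0 * v 0 1 * y0⁻¹)⁻¹) * y0 * v 0 1 := by
          rw [hw]; group
      _ = y0⁻¹ * (y0 * v a 0 * y0⁻¹) * y0 * v 0 1 := by rw [h5']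
      _ = v a 0 * v 0 1 := by group
  have h5 := ha' 0 1
  rw [h4, ← c.v_add, Lib.SL2Mat.up_00, Lib.SL2Mat.up_01, Lib.SL2Mat.up_10, Lib.SL2Mat.up_11] at h5
  have h6 := (c.v_inj h5).1
  have haa : a' = a := by
    rw [add_zero, mul_zero, mul_one, zero_add] at h6
    exact h6.symm
  subst haa
  rw [← ew']
  -- the same action on `V`
  ext z
  rw [mem_cj, mem_cj]
  have key : ∀ z ∈ V, w * z * w⁻¹ = w' * z * w'⁻¹ := by
    intro z hz
    obtain ⟨β', γ', rfl⟩ := (c.mem_V z).1 hz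
    rw [ha', ha]
  have hwV := b.W_le_NV i hwW
  have hwV' := b.W_le_NV i hw'
  constructor
  · intro hz
    have h7 := b.R_le j hz
    have h8 := key _ h7
    have e9 : w * (w⁻¹ * z * w) * w⁻¹ = z := by group
    rw [e9] at h8
    rw [h8]
    have e10 : w'⁻¹ * (w' * (w⁻¹ * z * w) * w'⁻¹) * w' = w⁻¹ * z * w := by group
    rw [e10]
    exact hz
  · intro hz
    have h7 := b.R_le j hz
    have h8 := key _ h7
    have e9 : w' * (w'⁻¹ * z * w') * w'⁻¹ = z := by group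
    rw [e9] at h8
    rw [← h8]
    have e10 : w⁻¹ * (w * (w'⁻¹ * z * w') * w⁻¹) * w = w'⁻¹ * z * w' := by group
    rw [e10]
    exact hz

/-- **The field `frat` for a quadrangle** (types `(sigma)` and `(beta)`). -/
theorem GFr.frat_four (h : GFr V R i j v P1 P2 q f e M0 n s sh α) (b : BTC V R)
    (y : YPair V R i j w1 w2 E P1 P2) (c : Coord V R i j v w1 w2) (D : Zero.Dat V R i B U)
    (hPo : P o = Zero.P0 V R B) (X : NodeX V R i B U (P x)) (poly : Polygon B P o x 4)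
    (hF : ∃ a : F, a ≠ 0 ∧ a ≠ 1) {k : E} (hk : Key e n s α k) (hs0 : sh 0 k = 0) (he : e ≠ 0)
    (hne : ∃ κ, s k κ ≠ 0 ∨ sh κ k ≠ 0)
    (hP : P x ≤ normalizer ((h.SG k ⊔ cj (nn w1 w2 1) (h.SG k) : Subgroup G) : Set G))
    {y0 : G} (hy0 : y0 ∈ P x) (hy0B : y0 ∉ B)
    (hDV : ∃ d ∈ DD V R, ∃ z ∈ V, d * (y0 * z * y0⁻¹) ≠ y0 * z * y0⁻¹ * d)
    (tr1 : ∀ y' ∈ P x, y' ∉ B → ∃ u ∈ UU V R j, (u * y0)⁻¹ * y' ∈ B) :
    ∀ Z ≤ U, (∀ u ∈ U, ∃ z ∈ Z, z⁻¹ * u ∈ Qk B (P o) ∧ z⁻¹ * u ∈ Qk B (P x)) →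
      ∀ u ∈ U, ∃ z ∈ Z, z⁻¹ * u ∈ Qk B (P o ⊔ P x) := by
  obtain ⟨a, ha, ha1⟩ := hF
  have hUjU : UU V R j ≤ U := (UU_le_YY j).trans X.YU
  have hUiU : UU V R i ≤ U := (UU_le_YY i).trans X.YU
  have hBo : B ≤ P o := by rw [hPo]; exact le_sup_right
  have hXo : XX V R ≤ P o := by rw [hPo]; exact le_sup_left
  have hVS : V ≤ h.SG k := h.V_le_SG b.toBT c.mem_V k
  have hVT : V ≤ h.SG k ⊔ cj (nn w1 w2 1) (h.SG k) := hVS.trans le_sup_left
  have hX := h.X_norm_sigma b y c hk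
  have hcomm := h.sigma_comm b y c hk
  have hnP0 : nn w1 w2 1 ∈ P o := by rw [hPo]; exact nn_mem_P0 b.toBT c
  refine frat_of_cover (p := 2) (O := UU V R i) hBo D.UB X.isP hUiU ?_ ?_
  · refine poly.cover_four (U2 := UU V R j) (n := nn w1 w2 1) (y := y0) (z := nn w1 w2 1) hBo X.le D.UB
      (mem_U_of_conj (p := 2) X.norm X.isP X.index) (by rw [hPo]; exact Zero.reg b.toBT D) X.reg
      hnP0 (nn_notMem b.toBT c D) hy0 hy0B hnP0 (nn_notMem b.toBT c D) hUiU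
      ((UU_le_WW i).trans (W_le_Qx D X)) (fun u hu => nn_U b.toBT c hu) tr1 ?_
    intro z' hz' hz'B
    rw [hPo] at hz'
    obtain ⟨k', hk', ek'⟩ := (Zero.not_mem_B_iff b.toBT D hz').1 hz'B
    obtain ⟨d, hd, ed⟩ := h.exists_D b y c (X.PR hy0) hDV hk'
    refine ⟨d, b.D_le_U j hd, ?_⟩
    have e1 : (d * y0 * nn w1 w2 1)⁻¹ * (y0 * z') = (nn w1 w2 1)⁻¹ * (y0⁻¹ * d * y0)⁻¹ * z' := by group
    rw [e1]
    have hw : y0⁻¹ * d * y0 ∈ WW V (R i) :=
      BTwo.conj_inv_mem_of_normalizer (normalizer_le_WW V (R i) (X.PR hy0)) (D_le_W V R i hd)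
    refine Zero.mem_B b.toBT D (mul_mem (mul_mem (inv_mem (nn_mem_P0 b.toBT c))
      (inv_mem ((le_sup_left : XX V R ≤ _) (W_le_X V R i hw)))) hz') ?_
    rw [← cj_eq_self_iff, cj_mul, cj_mul, ek', ← ed, cj_inv_cj, ← c.nn_R1 b.toBT one_ne_zero, cj_inv_cj]
  · -- `U_i ≤ [U, U] (U ∩ K)`
    set Φ : Subgroup G := ⁅U, U⁆ ⊔ (U ⊓ Qk B (P o ⊔ P x)) with hΦ
    have hcΦ : ∀ u ∈ U, ∀ w ∈ U, u * w * u⁻¹ * w⁻¹ ∈ Φ := fun u hu w hw =>
      Subgroup.mem_sup_left (commutator_mem_commutator hu hw)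
    have hKΦ : ∀ z ∈ U, z ∈ centralizer ((h.SG k ⊔ cj (nn w1 w2 1) (h.SG k) : Subgroup G) : Set G) → z ∈ Φ :=
      fun z hz hzS => Subgroup.mem_sup_right (mem_inf.2 ⟨hz, cen_le_Qk_res b.toBT D hPo X hVT hX hP hz hzS⟩)
    have hVΦ : V ≤ Φ := by
      intro z hz
      refine hKΦ z (D.WU (V_le_WW V (R i) hz)) ?_
      rw [mem_centralizer_iff]
      exact fun t ht => hcomm t ht z (hVT hz)
    have hτX : hh w1 w2 a ∈ XX V R := c.hh_mem_X b.toBT a
    have hτR : hh w1 w2 a ∈ normalizer (R i : Set G) := cj_eq_self_iff.1 (c.hh_R1 b.toBT ha)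
    have hτB : hh w1 w2 a ∈ B := D.XB (mem_inf.2 ⟨hτX, hτR⟩)
    have hτU := X.norm hτB
    have hτΦ : ∀ z ∈ Φ, hh w1 w2 a * z * (hh w1 w2 a)⁻¹ ∈ Φ := by
      have h1 : Φ ≤ Φ.comap (MulAut.conj (hh w1 w2 a)).toMonoidHom := by
        refine sup_le ?_ fun z hz => ?_
        · rw [commutator_le]
          intro u hu w hw
          show hh w1 w2 a * ⁅u, w⁆ * (hh w1 w2 a)⁻¹ ∈ Φ
          have e1 : hh w1 w2 a * ⁅u, w⁆ * (hh w1 w2 a)⁻¹ =
              ⁅hh w1 w2 a * u * (hh w1 w2 a)⁻¹, hh w1 w2 a * w * (hh w1 w2 a)⁻¹⁆ := by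
            rw [commutatorElement_def, commutatorElement_def]; group
          rw [e1]
          exact Subgroup.mem_sup_left (commutator_mem_commutator (BTwo.conj_mem_of_normalizer hτU hu)
            (BTwo.conj_mem_of_normalizer hτU hw))
        · show hh w1 w2 a * z * (hh w1 w2 a)⁻¹ ∈ Φ
          obtain ⟨hz1, hz2⟩ := mem_inf.1 hz
          exact Subgroup.mem_sup_right (mem_inf.2 ⟨BTwo.conj_mem_of_normalizer hτU hz1,
            Qk_conj' hz2 ((le_sup_left : P o ≤ _) (hBo hτB))⟩)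
      exact fun z hz => h1 hz
    -- `W₀ = C_W(SG k)`
    let W0 : Subgroup G := WW V (R i) ⊓ centralizer (h.SG k : Set G)
    have hW0 : ∀ {z : G}, z ∈ W0 ↔ z ∈ WW V (R i) ∧ ∀ t ∈ h.SG k, z * t = t * z := by
      intro z
      rw [mem_inf, mem_centralizer_iff]
      exact ⟨fun h1 => ⟨h1.1, fun t ht => (h1.2 t ht).symm⟩, fun h1 => ⟨h1.1, fun t ht => (h1.2 t ht).symm⟩⟩
    have hW0U : W0 ≤ UU V R i := by
      intro z hz
      obtain ⟨hz1, hz2⟩ := hW0.1 hz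
      exact mem_inf.2 ⟨hz1, mem_centralizer_iff.2 fun t ht => (hz2 t (hVS ht)).symm⟩
    have hNorm : ∀ u ∈ U, ∀ z ∈ Φ, u * z * u⁻¹ ∈ Φ := fun u hu z hz => by
      have hzU : z ∈ U := by
        have h1 : Φ ≤ U := sup_le (commutator_le.2 fun p hp r hr =>
          mul_mem (mul_mem (mul_mem hp hr) (inv_mem hp)) (inv_mem hr)) inf_le_left
        exact h1 hz
      have h2 := mul_mem (hcΦ u hu z hzU) hz
      rwa [inv_mul_cancel_right] at h2
    refine le_of_tau (W0 := W0) (D := DD V R) (t := hh w1 w2 a) hτΦ ?_ ?_ hW0U ?_ ?_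
    · -- duality
      have h1 : UU V R i ≤ Φ ⊔ W0 := by
        refine h.U_le_of b.toBT y (Ng e n s k) (fun m hm hf => h.fixed_Ng he hne hm hf) (fun u hu w hw => ?_)
          fun w hw h0 => ?_
        · exact Subgroup.mem_sup_left (hcΦ u (hUjU hu) w (D.WU hw))
        · exact Subgroup.mem_sup_right (hW0.2 ⟨hw, fun t ht => (h.fr.comm_iff hw ht.1).2 (h0 _ ht.2)⟩)
      have hn : W0 ≤ normalizer (Φ : Set G) := le_normalizer_of fun z hz t ht => hNorm z (hUiU (hW0U hz)) t ht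
      intro z hz
      have h2 : z ∈ ((Φ ⊔ W0 : Subgroup G) : Set G) := h1 hz
      rw [coe_mul_of_right_le_normalizer_left _ _ hn] at h2
      obtain ⟨p, hp, r, hr, e1⟩ := h2
      exact ⟨p, hp, r, hr, e1.symm⟩
    · exact U_le_D b.toBT c fun w hw u hu => hcΦ w (D.WU hw) u (hUjU hu)
    · exact fun d hd => hVΦ (b.XD hτX hd)
    · intro w hw
      obtain ⟨hw1, hw2⟩ := hW0.1 hw
      obtain ⟨w', hw'1, hw'2, h3, h4⟩ := h.tau_step b y c hk hs0 ha ha1 hw1 hw2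
      refine ⟨w', hW0.2 ⟨hw'1, hw'2⟩, hKΦ _ (D.WU h3) ?_⟩
      rw [mem_centralizer_iff]
      exact fun t ht => (h4 t ht).symm

end res

/-! ### Type `(alpha)`: `N = e + ⟨d⟩`, `d ∈ M0` -/

section alpha

variable (h : GFr V R i j v P1 P2 q f e M0 n s sh α)
include h

/-- `C_N(A) = e` for `N = e + ⟨d⟩` -/
theorem GFr.fixed_alpha (he : e ≠ 0) {d : M} (hd : d ∈ M0) {m : M}
    (hm : m ∈ Submodule.span F {e} ⊔ Submodule.span F {d}) (hfix : ∀ κ, α κ m = m) : ∃ c : F, m = c • e := by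
  obtain ⟨m1, hm1, m2, hm2, rfl⟩ := Submodule.mem_sup.1 hm
  obtain ⟨c, rfl⟩ := Submodule.mem_span_singleton.1 hm1
  obtain ⟨r, rfl⟩ := Submodule.mem_span_singleton.1 hm2
  have h1 : ∀ κ, r * f d (n κ) = 0 := by
    intro κ
    have h2 := hfix κ
    rw [map_add, map_smul, map_smul, h.α_e, h.α_M0 κ d hd, smul_add, smul_smul] at h2
    have h3 : (r * f d (n κ)) • e = 0 := by
      have h4 : (r * f d (n κ)) • e = (c • e + (r • d + (r * f d (n κ)) • e)) - (c • e + r • d) := by abel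
      rw [h4, h2, sub_self]
    exact (smul_eq_zero.1 h3).resolve_right he
  by_cases hr : r = 0
  · exact ⟨c, by rw [hr, zero_smul, add_zero]⟩
  · have h2 : d = 0 := h.lin.inj d hd fun g => (mul_eq_zero.1 (h1 g)).resolve_left hr
    exact ⟨c, by rw [h2, smul_zero, add_zero]⟩

/-- `X` normalises the preimage of `N`, `e ∈ N ≤ e + M0` -/
theorem GFr.X_norm_pre (b : BT V R) {w1 w2 : F → G} (y : YPair V R i j w1 w2 E P1 P2)
    (c : Coord V R i j v w1 w2) {N : Submodule F M} (he : e ∈ N) (hN : N ≤ Submodule.span F {e} ⊔ M0) :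
    XX V R ≤ normalizer (pre h.fr N : Set G) := by
  have hV : V ≤ pre h.fr N := by
    intro z hz
    obtain ⟨a, a', rfl⟩ := (c.mem_V z).1 hz
    refine ⟨V_le_WW V (R i) hz, ?_⟩
    rw [h.q_V]
    exact N.smul_mem _ he
  have hD : pre h.fr N ≤ DD V R := by
    intro z hz
    obtain ⟨m1, hm1, m2, hm2, e1⟩ := Submodule.mem_sup.1 (hN hz.2)
    obtain ⟨c, rfl⟩ := Submodule.mem_span_singleton.1 hm1
    exact h.mem_D_of b y hz.1 hm2 e1.symm
  refine le_normalizer_of fun x hx d hd => ?_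
  have h2 := mul_mem (hV (b.XD hx (hD hd))) hd
  rwa [inv_mul_cancel_right] at h2

end alpha

/-! ### `D` moves `V' = y₀ V y₀⁻¹` -/

/-- if the image of `y₀ v(0,1) y₀⁻¹` in `M` is `a e + z + r n_k` with `z ∈ M0`, `r ≠ 0`, `k ≠ 0`, then `D` moves `y₀ V y₀⁻¹` -/
theorem GFr.exists_D_ne (h : GFr V R i j v P1 P2 q f e M0 n s sh α) (b : BT V R)
    {w1 w2 : F → G} (y : YPair V R i j w1 w2 E P1 P2) (c : Coord V R i j v w1 w2) [Finite G] [Finite F] {k : E}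
    (hk0 : k ≠ 0) {y0 : G} (hy0 : y0 ∈ normalizer (R i : Set G)) {a r : F} {z : M} (hz : z ∈ M0) (hr : r ≠ 0)
    (hq : q (y0 * v 0 1 * y0⁻¹) = a • e + z + r • n k) :
    ∃ d ∈ DD V R, ∃ z ∈ V, d * (y0 * z * y0⁻¹) ≠ y0 * z * y0⁻¹ * d := by
  have : Finite M := Finite.of_surjective (fun x : WW V (R i) => q x) fun m => by
    obtain ⟨x, hx, e1⟩ := h.fr.surj m
    exact ⟨⟨x, hx⟩, e1⟩
  -- `f(M0, n k) ≠ 0`
  have h1 : ∃ d ∈ M0, f d (n k) ≠ 0 := by
    by_contra hno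
    push Not at hno
    have h2 : n k ∈ Submodule.span F {e} := by
      refine h.lin.perp_perp _ _ fun m' hm' => ?_
      have h3 : f e m' = 0 := by
        rw [h.lin.skew, hm' e (Submodule.mem_span_singleton_self e), neg_zero]
      obtain ⟨c1, d, hd, g, rfl⟩ := h.lin.perp m' h3
      rw [map_add, map_add, map_smul, h.lin.f_n_e, h.lin.f_n, h.lin.skew (n k) d, hno d hd, smul_zero, neg_zero,
        add_zero, add_zero]
    obtain ⟨c1, hc1⟩ := Submodule.mem_span_singleton.1 h2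
    have h3 := h.lin.indep (-c1) 0 M0.zero_mem k (by rw [add_zero, ← hc1, neg_smul, neg_add_cancel])
    exact hk0 h3
  obtain ⟨d, hd, hne⟩ := h1
  obtain ⟨x, hx, e1⟩ := h.fr.surj d
  have hxD : x ∈ DD V R := h.mem_D_of b y hx (c := 0) hd (by rw [e1, zero_smul, zero_add])
  refine ⟨x, hxD, v 0 1, c.v_mem 0 1, fun h2 => hne ?_⟩
  have hc : y0 * v 0 1 * y0⁻¹ ∈ WW V (R i) :=
    BTwo.conj_mem_of_normalizer (normalizer_le_WW V (R i) hy0) (V_le_WW V (R i) (c.v_mem 0 1))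
  have h3 := (h.fr.comm_iff hx hc).1 h2
  rw [e1, hq, map_add, map_add, map_smul, map_smul, h.lin.f_M0_e hd, h.lin.f_M0 d hd z hz, smul_zero, zero_add,
    zero_add, smul_eq_mul] at h3
  exact (mul_eq_zero.1 h3).resolve_left hr

end Cfsg.Agent.Omega.Lie.Nodes
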