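import Cfsg.Agent.Omega.Hex.SZ

/-!
# NODE LIE, residues `(0, j)`: elementwise coprime conjugacy

`conj_of_coset`: `K` a 2-group normalised by `t`, `t` and `t' ∈ t K` of odd order: they are conjugate under `K`.
`exists_odd_pow`: the coset `t K` of an element of odd order: a power of every `x ∈ t K` in `t K` has odd order.
-/

set_option autoImplicit false

namespace Cfsg.Agent.Omega.Lie.Nodes.Apt

open Subgroup Cfsg.Agent.Omega.BTwo Cfsg.Agent.Omega.Hex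

universe u

variable {G : Type u} [Group G]

/-- powers in a coset -/
theorem pow_coset {K : Subgroup G} {t x : G} (ht : t ∈ normalizer (K : Set G)) (hx : t⁻¹ * x ∈ K) (n : ℕ) :
    (t ^ n)⁻¹ * x ^ n ∈ K := by
  induction n with
  | zero => simp
  | succ n ih =>
    have e : (t ^ (n + 1))⁻¹ * x ^ (n + 1) = (t⁻¹ * ((t ^ n)⁻¹ * x ^ n) * t) * (t⁻¹ * x) := by
      rw [pow_succ, pow_succ]; group
    rw [e]
    exact mul_mem (conj_inv_mem_of_normalizer ht ih) hx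

/-- an element of odd order in a 2-group is trivial -/
theorem eq_one_of_odd {K : Subgroup G} (hK : IsPGroup 2 K) {x : G} (hx : x ∈ K) (ho : Odd (orderOf x)) : x = 1 := by
  obtain ⟨n, hn⟩ := hK ⟨x, hx⟩
  have hn' : x ^ 2 ^ n = 1 := congrArg Subtype.val hn
  have h1 := orderOf_dvd_of_pow_eq_one hn'
  have h2 : (orderOf x).Coprime (2 ^ n) := (Nat.coprime_two_right.2 ho).pow_right n
  exact orderOf_eq_one_iff.1 (Nat.Coprime.eq_one_of_dvd h2 h1)

/-- a power of an element of the coset `t K` lies in `t K` and has odd order -/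
theorem exists_odd_pow [Finite G] {K : Subgroup G} {t x : G} (ht : t ∈ normalizer (K : Set G))
    (ho : Odd (orderOf t)) (hx : t⁻¹ * x ∈ K) : ∃ n : ℕ, t⁻¹ * x ^ n ∈ K ∧ Odd (orderOf (x ^ n)) := by
  obtain ⟨a, m, hm, hk⟩ := Nat.exists_eq_two_pow_mul_odd (orderOf_pos x).ne'
  have hco : (2 ^ a).Coprime (orderOf t) := (Nat.coprime_two_left.2 ho).pow_left a
  -- `2^a * j ≡ 1`
  obtain ⟨j, hj⟩ : ∃ j : ℕ, t ^ (2 ^ a * j) = t := by
    have h1 : (2 ^ a) ^ Nat.totient (orderOf t) ≡ 1 [MOD orderOf t] := Nat.ModEq.pow_totient hco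
    rcases Nat.eq_zero_or_pos (Nat.totient (orderOf t)) with h0 | h0
    · exact absurd (Nat.totient_pos.2 (orderOf_pos t)) (by rw [h0]; exact lt_irrefl _)
    · obtain ⟨k, hk'⟩ := Nat.exists_eq_succ_of_ne_zero h0.ne'
      refine ⟨(2 ^ a) ^ k, ?_⟩
      have e : 2 ^ a * (2 ^ a) ^ k = (2 ^ a) ^ Nat.totient (orderOf t) := by rw [hk', pow_succ']
      rw [e]
      have h2 := (pow_eq_pow_iff_modEq (x := t)).2 h1
      rwa [pow_one] at h2
  refine ⟨2 ^ a * j, ?_, ?_⟩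
  · have h1 := pow_coset ht hx (2 ^ a * j)
    rwa [hj] at h1
  · rw [pow_mul]
    have h2 : orderOf (x ^ 2 ^ a) = m := by
      rw [orderOf_pow' x (by positivity), hk, Nat.gcd_mul_right_left, Nat.mul_div_cancel_left _ (by positivity)]
    have h3 : orderOf ((x ^ 2 ^ a) ^ j) ∣ m := by
      rw [← h2]; exact orderOf_pow_dvd j
    exact hm.of_dvd_nat h3

/-- **coprime conjugacy in the coset `t K`** -/
theorem conj_of_coset [Finite G] {K : Subgroup G} {t x : G} (hK : IsPGroup 2 K) (ht : t ∈ normalizer (K : Set G))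
    (ho : Odd (orderOf t)) (hx : t⁻¹ * x ∈ K) (hxo : Odd (orderOf x)) : ∃ k ∈ K, k * x * k⁻¹ = t := by
  have hK2 : IsPGroup 2 K := hK
  set B := K ⊔ zpowers t with hB
  have hnB : B ≤ normalizer (K : Set G) := sup_le le_normalizer ((zpowers_le).2 ht)
  have htB : t ∈ B := (le_sup_right : zpowers t ≤ B) (mem_zpowers t)
  have hxB : x ∈ B := by
    have := mul_mem htB ((le_sup_left : K ≤ B) hx)
    rwa [mul_inv_cancel_left] at this
  -- `K ⊓ ⟨y⟩ = 1`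
  have hinf : ∀ y : G, Odd (orderOf y) → ∀ z ∈ zpowers y, z ∈ K → z = 1 := by
    intro y hy z hz hzK
    refine eq_one_of_odd hK2 hzK (hy.of_dvd_nat ?_)
    exact orderOf_dvd_of_mem_zpowers hz
  -- index
  have hidx : ∀ y : G, Odd (orderOf y) → y ∈ B → K ⊔ zpowers y = B → Cpl K B (zpowers y) := by
    intro y hy hyB hsup
    have hyle : zpowers y ≤ B := (zpowers_le).2 hyB
    refine ⟨hyle, ?_⟩
    have hKB : K ≤ B := le_sup_left
    have hn : (K.subgroupOf B).Normal := ⟨fun n hn g => conj_mem_of_normalizer (g := (g : G)) (x := (n : G))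
      (hnB g.2) hn⟩
    have h1 := relIndex_sup_left ((zpowers y).subgroupOf B) (K.subgroupOf B)
    rw [← subgroupOf_sup hKB hyle, hsup, subgroupOf_self, relIndex_top_right, relIndex_subgroupOf hyle,
      ← inf_relIndex_right] at h1
    have h2 : K ⊓ zpowers y = ⊥ := by
      rw [eq_bot_iff]
      intro z hz
      exact mem_bot.2 (hinf y hy z hz.2 hz.1)
    rw [h2, relIndex_bot_left] at h1
    exact h1.symm
  have hnt : NT K B := by
    refine ⟨le_sup_left, hnB, hK2, ?_⟩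
    rw [← (hidx t ho htB rfl).card, Nat.card_zpowers]
    exact ho
  have hsup : K ⊔ zpowers x = B := by
    apply le_antisymm (sup_le le_sup_left ((zpowers_le).2 hxB))
    refine sup_le le_sup_left ((zpowers_le).2 ?_)
    have h1 : t = x * (t⁻¹ * x)⁻¹ := by group
    rw [h1]
    exact mul_mem ((le_sup_right : zpowers x ≤ _) (mem_zpowers x)) (inv_mem ((le_sup_left : K ≤ _) hx))
  obtain ⟨k, hk, e⟩ := hnt.conj (hidx x hxo hxB hsup) (hidx t ho htB rfl)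
  refine ⟨k, hk, ?_⟩
  have h1 : k * x * k⁻¹ ∈ zpowers t := by
    rw [← e]
    exact conj_mem_cj (mem_zpowers x)
  have h2 : t⁻¹ * (k * x * k⁻¹) ∈ K := by
    have e2 : t⁻¹ * (k * x * k⁻¹) = (t⁻¹ * k * t) * (t⁻¹ * x) * k⁻¹ := by group
    rw [e2]
    exact mul_mem (mul_mem (conj_inv_mem_of_normalizer ht hk) hx) (inv_mem hk)
  have h3 := hinf t ho _ (mul_mem (inv_mem (mem_zpowers t)) h1) h2
  exact (inv_mul_eq_one.1 h3).symm

theorem mul_congr {K : Subgroup G} {x x' y y' : G} (hy : y ∈ normalizer (K : Set G)) (hx : x⁻¹ * x' ∈ K)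
    (hy' : y⁻¹ * y' ∈ K) : (x * y)⁻¹ * (x' * y') ∈ K := by
  have e : (x * y)⁻¹ * (x' * y') = (y⁻¹ * (x⁻¹ * x') * y) * (y⁻¹ * y') := by group
  rw [e]
  exact mul_mem (conj_inv_mem_of_normalizer hy hx) hy'

theorem inv_congr {K : Subgroup G} {x x' : G} (hx : x ∈ normalizer (K : Set G)) (h : x⁻¹ * x' ∈ K) :
    x⁻¹⁻¹ * x'⁻¹ ∈ K := by
  have e : x⁻¹⁻¹ * x'⁻¹ = x * (x⁻¹ * x')⁻¹ * x⁻¹ := by group
  rw [e]
  exact conj_mem_of_normalizer hx (inv_mem h)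

theorem comm_congr {K : Subgroup G} {x x' y y' : G} (hx' : x ∈ normalizer (K : Set G))
    (hy' : y ∈ normalizer (K : Set G)) (hx : x⁻¹ * x' ∈ K) (hy : y⁻¹ * y' ∈ K) :
    (x * y * x⁻¹ * y⁻¹)⁻¹ * (x' * y' * x'⁻¹ * y'⁻¹) ∈ K :=
  mul_congr (inv_mem hy') (mul_congr (inv_mem hx') (mul_congr hy' hx hy) (inv_congr hx' hx)) (inv_congr hy' hy)

/-- two commuting elements of odd order -/
theorem odd_mul {x y : G} (h : x * y = y * x) (hx : Odd (orderOf x)) (hy : Odd (orderOf y)) :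
    Odd (orderOf (x * y)) :=
  (hx.mul hy).of_dvd_nat ((show Commute x y from h).orderOf_mul_dvd_mul_orderOf)

/-- **the torus element trivial on the node**: `z`, `z^m` commute modulo the 2-group `K` -/
theorem exists_tau [Finite G] {K : Subgroup G} {z x : G} (hK : IsPGroup 2 K) (hz : z ∈ normalizer (K : Set G))
    (hx : x ∈ normalizer (K : Set G)) (hzo : Odd (orderOf z)) (hxo : Odd (orderOf x))
    (hc : z * x * z⁻¹ * x⁻¹ ∈ K) : ∃ x', x⁻¹ * x' ∈ K ∧ x' * z = z * x' ∧ Odd (orderOf x') := by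
  -- `x⁻¹ z x ∈ z K`
  have h1 : z⁻¹ * (x⁻¹ * z * x) ∈ K := by
    have e : z⁻¹ * (x⁻¹ * z * x) = z⁻¹ * (x⁻¹ * (z * x * z⁻¹ * x⁻¹) * x) * z := by group
    rw [e]
    exact conj_inv_mem_of_normalizer hz (conj_inv_mem_of_normalizer hx hc)
  have h2 : Odd (orderOf (x⁻¹ * z * x)) := by
    have e : x⁻¹ * z * x = MulAut.conj x⁻¹ z := by rw [MulAut.conj_apply, inv_inv]
    rw [e, (MulAut.conj x⁻¹).orderOf_eq]
    exact hzo
  obtain ⟨k, hk, e1⟩ := conj_of_coset hK hz hzo h1 h2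
  -- `x k⁻¹` commutes with `z`
  have e2 : x * k⁻¹ * z = z * (x * k⁻¹) := by
    calc x * k⁻¹ * z = x * k⁻¹ * (k * (x⁻¹ * z * x) * k⁻¹) := by rw [e1]
      _ = z * (x * k⁻¹) := by group
  have h3 : x⁻¹ * (x * k⁻¹) ∈ K := by
    rw [inv_mul_cancel_left]
    exact inv_mem hk
  obtain ⟨N, h4, h5⟩ := exists_odd_pow hx hxo h3
  exact ⟨(x * k⁻¹) ^ N, h4, ((show Commute (x * k⁻¹) z from e2).pow_left N), h5⟩

/-- the centraliser of `τ` in `P` -/
def CP (P : Subgroup G) (τ : G) : Subgroup G := P ⊓ centralizer {τ}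

theorem mem_CP {P : Subgroup G} {τ x : G} : x ∈ CP P τ ↔ x ∈ P ∧ x * τ = τ * x := by
  unfold CP
  rw [mem_inf, mem_centralizer_singleton_iff]

/-- **`m` in the derived group of `C_P(τ)`** -/
theorem exists_m [Finite G] {K P : Subgroup G} {τ m0 : G} (hK : IsPGroup 2 K) (hPK : P ≤ normalizer (K : Set G))
    (hKP : K ≤ P) (hτ : Odd (orderOf τ)) (hτK : τ ∈ normalizer (K : Set G))
    (hτP : ∀ p ∈ P, τ * p * τ⁻¹ * p⁻¹ ∈ K) (perf : P ≤ ⁅P, P⁆ ⊔ K) (hm0 : m0 ∈ P) :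
    ∃ m ∈ ⁅CP P τ, CP P τ⁆, m0⁻¹ * m ∈ K := by
  set C := CP P τ with hC
  have hCP : C ≤ P := fun x hx => (mem_CP.1 hx).1
  -- `C` covers `P / K`
  have hcov : ∀ x ∈ P, ∃ c ∈ C, x⁻¹ * c ∈ K := by
    intro x hx
    have h1 : τ⁻¹ * (x⁻¹ * τ * x) ∈ K := by
      have e : τ⁻¹ * (x⁻¹ * τ * x) = τ⁻¹ * (x⁻¹ * (τ * x * τ⁻¹ * x⁻¹) * x) * τ := by group
      rw [e]
      exact conj_inv_mem_of_normalizer hτK (conj_inv_mem_of_normalizer (hPK hx) (hτP x hx))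
    have h2 : Odd (orderOf (x⁻¹ * τ * x)) := by
      have e : x⁻¹ * τ * x = MulAut.conj x⁻¹ τ := by rw [MulAut.conj_apply, inv_inv]
      rw [e, (MulAut.conj x⁻¹).orderOf_eq]
      exact hτ
    obtain ⟨k, hk, e1⟩ := conj_of_coset hK hτK hτ h1 h2
    refine ⟨x * k⁻¹, mem_CP.2 ⟨mul_mem hx (inv_mem (hKP hk)), ?_⟩, ?_⟩
    · calc x * k⁻¹ * τ = x * k⁻¹ * (k * (x⁻¹ * τ * x) * k⁻¹) := by rw [e1]
        _ = τ * (x * k⁻¹) := by group
    · rw [inv_mul_cancel_left]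
      exact inv_mem hk
  have hCC : ⁅C, C⁆ ≤ P := by
    rw [commutator_le]
    intro x hx x' hx'
    rw [commutatorElement_def]
    exact mul_mem (mul_mem (mul_mem (hCP hx) (hCP hx')) (inv_mem (hCP hx))) (inv_mem (hCP hx'))
  have h1 : ⁅P, P⁆ ≤ ⁅C, C⁆ ⊔ K := by
    rw [commutator_le]
    intro x hx x' hx'
    obtain ⟨c, hc, e⟩ := hcov x hx
    obtain ⟨c', hc', e'⟩ := hcov x' hx'
    have h2 := comm_congr (hPK hx) (hPK hx') e e'
    rw [commutatorElement_def]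
    have h3 : c * c' * c⁻¹ * c'⁻¹ ∈ ⁅C, C⁆ := commutator_mem_commutator hc hc'
    have e3 : x * x' * x⁻¹ * x'⁻¹ = (c * c' * c⁻¹ * c'⁻¹) *
        ((x * x' * x⁻¹ * x'⁻¹)⁻¹ * (c * c' * c⁻¹ * c'⁻¹))⁻¹ := by group
    rw [e3]
    exact mul_mem ((le_sup_left : ⁅C, C⁆ ≤ _) h3) ((le_sup_right : K ≤ _) (inv_mem h2))
  have h2 : m0 ∈ ⁅C, C⁆ ⊔ K := (perf.trans (sup_le h1 le_sup_right)) hm0
  have h3 : m0 ∈ ((⁅C, C⁆ ⊔ K : Subgroup G) : Set G) := h2
  rw [coe_mul_of_left_le_normalizer_right _ _ (hCC.trans hPK)] at h3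
  obtain ⟨m, hm, κ, hκ, e⟩ := h3
  refine ⟨m, hm, ?_⟩
  have e2 : m0⁻¹ * m = κ⁻¹ := by
    have e' : m * κ = m0 := e
    rw [← e']; group
  rw [e2]
  exact inv_mem hκ

end Cfsg.Agent.Omega.Lie.Nodes.Apt
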