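import Cfsg.Agent.Omega.Lie.Nodes.AptNode

/-!
# NODE LIE, residues `(0, j)`: existence of `τ₁`

`τ₁ = z · z^{m₀} κ`: odd order, commutes with the torus element `z = t a`, trivial on `N_k`, scalar `a²` on `R i`,
trivial on `P / K`, acts as `z²` on `Σ / SG k`.
-/

set_option autoImplicit false
set_option linter.unusedSectionVars false

namespace Cfsg.Agent.Omega.Lie.Nodes

open Subgroup Cfsg.Agent.Omega.BTwo

universe u v w

variable {G : Type u} [Group G] {ι : Type w} {V : Subgroup G} {R : ι → Subgroup G} {i j : ι} {F : Type v}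
  [Field F] {v : F → F → G} {w1 w2 : F → G} {M B : Type u} [AddCommGroup M] [AddCommGroup B]
  [DistribMulAction (NR R i) M] [DistribMulAction (NR R i) B] [Module F M] {p : G → M} {r : G → B}
  {f : M →+ M →+ B} {φ : M →ₗ[F] M →ₗ[F] F} {s : NR R i → (F ≃+* F)} [CharP F 2]
  [Finite G] [Finite F] {h : FMod V R i j v w1 w2 M B p r f φ s} {t : F → G} {τ : Lie.TorD V R i j v t}
  {N : Type u} [AddCommGroup N] [Module F N] {P1 P2 : G → N} {y : YPair V R i j w1 w2 N P1 P2}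
  {n : N →ₗ[F] M} {sf : N →ₗ[F] N →ₗ[F] M} {q : N → N →ₗ[F] F}

/-- `Σ` -/
noncomputable abbrev Sig (g : Eig h τ y n sf q) (k : N) : Subgroup G :=
  (gfr_of g).SG k ⊔ cj (nn w1 w2 1) ((gfr_of g).SG k)

/-- `z` of odd order commutes with `w` modulo `O` if `z²` does -/
theorem comm_mod_of_sq {O : Subgroup G} {z w : G} (hz : z ∈ normalizer (O : Set G)) (ho : Odd (orderOf z))
    (hc : (z * z) * w * (z * z)⁻¹ * w⁻¹ ∈ O) : z * w * z⁻¹ * w⁻¹ ∈ O := by
  let H : Subgroup G :=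
    { carrier := {a | a ∈ normalizer (O : Set G) ∧ a * w * a⁻¹ * w⁻¹ ∈ O}
      one_mem' := ⟨one_mem _, by rw [one_mul, inv_one, mul_one, mul_inv_cancel]; exact one_mem _⟩
      mul_mem' := by
        rintro a a' ⟨h1, h2⟩ ⟨h3, h4⟩
        refine ⟨mul_mem h1 h3, ?_⟩
        have e : a * a' * w * (a * a')⁻¹ * w⁻¹ = (a * (a' * w * a'⁻¹ * w⁻¹) * a⁻¹) * (a * w * a⁻¹ * w⁻¹) := by group
        rw [e]
        exact mul_mem (conj_mem_of_normalizer h1 h4) h2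
      inv_mem' := by
        rintro a ⟨h1, h2⟩
        refine ⟨inv_mem h1, ?_⟩
        have e : a⁻¹ * w * a⁻¹⁻¹ * w⁻¹ = a⁻¹ * (a * w * a⁻¹ * w⁻¹)⁻¹ * a := by group
        rw [e]
        exact conj_inv_mem_of_normalizer h1 (inv_mem h2) }
  have h1 : z * z ∈ H := ⟨mul_mem hz hz, hc⟩
  obtain ⟨m, hm⟩ := ho
  have h2 : (z * z) ^ (m + 1) = z := by
    rw [← sq, ← pow_mul, show 2 * (m + 1) = (2 * m + 1) + 1 by ring, ← hm, pow_succ, pow_orderOf_eq_one, one_mul]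
  have h3 : z ∈ H := by
    have h4 := pow_mem h1 (m + 1)
    rwa [h2] at h4
  exact h3.2

/-- the properties of `τ₁` -/
structure TauDat (g : Eig h τ y n sf q) (k : N) (P O : Subgroup G) (a : Fˣ) (x : G) : Prop where
  odd : Odd (orderOf x)
  comm : x * t a = t a * x
  Ri : ∀ β, x * v β 0 * x⁻¹ = v (a * a * β) 0
  diag : ∃ X : NR R i, (X : G) = x ∧ Diag v p n sf k X 1 1
  nP : x ∈ normalizer (P : Set G)
  nO : x ∈ normalizer (O : Set G)
  nS : x ∈ normalizer (Sig g k : Set G)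
  qm : Qm ((gfr_of g).SG k) (Sig g k) x (t a * t a)

theorem cen_v {x : G} (h : FMod V R i j v w1 w2 M B p r f φ s) (hx : x ∈ centralizer (R i : Set G)) (β : F) :
    x * v β 0 * x⁻¹ = v β 0 := by
  rw [← mem_centralizer_iff.1 hx _ ((h.co.mem_R1 _).2 ⟨β, rfl⟩), mul_inv_cancel_right]

theorem odd_conj {m z : G} (hz : Odd (orderOf z)) : Odd (orderOf (m * z * m⁻¹)) := by
  have e : m * z * m⁻¹ = MulAut.conj m z := by rw [MulAut.conj_apply]
  rw [e, (MulAut.conj m).orderOf_eq]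
  exact hz

namespace NodeDat

variable {g : Eig h τ y n sf q} {k : N} {P O : Subgroup G} (d : NodeDat g k P O)
include d

theorem exists_tau {m0 : NR R i} {β γ : F} (sw : SwapM h n sf k m0 β γ) (hm0 : (m0 : G) ∈ P) (a : Fˣ) :
    ∃ x, TauDat g k P O a x := by
  set S := (gfr_of g).SG k with hS
  -- `z`
  have hzR : t a ∈ normalizer (R i : Set G) := τ.normR a.ne_zero
  have hzS : t a ∈ normalizer (S : Set G) := norm_SG g (x := tT τ a) fun m hm => (diag_t g k a).pres hm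
  have hzP : t a ∈ normalizer (P : Set G) := d.PT a a.ne_zero
  have hzO : t a ∈ normalizer (O : Set G) := d.OT a a.ne_zero
  have hzT : t a ∈ normalizer (Sig g k : Set G) := d.XS (τ.memX a a.ne_zero)
  -- `ζ`
  have hmO : (m0 : G) ∈ normalizer (O : Set G) := d.PO hm0
  have hmP : (m0 : G) ∈ normalizer (P : Set G) := le_normalizer hm0
  set ζ := (m0 : G) * t a * (m0 : G)⁻¹ with hζ
  have hζO : ζ ∈ normalizer (O : Set G) := mul_mem (mul_mem hmO hzO) (inv_mem hmO)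
  have hζP : ζ ∈ normalizer (P : Set G) := mul_mem (mul_mem hmP hzP) (inv_mem hmP)
  have hζe : ((m0 * tT τ a * m0⁻¹ : NR R i) : G) = ζ := rfl
  have dz := diag_t g k a
  have dζ := sw.diag g d.k0 a
  -- `c = z² w` is trivial on `N_k`, `w = [m₀, z]`
  set w := (m0 : G) * t a * (m0 : G)⁻¹ * (t a)⁻¹ with hw
  have hwP : w ∈ P := by
    have h1 := mul_mem hm0 (conj_mem_of_normalizer hzP (inv_mem hm0))
    rwa [show (m0 : G) * (t a * (m0 : G)⁻¹ * (t a)⁻¹) = w by rw [hw]; group] at h1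
  have hwO : w ∈ normalizer (O : Set G) := d.PO hwP
  have dc : Diag v p n sf k (tT τ a * (tT τ a * (m0 * tT τ a * m0⁻¹)) * (tT τ a)⁻¹) 1 1 := by
    have h4 := (dz.mul (dz.mul dζ)).mul (dz.inv (inv_ne_zero a.ne_zero) a.ne_zero)
    rwa [inv_mul_cancel₀ a.ne_zero, mul_inv_cancel₀ a.ne_zero, mul_one, mul_one, inv_inv,
      inv_mul_cancel₀ a.ne_zero, mul_inv_cancel₀ a.ne_zero] at h4
  have hcw : ∀ x ∈ P, (t a * t a * w) * x * (t a * t a * w)⁻¹ * x⁻¹ ∈ O := by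
    refine d.lift _ (mul_mem (mul_mem hzP hzP) (le_normalizer hwP)) (mul_mem (mul_mem hzO hzO) hwO) fun u hu => ?_
    have h4 := d.diag_comm dc hu
    have e : ((tT τ a * (tT τ a * (m0 * tT τ a * m0⁻¹)) * (tT τ a)⁻¹ : NR R i) : G) = t a * t a * w := by
      show t a * (t a * ((m0 : G) * t a * (m0 : G)⁻¹)) * (t a)⁻¹ = _
      rw [hw]; group
    rwa [e] at h4
  have hcsq : (t a * t a) * w * (t a * t a)⁻¹ * w⁻¹ ∈ O := by
    have h4 := hcw w hwP
    rwa [show t a * t a * w * w * (t a * t a * w)⁻¹ * w⁻¹ = (t a * t a) * w * (t a * t a)⁻¹ * w⁻¹ by group] at h4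
  have hc : t a * ζ * (t a)⁻¹ * ζ⁻¹ ∈ O := by
    have h4 := comm_mod_of_sq hzO (τ.odd a a.ne_zero) hcsq
    rwa [show t a * w * (t a)⁻¹ * w⁻¹ = t a * ζ * (t a)⁻¹ * ζ⁻¹ by rw [hw, hζ]; group] at h4
  obtain ⟨x', h1, h2, h3⟩ := Apt.exists_tau d.two hzO hζO (τ.odd a a.ne_zero) (odd_conj (τ.odd a a.ne_zero)) hc
  set κ := ζ⁻¹ * x' with hκ
  have hx' : x' = ζ * κ := by rw [hκ]; group
  have hκP : κ ∈ P := d.OP h1
  have hκR : κ ∈ normalizer (R i : Set G) := d.PNR hκP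
  have hκS : κ ∈ normalizer (S : Set G) := d.PSG hκP
  -- the diagonal action
  have dκ : Diag v p n sf k (⟨κ, hκR⟩ : NR R i) 1 1 := by
    have h4 := (mem_cmod_iff g (k := k) (x := ⟨κ, hκR⟩)).1 (d.OK h1)
    refine ⟨fun l m => act_smul h (g := ⟨κ, hκR⟩) (d.PR hκP) l m, ?_, fun z hz => h4 z (Zg_le_Ng hz), ?_⟩
    · rw [one_smul]; exact h4 _ e_mem_Ng
    · rw [one_smul]; exact h4 _ n_mem_Ng
  refine ⟨t a * x', Apt.odd_mul h2.symm (τ.odd a a.ne_zero) h3, by rw [mul_assoc, h2], fun β => ?_,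
    ⟨tT τ a * ((m0 * tT τ a * m0⁻¹) * ⟨κ, hκR⟩), ?_, ?_⟩, ?_, ?_, ?_, ?_⟩
  · -- on `R i`
    have hT : ∀ β, t a * v β 0 * (t a)⁻¹ = v (a * β) 0 := fun β => h.T_aux τ a β
    have e1 : t a * x' * v β 0 * (t a * x')⁻¹ =
        t a * (m0 * (t a * ((m0 : G)⁻¹ * (κ * v β 0 * κ⁻¹) * (m0 : G)⁻¹⁻¹) * (t a)⁻¹) * (m0 : G)⁻¹) * (t a)⁻¹ := by
      rw [hx', hζ]; group
    rw [e1, cen_v h (d.PR hκP), cen_v h (inv_mem sw.cen), hT, cen_v h sw.cen, hT, mul_assoc]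
  · rw [hx']
    rfl
  · have h4 := dz.mul (dζ.mul dκ)
    rw [mul_one, mul_one, inv_mul_cancel₀ a.ne_zero, mul_inv_cancel₀ a.ne_zero] at h4
    exact h4
  · rw [hx']
    exact mul_mem hzP (mul_mem hζP (le_normalizer hκP))
  · rw [hx']
    exact mul_mem hzO (mul_mem hζO (le_normalizer h1))
  · rw [hx', hζ]
    exact mul_mem hzT (mul_mem (mul_mem (mul_mem (d.PS hm0) hzT) (inv_mem (d.PS hm0))) (d.PS hκP))
  · have q1 : ∀ x ∈ P, Qm S (Sig g k) x 1 := fun x hx => Qm.one (d.PSG hx) fun w hw => d.triv hx hw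
    have qz : Qm S (Sig g k) (t a) (t a) := Qm.self hzS hzT
    have h4 := qz.mul ((((q1 _ hm0).mul qz).mul (q1 _ (inv_mem hm0))).mul (q1 _ hκP))
    rw [one_mul, mul_one, mul_one] at h4
    rw [hx', hζ]
    exact h4

end NodeDat

end Cfsg.Agent.Omega.Lie.Nodes
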