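import Cfsg.Agent.Omega.Lie.Nodes.SBeta

/-!
# NODE LIE, TEXT NODES (#14331): the moved nodes of types (sigma) and (beta)

From the output of (N): `KEY`, `(S)` and the group `Σ` of `sigma_main`.
-/

set_option autoImplicit false
set_option linter.unusedSectionVars false

namespace Cfsg.Agent.Omega.Lie.Nodes

open Subgroup Cfsg.Agent.Omega.BTwo

universe u v w

variable {G : Type u} [Group G] {ι : Type w} {V : Subgroup G} {R : ι → Subgroup G} {i j : ι} {F : Type v}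
  [Field F] {v : F → F → G} {w1 w2 : F → G} {M B : Type u} [AddCommGroup M] [AddCommGroup B]
  [DistribMulAction (NR R i) M] [DistribMulAction (NR R i) B] [Module F M] {p : G → M} {r : G → B}
  {f : M →+ M →+ B} {φ : M →ₗ[F] M →ₗ[F] F} {s : NR R i → (F ≃+* F)} [CharP F 2]
  [Finite G] [Finite F] {h : FMod V R i j v w1 w2 M B p r f φ s} {t : F → G} {τ : Lie.TorD V R i j v t}
  {N : Type u} [AddCommGroup N] [Module F N] {P1 P2 : G → N} {y : YPair V R i j w1 w2 N P1 P2}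
  {n : N →ₗ[F] M} {sf : N →ₗ[F] N →ₗ[F] M} {q : N → N →ₗ[F] F}

/-- the number of lines `V ^ x`, `x ∈ P` -/
theorem Lin_relIndex (V P : Subgroup G) : Nat.card (Lin V P) = (normalizer (V : Set G)).relIndex P := by
  let L0 : Lin V P := ⟨V, 1, one_mem _, (cj_one _).symm⟩
  have horb : MulAction.orbit P L0 = Set.univ := by
    ext L
    simp only [Set.mem_univ, iff_true]
    obtain ⟨z, hz, e1⟩ := L.2
    exact ⟨⟨z, hz⟩, Subtype.ext e1.symm⟩
  have hstab : MulAction.stabilizer P L0 = (normalizer (V : Set G)).subgroupOf P := by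
    ext x
    rw [MulAction.mem_stabilizer_iff, mem_subgroupOf, ← cj_eq_self_iff]
    exact Subtype.ext_iff
  rw [relIndex, ← hstab, MulAction.index_stabilizer, horb, Set.ncard_univ]

theorem three_lt_card {ζ : F} (h0 : ζ ≠ 0) (h1 : ζ ≠ 1) : 3 < Nat.card F := by
  classical
  have := Fintype.ofFinite F
  rw [Nat.card_eq_fintype_card]
  have h2 : ({0, 1, ζ, ζ + 1} : Finset F).card ≤ Fintype.card F := Finset.card_le_univ _
  have h3 : (0 : F) ≠ ζ + 1 := fun e => h1 (CharTwo.add_eq_zero.1 e.symm)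
  have h4 : (1 : F) ≠ ζ + 1 := fun e => h0 (add_eq_right.1 e.symm)
  have h5 : ζ ≠ ζ + 1 := fun e => one_ne_zero (left_eq_add.1 e)
  rw [Finset.card_insert_of_notMem, Finset.card_insert_of_notMem, Finset.card_insert_of_notMem,
    Finset.card_singleton] at h2
  · omega
  · rwa [Finset.mem_singleton]
  · simp only [Finset.mem_insert, Finset.mem_singleton, not_or]
    exact ⟨Ne.symm h1, h4⟩
  · simp only [Finset.mem_insert, Finset.mem_singleton, not_or]
    exact ⟨zero_ne_one, Ne.symm h0, h3⟩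

theorem Zg_eq {k : N} : Zg F (fun a b => sf a b) k = LinearMap.range (sf k) := by
  refine le_antisymm (Submodule.span_le.2 ?_) ?_
  · rintro _ ⟨l, rfl⟩
    exact ⟨l, rfl⟩
  · rintro _ ⟨l, rfl⟩
    exact s_mem_Zg l

theorem finrank_Ng_le [Finite M] {e : M} {k : N} :
    Module.finrank F (Ng e n (fun a b => sf a b) k) ≤ Module.finrank F (LinearMap.range (sf k)) + 2 := by
  have h1 : Ng e n (fun a b => sf a b) k ≤ (Submodule.span F {e} ⊔ LinearMap.range (sf k)) ⊔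
      Submodule.span F {n k} := by
    intro m hm
    obtain ⟨c, z, hz, r, rfl⟩ := mem_Ng.1 hm
    rw [Zg_eq] at hz
    exact Submodule.add_mem_sup (Submodule.add_mem_sup (Submodule.mem_span_singleton.2 ⟨c, rfl⟩) hz)
      (Submodule.mem_span_singleton.2 ⟨r, rfl⟩)
  have h2 : ∀ m : M, Module.finrank F (Submodule.span F {m}) ≤ 1 := fun m => by
    have := finrank_span_finset_le_card (R := F) ({m} : Finset M)
    rwa [Finset.coe_singleton, Finset.card_singleton] at this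
  have h3 := Submodule.finrank_mono h1
  have h4 := Submodule.finrank_add_le_finrank_add_finrank (Submodule.span F {e} ⊔ LinearMap.range (sf k))
    (Submodule.span F {n k})
  have h5 := Submodule.finrank_add_le_finrank_add_finrank (Submodule.span F {e}) (LinearMap.range (sf k))
  have h6 := h2 e
  have h7 := h2 (n k)
  omega

section main

variable (g : Eig h τ y n sf q) (hQ : QQ (R i) = WW V (R i)) {k : N} (hk0 : k ≠ 0)
  {P : Subgroup G} (hPR : P ≤ centralizer (R i : Set G)) (hUP : UU V R j ≤ P)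
  (hgen : ∀ H : Subgroup P, (∀ x, (∃ m : ℕ, x ^ 2 ^ m = 1) → x ∈ H) → H = ⊤)
  (hPN : ∀ x : NR R i, (x : G) ∈ P → ∀ m ∈ Ng (p (v 0 1)) n (fun a b => sf a b) k,
      x • m ∈ Ng (p (v 0 1)) n (fun a b => sf a b) k)
  (hspan : Ng (p (v 0 1)) n (fun a b => sf a b) k ≤ Submodule.span F
      {m | ∃ x : NR R i, (x : G) ∈ P ∧ m = x • p (v 0 1)})
  (htr : ∀ x ∈ P, ∀ x' ∈ P, cj x V ≠ V → cj x' V ≠ V → ∃ a ∈ UU V R j, cj a (cj x V) = cj x' V)
  {m₀ : NR R i} (hm₀ : (m₀ : G) ∈ P) {β γ : F} (hβ : β ≠ 0) (hγ : γ ≠ 0)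
  (hm1 : m₀ • p (v 0 1) = β • n k) (hm2 : m₀ • n k = γ • p (v 0 1))

include g

include hk0 hPR hUP hgen hPN htr hm₀ hβ hγ hm1 hm2 in
/-- **KEY and (S), type (sigma)** -/
theorem moved_sigma (hZ : ∀ l, sf k l = 0) {l0 : N} (hl0 : q l0 k ≠ 0)
    (hcard : Nat.card F + 1 ≤ (normalizer (V : Set G)).relIndex P) :
    (∀ l, q k l = 0) ∧
    (∀ a : NR R i, (a : G) ∈ UU V R j → (∃ c : F, P2 (a : G) = c • k) → ∀ m, a • m - m ∈
      Ng (p (v 0 1)) n (fun a b => sf a b) k) ∧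
    ∀ x : NR R i, (x : G) ∈ P → ∀ a : NR R i, (a : G) ∈ UU V R j → (∃ c : F, P2 (a : G) = c • k) →
      ∀ m : M, x • a • m = a • x • m := by
  have hMf : Finite M := Finite.of_surjective (fun x : WW V (R i) => p x) fun m => by
    obtain ⟨x, hx, e1⟩ := h.fr.p_surj m
    exact ⟨⟨x, hx⟩, e1⟩
  have hK : ∀ l, q k l = 0 := fun l => eig_sigma g hZ hl0 (hPR hm₀) hβ hm1 (hPR hm₀) hβ hγ hm1 hm2 l
  refine ⟨hK, eig_key g fun l _ => hK l, ?_⟩
  refine hS_of g hPR hUP hPN (fun l _ => hK l) htr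
    (fun x hx _ ε c' => hmul_sigma g hk0 hZ hPR hPN hgen x hx ε c') ?_
  rw [Lin_relIndex]
  have h1 : LinearMap.range (sf k) = ⊥ := by
    rw [LinearMap.range_eq_bot]
    ext l
    exact hZ l
  have h2 := finrank_Ng_le (F := F) (n := n) (sf := sf) (e := p (v 0 1)) (k := k)
  rw [h1, finrank_bot] at h2
  obtain ⟨ζ, hζ, hζ1⟩ := h.four
  have h3 : 3 < Nat.card F := three_lt_card hζ hζ1
  have h4 : (Module.finrank F (Ng (p (v 0 1)) n (fun a b => sf a b) k) + 1).choose 2 ≤ (3).choose 2 :=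
    Nat.choose_le_choose 2 (by omega)
  have h5 : (3 : ℕ).choose 2 = 3 := rfl
  omega

include hk0 hPR hUP hgen hPN htr hm₀ hβ hγ hm1 hm2 in
/-- **KEY and (S), type (beta)** -/
theorem moved_beta (han : ∀ l, sf k l = 0 ↔ q l k = 0)
    (hΩ : ∀ x : NR R i, (x : G) ∈ P → (∃ ε : F, x • p (v 0 1) = ε • p (v 0 1)) ∨
      ∃ (c : F) (l : N), x • p (v 0 1) = c • (n k + sf k l + q l k • p (v 0 1)))
    (hZ : Module.finrank F (LinearMap.range (sf k)) ≤ 2)
    (hcard : Nat.card F ^ 2 + 1 ≤ (normalizer (V : Set G)).relIndex P) :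
    (∀ l, sf k l = 0 → q k l = 0) ∧
    (∀ a : NR R i, (a : G) ∈ UU V R j → (∃ c : F, P2 (a : G) = c • k) → ∀ m, a • m - m ∈
      Ng (p (v 0 1)) n (fun a b => sf a b) k) ∧
    ∀ x : NR R i, (x : G) ∈ P → ∀ a : NR R i, (a : G) ∈ UU V R j → (∃ c : F, P2 (a : G) = c • k) →
      ∀ m : M, x • a • m = a • x • m := by
  have hMf : Finite M := Finite.of_surjective (fun x : WW V (R i) => p x) fun m => by
    obtain ⟨x, hx, e1⟩ := h.fr.p_surj m
    exact ⟨⟨x, hx⟩, e1⟩
  have hK : ∀ l, sf k l = 0 → q k l = 0 := fun l hl =>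
    eig_first g hl ((han l).1 hl) (hPR hm₀) hβ hm1
  refine ⟨hK, eig_key g hK, ?_⟩
  refine hS_of g hPR hUP hPN hK htr
    (fun x hx _ ε c' => hmul_beta g hPR hUP hk0 (fun l => (han l).1) hPN hΩ hm₀ hβ hγ hm1 hm2
      (fun l => (han l).2) hgen x hx ε c') ?_
  rw [Lin_relIndex]
  have h2 := finrank_Ng_le (F := F) (n := n) (sf := sf) (e := p (v 0 1)) (k := k)
  obtain ⟨ζ, hζ, hζ1⟩ := h.four
  have h3 : 3 < Nat.card F := three_lt_card hζ hζ1
  have h4 : (Module.finrank F (Ng (p (v 0 1)) n (fun a b => sf a b) k) + 1).choose 2 ≤ (5).choose 2 :=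
    Nat.choose_le_choose 2 (by omega)
  have h5 : (5 : ℕ).choose 2 = 10 := rfl
  have h6 : 4 ^ 2 ≤ Nat.card F ^ 2 := Nat.pow_le_pow_left h3 2
  omega

end main

end Cfsg.Agent.Omega.Lie.Nodes
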