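import Mathlib

/-!
# Step (S) of the node theorem (#14331): the root group `A_g` is centralised by the node group

* `sum_eq_zero`: a finite 2-group transitive on `Ω`, an equivariant map from `Ω` to an `F`-space of dimension `< |Ω|`:
  the sum of the values is `0`.
* `const`: `P` transitive on `Ω`, a 2-subgroup fixing `e` transitive on the other points, an equivariant map from `Ω` to a
  space of dimension `< |Ω| - 1` is constant.
* `main`: (S).
* `char_eq_one`: a group generated by 2-elements has no character `≠ 1` into `F^×`.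
-/

set_option autoImplicit false

namespace Cfsg.Agent.Omega.Lie.Nodes.Fixed

open Module

section perm

variable {F X Ω : Type*} [Field F] [Finite F] [CharP F 2] [AddCommGroup X] [Module F X] [Fintype Ω]

theorem add_self (F : Type*) {X : Type*} [Field F] [CharP F 2] [AddCommGroup X] [Module F X] (x : X) : x + x = 0 := by
  have h : ((1 : F) + 1) • x = 0 := by
    rw [CharTwo.add_self_eq_zero, zero_smul]
  rwa [add_smul, one_smul] at h

theorem sum_eq_zero {A : Type*} [Group A] [Finite A] [MulAction A Ω] (hA : IsPGroup 2 A)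
    (htr : ∀ w w' : Ω, ∃ a : A, a • w = w') (φ : Ω → X)
    (hρ : ∀ a : A, ∃ ρ : X →ₗ[F] X, ∀ w, ρ (φ w) = φ (a • w))
    (hd : finrank F (Submodule.span F (Set.range φ)) < Fintype.card Ω) : ∑ w, φ w = 0 := by
  classical
  have : FiniteDimensional F (Submodule.span F (Set.range φ)) :=
    FiniteDimensional.span_of_finite F (Set.finite_range φ)
  set L : (Ω → F) →ₗ[F] X := Fintype.linearCombination F φ with hL
  have hLa : ∀ c : Ω → F, L c = ∑ w, c w • φ w := fun c => by
    rw [hL, Fintype.linearCombination_apply]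
  have hr : LinearMap.range L = Submodule.span F (Set.range φ) := Fintype.range_linearCombination F φ
  have hk : LinearMap.ker L ≠ ⊥ := by
    intro h0
    have h1 := LinearMap.finrank_range_add_finrank_ker L
    rw [hr, h0, finrank_bot, add_zero, Module.finrank_fintype_fun_eq_card] at h1
    omega
  have hinv : ∀ (a : A) (c : Ω → F), L c = 0 → L (fun w => c (a⁻¹ • w)) = 0 := by
    intro a c hc
    obtain ⟨ρ, h⟩ := hρ a
    rw [hLa]
    have e1 : ∑ w, c (a⁻¹ • w) • φ w = ∑ w, c w • φ (a • w) := by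
      rw [← Equiv.sum_comp (MulAction.toPerm a)]
      refine Finset.sum_congr rfl fun w _ => ?_
      rw [MulAction.toPerm_apply, inv_smul_smul]
    rw [e1]
    have e2 : ρ (L c) = ∑ w, c w • φ (a • w) := by
      rw [hLa, map_sum]
      exact Finset.sum_congr rfl fun w _ => by rw [map_smul, h]
    rw [← e2, hc, map_zero]
  letI : MulAction A (LinearMap.ker L) :=
    { smul := fun a c => ⟨fun w => c.1 (a⁻¹ • w), hinv a c.1 c.2⟩
      one_smul := fun c => by
        apply Subtype.ext
        funext w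
        change c.1 ((1 : A)⁻¹ • w) = c.1 w
        rw [inv_one, one_smul]
      mul_smul := fun a b c => by
        apply Subtype.ext
        funext w
        change c.1 ((a * b)⁻¹ • w) = c.1 (b⁻¹ • a⁻¹ • w)
        rw [mul_inv_rev, mul_smul] }
  have hsm : ∀ (a : A) (c : LinearMap.ker L) (w : Ω), (a • c).1 w = c.1 (a⁻¹ • w) := fun _ _ _ => rfl
  obtain ⟨k, hk1, hk0⟩ := Submodule.exists_mem_ne_zero_of_ne_bot hk
  have hdvd : 2 ∣ Nat.card (LinearMap.ker L) := by
    have h2 : addOrderOf (⟨k, hk1⟩ : LinearMap.ker L) = 2 := by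
      apply addOrderOf_eq_prime
      · rw [two_nsmul]
        exact add_self F _
      · intro h
        exact hk0 (congrArg Subtype.val h)
    rw [← h2]
    exact addOrderOf_dvd_natCard _
  have h0 : (0 : LinearMap.ker L) ∈ MulAction.fixedPoints A (LinearMap.ker L) := by
    intro a
    apply Subtype.ext
    funext w
    rw [hsm]
    rfl
  obtain ⟨b, hb, hb0⟩ := hA.exists_fixed_point_of_prime_dvd_card_of_fixed_point _ hdvd h0
  have hb1 : ∃ w, b.1 w ≠ 0 := by
    by_contra hcon
    push Not at hcon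
    exact hb0 (Subtype.ext (funext fun w => (hcon w).symm))
  obtain ⟨w₀, hw₀⟩ := hb1
  have hconst : ∀ w, b.1 w = b.1 w₀ := by
    intro w
    obtain ⟨a, ha⟩ := htr w w₀
    have := congrArg (fun c : LinearMap.ker L => c.1 w₀) (hb a)
    simp only [hsm] at this
    rw [← this, ← ha, inv_smul_smul]
  have h3 : b.1 w₀ • ∑ w, φ w = 0 := by
    have h4 := b.2
    rw [LinearMap.mem_ker, hLa] at h4
    rw [Finset.smul_sum, ← h4]
    exact Finset.sum_congr rfl fun w _ => by rw [hconst w]
  exact (smul_eq_zero.1 h3).resolve_left hw₀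

theorem const {P : Type*} [Group P] [Finite P] [MulAction P Ω] (e : Ω) (htP : ∀ w : Ω, ∃ p : P, p • e = w)
    (A : Subgroup P) (hA : IsPGroup 2 A) (hAe : ∀ a ∈ A, a • e = e)
    (htr : ∀ w w' : Ω, w ≠ e → w' ≠ e → ∃ a ∈ A, a • w = w') (φ : Ω → X)
    (hρ : ∀ p : P, ∃ ρ : X →ₗ[F] X, ∀ w, ρ (φ w) = φ (p • w))
    (hd : finrank F (Submodule.span F (Set.range φ)) + 1 < Fintype.card Ω) (w : Ω) : φ w = ∑ w', φ w' := by
  classical
  have : FiniteDimensional F (Submodule.span F (Set.range φ)) :=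
    FiniteDimensional.span_of_finite F (Set.finite_range φ)
  have hne : ∀ (a : A) (w : Ω), w ≠ e → (a : P) • w ≠ e := by
    intro a w hw h
    apply hw
    have h1 := hAe _ a.2
    have h2 : (a : P) • w = (a : P) • e := by rw [h, h1]
    exact MulAction.injective _ h2
  letI : MulAction A {w : Ω // w ≠ e} :=
    { smul := fun a w => ⟨(a : P) • w.1, hne a w.1 w.2⟩
      one_smul := fun w => Subtype.ext (by
        change ((1 : A) : P) • w.1 = w.1
        rw [Subgroup.coe_one, one_smul])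
      mul_smul := fun a b w => Subtype.ext (by
        change ((a * b : A) : P) • w.1 = (a : P) • (b : P) • w.1
        rw [Subgroup.coe_mul, mul_smul]) }
  have h1 : ∑ w : {w : Ω // w ≠ e}, φ w = 0 := by
    refine sum_eq_zero (F := F) hA ?_ (fun w : {w : Ω // w ≠ e} => φ w) ?_ ?_
    · rintro ⟨w, hw⟩ ⟨w', hw'⟩
      obtain ⟨a, ha, h⟩ := htr w w' hw hw'
      exact ⟨⟨a, ha⟩, Subtype.ext h⟩
    · intro a
      obtain ⟨ρ, h⟩ := hρ a
      exact ⟨ρ, fun w => h w.1⟩
    · have h2 : Submodule.span F (Set.range fun w : {w : Ω // w ≠ e} => φ w) ≤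
          Submodule.span F (Set.range φ) := by
        apply Submodule.span_mono
        rintro _ ⟨w, rfl⟩
        exact ⟨w.1, rfl⟩
      have h3 := Submodule.finrank_mono h2
      have h4 : Fintype.card {w : Ω // w ≠ e} = Fintype.card Ω - 1 := by
        rw [Fintype.card_subtype_compl]
        simp
      omega
  have hsum : ∀ e' : Ω, ∑ w, φ w = φ e' + ∑ w : {w : Ω // w ≠ e'}, φ w := by
    intro e'
    rw [← Finset.add_sum_erase _ _ (Finset.mem_univ e')]
    congr 1
    exact Finset.sum_subtype _ (fun w => by simp) _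
  obtain ⟨p, rfl⟩ := htP w
  rw [hsum (p • e)]
  have h5 : ∑ w : {w : Ω // w ≠ p • e}, φ w = 0 := by
    obtain ⟨ρ, h⟩ := hρ p
    have h6 : ∑ w : {w : Ω // w ≠ p • e}, φ w = ∑ w : {w : Ω // w ≠ e}, φ (p • w.1) := by
      refine Fintype.sum_equiv ((MulAction.toPerm p⁻¹ : Equiv.Perm Ω).subtypeEquiv (fun w => ?_)) _ _ (fun w => ?_)
      · rw [MulAction.toPerm_apply, ne_eq, ne_eq, inv_smul_eq_iff]
      · change φ w = φ (p • (p⁻¹ • w.1))
        rw [smul_inv_smul]
    rw [h6]
    have h7 : ρ (∑ w : {w : Ω // w ≠ e}, φ w) = ∑ w : {w : Ω // w ≠ e}, φ (p • w.1) := by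
      rw [map_sum]
      exact Finset.sum_congr rfl fun w _ => h _
    rw [← h7, h1, map_zero]
  rw [h5, add_zero]

end perm

/-! ### Symmetric maps into `N` -/

section sym

variable {F M : Type*} [Field F] [Finite F] [CharP F 2] [AddCommGroup M] [Module F M] [Finite M]

/-- the maps `M → N`, zero on `N^⊥`, symmetric for `f` -/
def SymMap (f : M →ₗ[F] M →ₗ[F] F) (N : Submodule F M) : Submodule F (M →ₗ[F] M) where
  carrier := {φ | (∀ m, φ m ∈ N) ∧ (∀ m, (∀ n ∈ N, f m n = 0) → φ m = 0) ∧ ∀ m m', f (φ m) m' = f (φ m') m}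
  add_mem' := by
    rintro φ ψ ⟨h1, h2, h3⟩ ⟨k1, k2, k3⟩
    refine ⟨fun m => add_mem (h1 m) (k1 m), fun m hm => ?_, fun m m' => ?_⟩
    · rw [LinearMap.add_apply, h2 m hm, k2 m hm, add_zero]
    · simp only [LinearMap.add_apply, map_add, h3 m m', k3 m m']
  zero_mem' := ⟨fun m => N.zero_mem, fun m _ => rfl, fun m m' => by simp⟩
  smul_mem' := by
    rintro c φ ⟨h1, h2, h3⟩
    refine ⟨fun m => N.smul_mem c (h1 m), fun m hm => ?_, fun m m' => ?_⟩
    · rw [LinearMap.smul_apply, h2 m hm, smul_zero]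
    · simp only [LinearMap.smul_apply, map_smul, h3 m m']

omit [Finite F] [CharP F 2] [Finite M] in
theorem exists_lift {V : Type*} [AddCommGroup V] [Module F V] [FiniteDimensional F V] (g : M →ₗ[F] V) :
    ∃ k ≤ finrank F V, ∃ v : Fin k → M, ∀ m, ∃ c : Fin k → F, g m = ∑ i, c i • g (v i) := by
  let b := Module.finBasis F (LinearMap.range g)
  have hv : ∀ i, ∃ v : M, g v = b i := fun i => (b i).2
  choose v hv using hv
  refine ⟨_, Submodule.finrank_le (LinearMap.range g), v, fun m => ?_⟩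
  have hm : g m ∈ LinearMap.range g := ⟨m, rfl⟩
  refine ⟨fun i => b.repr ⟨g m, hm⟩ i, ?_⟩
  have h2 := congrArg Subtype.val (b.sum_repr ⟨g m, hm⟩)
  rw [AddSubmonoidClass.coe_finsetSum] at h2
  refine h2.symm.trans (Finset.sum_congr rfl fun i _ => ?_)
  rw [hv]
  rfl

omit [Finite F] [CharP F 2] in
theorem finrank_symMap (f : M →ₗ[F] M →ₗ[F] F) (hs : ∀ m m', f m m' = f m' m)
    (hnd : ∀ m, (∀ m', f m m' = 0) → m = 0) (N : Submodule F M) :
    finrank F (SymMap f N) ≤ (finrank F N + 1).choose 2 := by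
  classical
  have : FiniteDimensional F M := Module.Finite.of_finite
  obtain ⟨g, hga⟩ : ∃ g : M →ₗ[F] (N →ₗ[F] F), ∀ m (n : N), g m n = f m n :=
    ⟨(LinearMap.domRestrict' N).comp f, fun m n => rfl⟩
  obtain ⟨k, hk', v, hv⟩ := exists_lift g
  have hk : k ≤ finrank F N := by
    have : finrank F (Module.Dual F N) = finrank F N := Subspace.dual_finrank_eq
    exact hk'.trans this.le
  -- decomposition
  have hdec : ∀ m, ∃ (c : Fin k → F) (m₀ : M), m = ∑ i, c i • v i + m₀ ∧ ∀ n ∈ N, f m₀ n = 0 := by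
    intro m
    obtain ⟨c, hc⟩ := hv m
    refine ⟨c, m - ∑ i, c i • v i, by abel, fun n hn => ?_⟩
    have h1 : g (m - ∑ i, c i • v i) = 0 := by
      rw [map_sub, hc, map_sum, sub_eq_zero]
      exact Finset.sum_congr rfl fun i _ => by rw [map_smul]
    have h2 := hga (m - ∑ i, c i • v i) ⟨n, hn⟩
    rw [h1] at h2
    exact h2.symm
  let Φ : SymMap f N →ₗ[F] (Sym2 (Fin k) → F) :=
    { toFun := fun φ s => Sym2.lift ⟨fun i j => f (φ.1 (v i)) (v j), fun i j => φ.2.2.2 (v i) (v j)⟩ s
      map_add' := by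
        intro φ ψ
        funext s
        induction s with
        | _ i j => simp
      map_smul' := by
        intro c φ
        funext s
        induction s with
        | _ i j => simp }
  have hΦ : ∀ (φ : SymMap f N) i j, Φ φ s(i, j) = f (φ.1 (v i)) (v j) := fun _ _ _ => rfl
  have hinj : Function.Injective Φ := by
    rw [← LinearMap.ker_eq_bot, LinearMap.ker_eq_bot']
    intro φ hφ
    have h1 : ∀ i j, f (φ.1 (v i)) (v j) = 0 := fun i j => by rw [← hΦ, hφ]; rfl
    have h2 : ∀ i, φ.1 (v i) = 0 := by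
      intro i
      apply hnd
      intro m'
      obtain ⟨c, m₀, rfl, h0⟩ := hdec m'
      rw [map_add, map_sum, hs _ m₀, h0 _ (φ.2.1 _), add_zero]
      exact Finset.sum_eq_zero fun j _ => by rw [map_smul, h1, smul_zero]
    apply Subtype.ext
    apply LinearMap.ext
    intro m
    obtain ⟨c, m₀, rfl, h0⟩ := hdec m
    rw [map_add, map_sum, φ.2.2.1 m₀ h0, add_zero]
    exact Finset.sum_eq_zero fun i _ => by rw [map_smul, h2, smul_zero]
  have h1 := LinearMap.finrank_le_finrank_of_injective hinj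
  rw [Module.finrank_fintype_fun_eq_card, Sym2.card, Fintype.card_fin] at h1
  exact h1.trans (Nat.choose_le_choose _ (by omega))

end sym

/-! ### (S) -/

section main

variable {F M P Ω : Type*} [Field F] [Finite F] [CharP F 2] [AddCommGroup M] [Module F M] [Finite M]
  [Group P] [Finite P] [DistribMulAction P M] [SMulCommClass P F M] [MulAction P Ω]

/-- **(S)**: `a` is centralised by `P`. -/
theorem main (f : M →ₗ[F] M →ₗ[F] F) (hs : ∀ m m', f m m' = f m' m) (hnd : ∀ m, (∀ m', f m m' = 0) → m = 0)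
    (hf : ∀ (p : P) m m', f (p • m) (p • m') = f m m') (N : Submodule F M)
    (hN : ∀ (p : P), ∀ m ∈ N, p • m ∈ N) (hiso : ∀ m ∈ N, ∀ m' ∈ N, f m m' = 0)
    (a : M →ₗ[F] M) (haf : ∀ m m', f (a m) (a m') = f m m') (haN : ∀ m, a m - m ∈ N)
    (e : Ω) (htP : ∀ w : Ω, ∃ p : P, p • e = w)
    (A : Subgroup P) (hA : IsPGroup 2 A) (hAe : ∀ a ∈ A, a • e = e)
    (htr : ∀ w w' : Ω, w ≠ e → w' ≠ e → ∃ a ∈ A, a • w = w')
    (hst : ∀ p : P, p • e = e → ∀ m, p • a m = a (p • m))
    (hcard : (finrank F N + 1).choose 2 + 1 < Nat.card Ω) (p : P) (m : M) : p • a m = a (p • m) := by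
  classical
  have hfin : Finite Ω := Nat.finite_of_card_ne_zero (by omega)
  have := Fintype.ofFinite Ω
  -- the conjugates of `a - 1`
  let τ : P → M →ₗ[F] M := fun p => DistribSMul.toLinearMap F M p
  have hτ : ∀ p m, τ p m = p • m := fun _ _ => rfl
  let cj : P → (M →ₗ[F] M) →ₗ[F] (M →ₗ[F] M) := fun p =>
    { toFun := fun φ => (τ p).comp (φ.comp (τ p⁻¹))
      map_add' := fun φ ψ => by ext m; simp [hτ]
      map_smul' := fun c φ => by ext m; simp [hτ, smul_comm] }
  have hcj : ∀ p φ m, cj p φ m = p • φ (p⁻¹ • m) := fun _ _ _ => rfl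
  choose q hq using htP
  set φ : Ω → M →ₗ[F] M := fun w => cj (q w) (a - LinearMap.id) with hφ
  have hφa : ∀ w m, φ w m = q w • (a ((q w)⁻¹ • m) - (q w)⁻¹ • m) := fun _ _ => rfl
  have hst' : ∀ p p' : P, p • e = p' • e → ∀ m, p • a (p⁻¹ • m) = p' • a (p'⁻¹ • m) := by
    intro p p' h m
    have h1 : (p⁻¹ * p') • e = e := by rw [mul_smul, ← h, inv_smul_smul]
    have h2 := hst _ h1 (p'⁻¹ • m)
    rw [← mul_smul, mul_assoc, mul_inv_cancel, mul_one] at h2
    rw [← h2, mul_smul, smul_inv_smul]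
  have hφq : ∀ (p : P) m, φ (p • e) m = p • (a (p⁻¹ • m) - p⁻¹ • m) := by
    intro p m
    rw [hφa, smul_sub, smul_sub, smul_inv_smul, smul_inv_smul, hst' (q (p • e)) p (hq _) m]
  have hequi : ∀ (p : P) w, cj p (φ w) = φ (p • w) := by
    intro p w
    ext m
    have h1 : p • w = (p * q w) • e := by rw [mul_smul, hq]
    rw [h1, hφq, hcj, hφa, mul_inv_rev, mul_smul, mul_smul]
  have hsym : ∀ w, φ w ∈ SymMap f N := by
    intro w
    have key : ∀ m m', f (a m - m) m' = f (a m' - m') m := by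
      intro m m'
      have h1 := haf m m'
      have h2 := hiso _ (haN m) _ (haN m')
      have e1 : f (a m) (a m') = f m m' + f (a m - m) m' + f m (a m' - m') + f (a m - m) (a m' - m') := by
        simp only [map_sub, LinearMap.sub_apply]; ring
      rw [e1, h2, add_zero, hs m (a m' - m')] at h1
      have h3 : f (a m - m) m' + f (a m' - m') m = 0 := by linear_combination h1
      exact CharTwo.add_eq_zero.1 h3
    have hz : ∀ m, (∀ n ∈ N, f m n = 0) → a m - m = 0 := by
      intro m hm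
      apply hnd
      intro m'
      rw [key, hs, hm _ (haN m')]
    have hfi : ∀ (p : P) m m', f (p • m) m' = f m (p⁻¹ • m') := by
      intro p m m'
      rw [← hf p m (p⁻¹ • m'), smul_inv_smul]
    refine ⟨fun m => ?_, fun m hm => ?_, fun m m' => ?_⟩
    · rw [hφa]
      exact hN _ _ (haN _)
    · rw [hφa, hz, smul_zero]
      intro n hn
      rw [hfi, inv_inv]
      exact hm _ (hN _ _ hn)
    · rw [hφa, hφa, hfi, hfi, key]
  have hd : finrank F (Submodule.span F (Set.range φ)) + 1 < Fintype.card Ω := by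
    have h1 : Submodule.span F (Set.range φ) ≤ SymMap f N := by
      rw [Submodule.span_le]
      rintro _ ⟨w, rfl⟩
      exact hsym w
    have : FiniteDimensional F M := Module.Finite.of_finite
    have h2 := Submodule.finrank_mono h1
    have h3 := finrank_symMap f hs hnd N
    rw [Nat.card_eq_fintype_card] at hcard
    omega
  have hc := const (F := F) e (fun w => ⟨q w, hq w⟩) A hA hAe htr φ (fun p => ⟨cj p, fun w => hequi p w⟩) hd
  have h1 : φ (p • e) = φ ((1 : P) • e) := by rw [hc, hc ((1 : P) • e)]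
  have h2 := LinearMap.congr_fun h1 (p • m)
  rw [hφq, hφq, inv_smul_smul, inv_one, one_smul, one_smul, smul_sub] at h2
  exact sub_left_injective h2

end main

/-! ### Characters of groups generated by 2-elements -/

/-- A group generated by 2-elements has no nontrivial character into the multiplicative group of a finite field of
characteristic two. -/
theorem char_eq_one {F P : Type*} [Field F] [Finite F] [CharP F 2] [Group P] (χ : P →* Fˣ)
    (hP : ∀ H : Subgroup P, (∀ x, (∃ k : ℕ, x ^ 2 ^ k = 1) → x ∈ H) → H = ⊤) (x : P) : χ x = 1 := by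
  have h1 := hP χ.ker (fun y hy => by
    obtain ⟨k, hk⟩ := hy
    rw [MonoidHom.mem_ker]
    have h2 : (χ y) ^ 2 ^ k = 1 := by rw [← map_pow, hk, map_one]
    have h3 : ((χ y : Fˣ) : F) ^ 2 ^ k = 1 := by
      rw [← Units.val_pow_eq_pow_val, h2, Units.val_one]
    apply Units.ext
    rw [Units.val_one]
    have h4 : ((χ y : F) - 1) ^ 2 ^ k = 0 := by
      rw [sub_pow_char_pow, h3, one_pow, sub_self]
    exact sub_eq_zero.1 (pow_eq_zero_iff (by positivity) |>.1 h4))
  have h2 : x ∈ χ.ker := by rw [h1]; trivial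
  exact h2

/-! ### The stabiliser of `e` centralises `a` -/

section stab

variable {F M H : Type*} [Field F] [AddCommGroup M] [Module F M] [Group H] [DistribMulAction H M] [SMulCommClass H F M]

/-- `D = e + [M,A,A]`, `E = e^⊥`, `es` a vector outside `E`; `c` is the scalar by which `p` acts on `M / E`, `c'` the
scalar by which it acts on `[es, a] + D`. -/
theorem stab (A : Subgroup H) (D E : Submodule F M) (es : M)
    (inj : ∀ a ∈ A, ∀ a' ∈ A, a • es - a' • es ∈ D → a = a') (hE : ∀ a ∈ A, ∀ m ∈ E, a • m - m ∈ D)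
    (p a : H) (ha : a ∈ A) (hpa : p * a * p⁻¹ ∈ A) (c c' : F) (hc : p • es - c • es ∈ E)
    (hc' : p • (a • es - es) - c' • (a • es - es) ∈ D) (hc0 : c ≠ 0) (hcc : c = c') : p * a * p⁻¹ = a := by
  apply inj _ hpa _ ha
  have h1 := hE _ hpa _ hc
  have e1 : (p * a * p⁻¹) • (p • es - c • es) - (p • es - c • es) =
      p • (a • es - es) - c • ((p * a * p⁻¹) • es - es) := by
    have e2 : (p * a * p⁻¹) • p • es = p • a • es := by rw [← mul_smul, ← mul_smul]; group
    rw [smul_sub, e2, smul_comm (p * a * p⁻¹) c es, smul_sub c, smul_sub p]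
    abel
  rw [e1] at h1
  have h2 := sub_mem hc' h1
  have e3 : p • (a • es - es) - c' • (a • es - es) - (p • (a • es - es) - c • ((p * a * p⁻¹) • es - es)) =
      c • ((p * a * p⁻¹) • es - a • es) := by
    rw [← hcc, smul_sub c, smul_sub c, smul_sub c]
    abel
  rw [e3] at h2
  exact (D.smul_mem_iff hc0).1 h2

end stab

section chars

variable {F M P : Type*} [Field F] [Finite F] [CharP F 2] [AddCommGroup M] [Module F M] [Group P]
  [DistribMulAction P M] [SMulCommClass P F M]

theorem char_val_eq_one (χ : P →* F)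
    (hP : ∀ H : Subgroup P, (∀ x, (∃ k : ℕ, x ^ 2 ^ k = 1) → x ∈ H) → H = ⊤) (x : P) : χ x = 1 := by
  have h := char_eq_one χ.toHomUnits hP x
  have := congrArg Units.val h
  simpa using this

/-- type (σ), (α): `N = ⟨x₀, x⟩` of dimension two -/
theorem mul_eq_one_of_two (hP : ∀ H : Subgroup P, (∀ x, (∃ k : ℕ, x ^ 2 ^ k = 1) → x ∈ H) → H = ⊤)
    (N : Submodule F M) (hN : ∀ p : P, ∀ m ∈ N, p • m ∈ N) {x₀ x : M} (hx₀ : x₀ ∈ N) (hx : x ∈ N)
    (hspan : ∀ m ∈ N, ∃ α β : F, m = α • x₀ + β • x)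
    (hli : ∀ α β : F, α • x₀ + β • x = 0 → α = 0 ∧ β = 0) (p : P) {ε c' δ : F} (h1 : p • x₀ = ε • x₀)
    (h2 : p • x = c' • x + δ • x₀) : ε * c' = 1 := by
  classical
  let τ : P →* (N →ₗ[F] N) :=
    { toFun := fun p => (DistribSMul.toLinearMap F M p).restrict (hN p)
      map_one' := by
        ext m
        change (1 : P) • (m : M) = m
        exact one_smul _ _
      map_mul' := fun p p' => by
        ext m
        change (p * p') • (m : M) = p • p' • (m : M)
        exact mul_smul _ _ _ }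
  have hτ : ∀ p (m : N), ((τ p m : N) : M) = p • (m : M) := fun _ _ => rfl
  let v : Fin 2 → N := ![⟨x₀, hx₀⟩, ⟨x, hx⟩]
  have hv0 : v 0 = ⟨x₀, hx₀⟩ := rfl
  have hv1 : v 1 = ⟨x, hx⟩ := rfl
  have hlv : LinearIndependent F v := by
    rw [LinearIndependent.pair_iff']
    · intro a h
      have h3 := congrArg Subtype.val h
      change a • x₀ = x at h3
      have h4 := (hli a (-1) (by rw [h3, neg_one_smul, add_neg_cancel])).2
      exact one_ne_zero (neg_eq_zero.1 h4)
    · intro h
      have h3 : x₀ = 0 := congrArg Subtype.val h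
      exact one_ne_zero (hli 1 0 (by rw [h3, smul_zero, zero_smul, add_zero])).1
  have hsv : ⊤ ≤ Submodule.span F (Set.range v) := by
    rintro ⟨m, hm⟩ -
    obtain ⟨α, β, e1⟩ := hspan m hm
    have e2 : (⟨m, hm⟩ : N) = α • v 0 + β • v 1 := Subtype.ext e1
    rw [e2]
    exact add_mem (Submodule.smul_mem _ _ (Submodule.subset_span ⟨0, rfl⟩))
      (Submodule.smul_mem _ _ (Submodule.subset_span ⟨1, rfl⟩))
  let b : Basis (Fin 2) F N := Basis.mk hlv hsv
  have hb : ∀ i, b i = v i := fun i => Basis.mk_apply hlv hsv i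
  have hdet := char_val_eq_one ((LinearMap.det : (N →ₗ[F] N) →* F).comp τ) hP p
  rw [MonoidHom.comp_apply, ← LinearMap.det_toMatrix b, Matrix.det_fin_two] at hdet
  have hr : ∀ α β : F, ∀ i, b.repr (α • v 0 + β • v 1) i = ![α, β] i := by
    intro α β i
    rw [map_add, map_smul, map_smul, ← hb, ← hb, b.repr_self, b.repr_self]
    fin_cases i <;> simp
  have e0 : τ p (v 0) = ε • v 0 + (0 : F) • v 1 := by
    apply Subtype.ext
    rw [hτ, zero_smul, add_zero]
    exact h1
  have e1 : τ p (v 1) = δ • v 0 + c' • v 1 := by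
    apply Subtype.ext
    rw [hτ]
    change p • x = δ • x₀ + c' • x
    rw [h2, add_comm]
  simp only [LinearMap.toMatrix_apply, hb, e0, e1, hr] at hdet
  simpa using hdet

omit [SMulCommClass P F M] in
/-- type (β): `P` preserves a quadratic form of `N` up to scalars -/
theorem mul_eq_one_of_quad (hP : ∀ H : Subgroup P, (∀ x, (∃ k : ℕ, x ^ 2 ^ k = 1) → x ∈ H) → H = ⊤)
    (N : Submodule F M) (hN : ∀ p : P, ∀ m ∈ N, p • m ∈ N) (q : M → F)
    (hq : ∀ p : P, ∃ μ : F, ∀ m ∈ N, q (p • m) = μ * q m) {x₀ x : M} (hx₀ : x₀ ∈ N) (hx : x ∈ N)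
    (hne : q (x₀ + x) - q x₀ - q x ≠ 0) (p : P) {ε c' : F}
    (hpol : q (p • x₀ + p • x) - q (p • x₀) - q (p • x) = ε * c' * (q (x₀ + x) - q x₀ - q x)) : ε * c' = 1 := by
  classical
  have hex : ∃ y ∈ N, q y ≠ 0 := by
    by_contra hcon
    push Not at hcon
    apply hne
    rw [hcon _ (add_mem hx₀ hx), hcon _ hx₀, hcon _ hx, sub_zero, sub_zero]
  obtain ⟨y, hy, hy0⟩ := hex
  choose μ hμ using hq
  let χ : P →* F :=
    { toFun := μ
      map_one' := by
        have h1 := hμ 1 y hy
        rw [one_smul] at h1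
        have h2 : (μ 1 - 1) * q y = 0 := by rw [sub_mul, one_mul, ← h1, sub_self]
        exact sub_eq_zero.1 ((mul_eq_zero.1 h2).resolve_right hy0)
      map_mul' := fun p p' => by
        have h1 := hμ (p * p') y hy
        rw [mul_smul, hμ p _ (hN p' y hy), hμ p' y hy, ← mul_assoc] at h1
        exact (mul_right_cancel₀ hy0 h1).symm }
  have h1 : μ p = 1 := char_val_eq_one χ hP p
  have h2 : q (p • x₀ + p • x) = q (x₀ + x) := by
    rw [← smul_add, hμ p _ (add_mem hx₀ hx), h1, one_mul]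
  rw [h2, hμ p _ hx₀, hμ p _ hx, h1, one_mul, one_mul] at hpol
  have h3 : (ε * c' - 1) * (q (x₀ + x) - q x₀ - q x) = 0 := by rw [sub_mul, one_mul, ← hpol, sub_self]
  exact sub_eq_zero.1 ((mul_eq_zero.1 h3).resolve_right hne)

end chars

/-! ### (S) for subgroups -/

section sub

open scoped Pointwise

variable {F M H : Type*} [Field F] [Finite F] [CharP F 2] [AddCommGroup M] [Module F M] [Finite M]
  [Group H] [Finite H] [DistribMulAction H M] [SMulCommClass H F M]

/-- **(S)**, for subgroups `A ≤ P` of `H` and the orbit of a point `e`. -/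
theorem main_sub (f : M →ₗ[F] M →ₗ[F] F) (hs : ∀ m m', f m m' = f m' m)
    (hnd : ∀ m, (∀ m', f m m' = 0) → m = 0) (P A : Subgroup H) (hAP : A ≤ P)
    (hf : ∀ p ∈ P, ∀ m m', f (p • m) (p • m') = f m m') (N : Submodule F M)
    (hN : ∀ p ∈ P, ∀ m ∈ N, p • m ∈ N) (hiso : ∀ m ∈ N, ∀ m' ∈ N, f m m' = 0)
    (a : H) (haf : ∀ m m', f (a • m) (a • m') = f m m') (haN : ∀ m, a • m - m ∈ N)
    (e : Submodule F M) (hA : IsPGroup 2 A) (hAe : ∀ b ∈ A, b • e = e)
    (htr : ∀ p ∈ P, ∀ p' ∈ P, p • e ≠ e → p' • e ≠ e → ∃ b ∈ A, b • p • e = p' • e)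
    (hst : ∀ p ∈ P, p • e = e → p * a * p⁻¹ = a)
    (hcard : (finrank F N + 1).choose 2 + 1 < Nat.card (MulAction.orbit P e)) :
    ∀ p ∈ P, ∀ m : M, (p * a * p⁻¹) • m = a • m := by
  intro p hp m
  have key := main (P := P) (Ω := MulAction.orbit P e) f hs hnd (fun p m m' => hf p p.2 m m') N
    (fun p m hm => hN p p.2 m hm) hiso (DistribSMul.toLinearMap F M a) haf haN
    ⟨e, MulAction.mem_orbit_self e⟩ (by
      rintro ⟨_, q, rfl⟩
      exact ⟨q, rfl⟩) (A.subgroupOf P) (hA.of_injective (Subgroup.subgroupOfEquivOfLe hAP).toMonoidHom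
        (Subgroup.subgroupOfEquivOfLe hAP).injective)
    (fun b hb => Subtype.ext (hAe b (Subgroup.mem_subgroupOf.1 hb))) (by
      rintro ⟨_, q, rfl⟩ ⟨_, q', rfl⟩ h1 h2
      obtain ⟨b, hb, h⟩ := htr q q.2 q' q'.2 (fun h => h1 (Subtype.ext h)) (fun h => h2 (Subtype.ext h))
      exact ⟨⟨b, hAP hb⟩, Subgroup.mem_subgroupOf.2 hb, Subtype.ext h⟩) (by
      intro q hq m
      have h1 := hst q q.2 (congrArg Subtype.val hq)
      change (q : H) • a • m = a • (q : H) • m
      rw [← mul_smul, ← mul_smul]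
      congr 1
      exact mul_inv_eq_iff_eq_mul.1 h1) hcard ⟨p, hp⟩ (p⁻¹ • m)
  change p • a • p⁻¹ • m = a • p • p⁻¹ • m at key
  rw [mul_smul, mul_smul, key, smul_inv_smul]

end sub

end Cfsg.Agent.Omega.Lie.Nodes.Fixed
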