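import Cfsg.Agent.Omega.Lie.Nodes.NodeAbsTwo
import Cfsg.Agent.Omega.Lie.Nodes.Fixed

/-!
# NODE LIE, TEXT NODES (#14331), abstract frame `NodeFr`: the multiplier

`P` generated by its 2-elements, `x ∈ P`, `x e = ε e`, `x n_g ≡ c' n_g mod e + Z`: `ε c' = 1` (types (sigma) and (beta)).
In type (beta) `P` preserves `Q_N(c e + z + c' n_g) = c c' + Q(z)` up to scalars.
-/

set_option autoImplicit false
set_option linter.unusedSectionVars false

namespace Cfsg.Agent.Omega.Lie.Nodes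

open Submodule

universe u v w x y

/-- a polynomial of degree 3 without constant term vanishing everywhere, `q ≥ 4` -/
theorem cubic_zero' {F : Type v} [Field F] [CharP F 2] {A B C ζ : F} (h0 : ζ ≠ 0) (h1 : ζ ≠ 1)
    (h : ∀ l : F, l * A + l * l * B + l * l * l * C = 0) : A = 0 ∧ B = 0 ∧ C = 0 := by
  have h2 : (2 : F) = 0 := CharTwo.two_eq_zero
  have e1 := h 1
  have e2 := h ζ
  have e3 := h (ζ + 1)
  have e2' : A + ζ * B + ζ * ζ * C = 0 := by
    have : ζ * (A + ζ * B + ζ * ζ * C) = 0 := by linear_combination e2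
    exact (mul_eq_zero.1 this).resolve_left h0
  have hz1 : ζ + 1 ≠ 0 := by
    intro h3
    apply h1
    have : ζ = -1 := eq_neg_of_add_eq_zero_left h3
    rw [this, CharTwo.neg_eq]
  have e3' : A + (ζ + 1) * B + (ζ + 1) * (ζ + 1) * C = 0 := by
    have : (ζ + 1) * (A + (ζ + 1) * B + (ζ + 1) * (ζ + 1) * C) = 0 := by linear_combination e3
    exact (mul_eq_zero.1 this).resolve_left hz1
  have hA : A = 0 := by
    linear_combination e1 + e2' + e3' - (A + (ζ + 1) * B + (ζ * ζ + ζ + 1) * C) * h2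
  have hBC : B + C = 0 := by linear_combination e1 - hA
  have hC : (ζ - 1) * C = 0 := by
    have : ζ * (B + ζ * C) = 0 := by linear_combination e2' - hA
    have h3 := (mul_eq_zero.1 this).resolve_left h0
    linear_combination h3 - hBC
  have hC0 := (mul_eq_zero.1 hC).resolve_left (sub_ne_zero.2 h1)
  exact ⟨hA, by rw [hC0, add_zero] at hBC; exact hBC, hC0⟩

variable {F : Type v} [Field F] {M : Type u} [AddCommGroup M] [Module F M] {N : Type w} [AddCommGroup N] [Module F N]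
  {A : Type x} [AddCommGroup A] [Module F A] {H : Type y} [Group H] [DistribMulAction H M]

open Classical in
/-- the quadratic form `q_N` -/
noncomputable def QN (e : M) (n : N →ₗ[F] M) (sf : N →ₗ[F] A →ₗ[F] M) (q : A → N → F) (g : N) (m : M) : F :=
  if K : ∃ c : F, ∃ a : A, ∃ c' : F, m = c • e + sf g a + c' • n g then
    K.choose * K.choose_spec.choose_spec.choose + q K.choose_spec.choose g else 0

namespace NodeFr

variable {e : M} {om : M →ₗ[F] F} {M0 : Submodule F M} {n : N →ₗ[F] M} {T : Fˣ → H} {α : A → H}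
    {l : A → M → F} {sf : N →ₗ[F] A →ₗ[F] M} {q : A → N → F} {P K : Subgroup H}
    (h : NodeFr e om M0 n T α l sf q P K) {g : N}
include h

theorem q_zero : q 0 g = 0 := by
  have h1 := h.q_smul 0 0 g
  rw [zero_smul] at h1
  rw [h1]; ring

theorem QN_eq (hg : g ≠ 0) (hk : ∀ a, sf g a = 0 → q a g = 0) (c : F) (a : A) (c' : F) :
    QN e n sf q g (c • e + sf g a + c' • n g) = c * c' + q a g := by
  have H : ∃ c₁ : F, ∃ a₁ : A, ∃ c₁' : F, c • e + sf g a + c' • n g =
      c₁ • e + sf g a₁ + c₁' • n g := ⟨c, a, c', rfl⟩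
  unfold QN
  rw [dif_pos H]
  set c₁ := H.choose
  set a₁ := H.choose_spec.choose
  set c₁' := H.choose_spec.choose_spec.choose
  have e1 : c • e + sf g a + c' • n g = c₁ • e + sf g a₁ + c₁' • n g :=
    H.choose_spec.choose_spec.choose_spec
  obtain ⟨h1, h2, h3⟩ := h.indep (c₁ - c) (sf g (a₁ - a)) ((c₁' - c') • g) (h.sf_mem _ _) (by
    rw [sub_smul, map_sub, map_smul, sub_smul]
    have : c₁ • e - c • e + (sf g a₁ - sf g a) + (c₁' • n g - c' • n g) =
      (c₁ • e + sf g a₁ + c₁' • n g) - (c • e + sf g a + c' • n g) := by abel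
    rw [this, e1, sub_self])
  have h4 : c₁' = c' := sub_eq_zero.1 ((smul_eq_zero.1 h3).resolve_right hg)
  have h5 : q a₁ g = q a g := by
    rw [map_sub] at h2
    exact h.q_congr hk (sub_eq_zero.1 h2)
  have h6 : c₁ = c := sub_eq_zero.1 h1
  change c₁ * c₁' + q a₁ g = c * c' + q a g
  rw [h6, h4, h5]

/-- the action of `A` on `N_g` -/
theorem A_N (b : A) (c : F) (a : A) (d : F) :
    α b • (c • e + sf g a + d • n g) =
      (c + l b (sf g a) + d * q b g) • e + sf g (a + d • b) + d • n g := by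
  have hb := h.A_mem b
  rw [smul_add, smul_add, h.P_lin _ hb, h.P_lin _ hb, h.A_e, h.A_0 b _ (h.sf_mem _ _), h.A_1, map_add, map_smul]
  module

theorem QN_A [CharP F 2] (hg : g ≠ 0) (hk : ∀ a, sf g a = 0 → q a g = 0) (b : A)
    {m : M} (hm : m ∈ NN e n sf g) : QN e n sf q g (α b • m) = QN e n sf q g m := by
  obtain ⟨c, a, d, rfl⟩ := mem_NN.1 hm
  rw [h.A_N, h.QN_eq hg hk, h.QN_eq hg hk, h.q_add, h.q_smul, map_smul]
  have h1 : l a (d • sf g b) = d * l b (sf g a) := by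
    rw [← map_smul, h.l_sym, h.l_smul _ _ _ (h.sf_mem g a)]
  rw [h1]
  have h2 : (2 : F) = 0 := CharTwo.two_eq_zero
  linear_combination (d * l b (sf g a) + d ^ 2 * q b g) * h2

section P

variable (hg : g ≠ 0) (hom : Om F P e (n g)) (hk : ∀ a, sf g a = 0 → q a g = 0)

include hg hom hk in
theorem QN_om [CharP F 2] {m : M} (hm : Om F P e m) (c : F) : QN e n sf q g (c • m) = 0 := by
  rcases (h.om_iff hg hom m).1 hm with ⟨c1, -, rfl⟩ | ⟨c1, -, a, rfl⟩
  · have e2 : c • c1 • e = (c * c1) • e + sf g 0 + (0 : F) • n g := by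
      rw [map_zero, zero_smul, add_zero, add_zero, smul_smul]
    rw [e2, h.QN_eq hg hk, h.q_zero, mul_zero, add_zero]
  · have e2 : c • c1 • (n g + sf g a + q a g • e) =
        (c * c1 * q a g) • e + sf g ((c * c1) • a) + (c * c1) • n g := by
      rw [map_smul]
      module
    rw [e2, h.QN_eq hg hk, h.q_smul]
    have h2 : (2 : F) = 0 := CharTwo.two_eq_zero
    linear_combination (c * c1 * (c * c1) * q a g) * h2

include hg hom hk in
/-- `q_N (x (n_g + λ z + λ² Q(z) e)) = 0` -/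
theorem QN_curve [CharP F 2] {x : H} (hx : x ∈ P) (a : A) (r : F) :
    QN e n sf q g (x • ((r * r * q a g) • e + sf g (r • a) + n g)) = 0 := by
  have e1 : (r * r * q a g) • e + sf g (r • a) + n g = α (r • a) • n g := by
    rw [h.A_1, h.q_smul]
    module
  rw [e1]
  have h1 := h.QN_om hg hom hk (h.om_act hx (h.om_act (h.A_mem (r • a)) hom)) 1
  rwa [one_smul] at h1

include hg hom hk in
/-- an element fixing `⟨e⟩` and `⟨n_g⟩` -/
theorem QN_fix [CharP F 2] (hF : ∃ a : F, a ≠ 0 ∧ a ≠ 1) (han : ∀ a, q a g = 0 → sf g a = 0) {x : H} (hx : x ∈ P)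
    {ε c' : F} (hε0 : ε ≠ 0) (hc0 : c' ≠ 0) (hε : x • e = ε • e) (hc' : x • n g = c' • n g)
    {m : M} (hm : m ∈ NN e n sf g) : QN e n sf q g (x • m) = (ε * c') * QN e n sf q g m := by
  obtain ⟨ζ, hζ, hζ1⟩ := hF
  have h2 : (2 : F) = 0 := CharTwo.two_eq_zero
  have hl := h.P_lin x hx
  have key : ∀ a, ∃ a', x • sf g a = sf g a' ∧ q a' g = ε * c' * q a g := by
    intro a
    by_cases hQ : q a g = 0
    · refine ⟨0, ?_, ?_⟩
      · rw [han a hQ, smul_zero, map_zero]
      · rw [h.q_zero, hQ, mul_zero]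
    obtain ⟨c1, l1, c2, e1⟩ := mem_NN.1 (h.NN_act hg hom hx (mem_NN.2 ⟨0, a, 0, by
      rw [zero_smul, zero_smul, zero_add, add_zero]⟩ : sf g a ∈ NN e n sf g))
    have h3 : ∀ r : F, r * (c1 * c') + r * r * (c1 * c2 + ε * q a g * c' + q l1 g) +
        r * r * r * (ε * q a g * c2) = 0 := by
      intro r
      have h4 := h.QN_curve hg hom hk hx a r
      have e2 : x • ((r * r * q a g) • e + sf g (r • a) + n g) =
          (r * r * q a g * ε + r * c1) • e + sf g (r • l1) + (r * c2 + c') • n g := by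
        rw [smul_add, smul_add, hl, hε, map_smul, hl, e1, hc', map_smul]
        module
      rw [e2, h.QN_eq hg hk, h.q_smul] at h4
      linear_combination h4
    obtain ⟨hA, hB, hC⟩ := cubic_zero' hζ hζ1 h3
    have hc1 : c1 = 0 := (mul_eq_zero.1 hA).resolve_right hc0
    have hc2 : c2 = 0 := (mul_eq_zero.1 hC).resolve_left (mul_ne_zero hε0 hQ)
    refine ⟨l1, ?_, ?_⟩
    · rw [e1, hc1, hc2, zero_smul, zero_smul, zero_add, add_zero]
    · rw [hc1, zero_mul, zero_add] at hB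
      linear_combination hB - ε * q a g * c' * h2
  obtain ⟨c, a, d, rfl⟩ := mem_NN.1 hm
  obtain ⟨a', e1, e2⟩ := key a
  have e3 : x • (c • e + sf g a + d • n g) = (c * ε) • e + sf g a' + (d * c') • n g := by
    rw [smul_add, smul_add, hl, hε, e1, hl, hc', smul_smul, smul_smul]
  rw [e3, h.QN_eq hg hk, h.QN_eq hg hk, e2]
  ring

include hg hom hk in
/-- an element swapping `⟨e⟩` and `⟨n_g⟩` -/
theorem QN_swap [CharP F 2] (hF : ∃ a : F, a ≠ 0 ∧ a ≠ 1) (han : ∀ a, q a g = 0 → sf g a = 0) {m₀ : H} (hm₀ : m₀ ∈ P)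
    {β γ : F} (hβ : β ≠ 0) (hγ : γ ≠ 0) (hm1 : m₀ • e = β • n g) (hm2 : m₀ • n g = γ • e)
    {m : M} (hm : m ∈ NN e n sf g) : QN e n sf q g (m₀ • m) = (β * γ) * QN e n sf q g m := by
  obtain ⟨ζ, hζ, hζ1⟩ := hF
  have h2 : (2 : F) = 0 := CharTwo.two_eq_zero
  have hl := h.P_lin m₀ hm₀
  have key : ∀ a, ∃ a', m₀ • sf g a = sf g a' ∧ q a' g = β * γ * q a g := by
    intro a
    by_cases hQ : q a g = 0
    · refine ⟨0, ?_, ?_⟩
      · rw [han a hQ, smul_zero, map_zero]
      · rw [h.q_zero, hQ, mul_zero]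
    obtain ⟨c1, l1, c2, e1⟩ := mem_NN.1 (h.NN_act hg hom hm₀ (mem_NN.2 ⟨0, a, 0, by
      rw [zero_smul, zero_smul, zero_add, add_zero]⟩ : sf g a ∈ NN e n sf g))
    have h3 : ∀ r : F, r * (γ * c2) + r * r * (c1 * c2 + γ * q a g * β + q l1 g) +
        r * r * r * (c1 * q a g * β) = 0 := by
      intro r
      have h4 := h.QN_curve hg hom hk hm₀ a r
      have e2 : m₀ • ((r * r * q a g) • e + sf g (r • a) + n g) =
          (γ + r * c1) • e + sf g (r • l1) + (r * c2 + r * r * q a g * β) • n g := by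
        rw [smul_add, smul_add, hl, hm1, map_smul, hl, e1, hm2, map_smul]
        module
      rw [e2, h.QN_eq hg hk, h.q_smul] at h4
      linear_combination h4
    obtain ⟨hA, hB, hC⟩ := cubic_zero' hζ hζ1 h3
    have hc2 : c2 = 0 := (mul_eq_zero.1 hA).resolve_left hγ
    have hc1 : c1 = 0 := by
      rcases mul_eq_zero.1 hC with h5 | h5
      · exact (mul_eq_zero.1 h5).resolve_right hQ
      · exact absurd h5 hβ
    refine ⟨l1, ?_, ?_⟩
    · rw [e1, hc1, hc2, zero_smul, zero_smul, zero_add, add_zero]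
    · rw [hc1, zero_mul, zero_add] at hB
      linear_combination hB - γ * q a g * β * h2
  obtain ⟨c, a, d, rfl⟩ := mem_NN.1 hm
  obtain ⟨a', e1, e2⟩ := key a
  have e3 : m₀ • (c • e + sf g a + d • n g) = (d * γ) • e + sf g a' + (c * β) • n g := by
    rw [smul_add, smul_add, hl, hm1, e1, hl, hm2, smul_smul, smul_smul]
    abel
  rw [e3, h.QN_eq hg hk, h.QN_eq hg hk, e2]
  ring

include hg hom hk in
/-- an element fixing `⟨e⟩` -/
theorem QN_stab [CharP F 2] (hF : ∃ a : F, a ≠ 0 ∧ a ≠ 1) (han : ∀ a, q a g = 0 → sf g a = 0) {x : H} (hx : x ∈ P)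
    {ε : F} (hε : x • e = ε • e) : ∃ μ : F, ∀ m ∈ NN e n sf g, QN e n sf q g (x • m) = μ * QN e n sf q g m := by
  have hε0 : ε ≠ 0 := by
    intro h0
    rw [h0, zero_smul, smul_eq_zero_iff_eq] at hε
    exact h.e_ne hε
  rcases (h.om_iff hg hom _).1 (h.om_act hx hom) with ⟨c, -, e1⟩ | ⟨c, hc, a, e1⟩
  · exfalso
    have h1 : n g = (c * ε⁻¹) • e := by
      have h2 : x • n g = x • ((c * ε⁻¹) • e) := by
        rw [e1, h.P_lin x hx, hε, smul_smul, mul_assoc, inv_mul_cancel₀ hε0, mul_one]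
      exact MulAction.injective x h2
    obtain ⟨-, -, h3⟩ := h.indep (-(c * ε⁻¹)) 0 g M0.zero_mem (by
      rw [h1, neg_smul]; abel)
    exact hg h3
  · have haP := h.A_mem a
    have e2 : α a • n g = n g + sf g a + q a g • e := h.A_1 a g
    rw [← e2] at e1
    have hx1 : (α a)⁻¹ * x ∈ P := mul_mem (inv_mem haP) hx
    have f1 : ((α a)⁻¹ * x) • e = ε • e := by
      rw [mul_smul, inv_smul_eq_iff, h.P_lin _ haP, h.A_e a, hε]
    have f2 : ((α a)⁻¹ * x) • n g = c • n g := by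
      rw [mul_smul, inv_smul_eq_iff, h.P_lin _ haP, e1]
    refine ⟨ε * c, fun m hm => ?_⟩
    rw [← h.QN_fix hg hom hk hF han hx1 hε0 hc f1 f2 hm, ← h.QN_A hg hk a (h.NN_act hg hom hx1 hm), mul_smul,
      smul_inv_smul]

include hg hom hk in
/-- **`P` preserves `q_N` up to scalars** -/
theorem QN_P [CharP F 2] (hF : ∃ a : F, a ≠ 0 ∧ a ≠ 1) (han : ∀ a, q a g = 0 → sf g a = 0) {x : H} (hx : x ∈ P) :
    ∃ μ : F, ∀ m ∈ NN e n sf g, QN e n sf q g (x • m) = μ * QN e n sf q g m := by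
  rcases (h.om_iff hg hom _).1 (h.om_act hx (Om.self (e := e))) with ⟨c, -, e1⟩ | ⟨c, hc, a, e1⟩
  · exact h.QN_stab hg hom hk hF han hx e1
  · -- an element interchanging `⟨e⟩` and `⟨n g⟩`
    have hne : ∀ c : F, n g ≠ c • e := by
      intro c hc
      obtain ⟨-, -, h3⟩ := h.indep (-c) 0 g M0.zero_mem (by rw [hc, neg_smul]; abel)
      exact hg h3
    have hne' : ∀ c : F, e ≠ c • n g := by
      intro c hc
      obtain ⟨h1, -, -⟩ := h.indep 1 0 (-(c • g)) M0.zero_mem (by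
        rw [map_neg, map_smul, ← hc, one_smul]; abel)
      exact one_ne_zero h1
    obtain ⟨m₀, hm₀, ⟨β, hβ, hm1⟩, γ, hγ, hm2⟩ := h.two_trans (Om.self (e := e)) hom hom (Om.self (e := e)) hne hne'
    have haP := h.A_mem a
    have e2 : α a • n g = n g + sf g a + q a g • e := h.A_1 a g
    rw [← e2] at e1
    set x3 : H := m₀ * (α a)⁻¹ * x with hx3
    have hx3P : x3 ∈ P := mul_mem (mul_mem hm₀ (inv_mem haP)) hx
    have f1 : x3 • e = (c * γ) • e := by
      rw [hx3, mul_smul, mul_smul, e1, h.P_lin _ (inv_mem haP), inv_smul_smul, h.P_lin _ hm₀, hm2, smul_smul]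
    obtain ⟨μ, hμ⟩ := h.QN_stab hg hom hk hF han hx3P f1
    refine ⟨(β * γ)⁻¹ * μ, fun m hm => ?_⟩
    have hβγ : β * γ ≠ 0 := mul_ne_zero hβ hγ
    have hain : (α a)⁻¹ * x ∈ P := mul_mem (inv_mem haP) hx
    have e3 : QN e n sf q g (x • m) = QN e n sf q g (((α a)⁻¹ * x) • m) := by
      rw [← h.QN_A hg hk a (h.NN_act hg hom hain hm), mul_smul, smul_inv_smul]
    have e4 := h.QN_swap hg hom hk hF han hm₀ hβ hγ hm1 hm2 (h.NN_act hg hom hain hm)
    have e5 : m₀ • ((α a)⁻¹ * x) • m = x3 • m := by rw [hx3, ← mul_smul, mul_assoc]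
    rw [e5, hμ m hm] at e4
    rw [e3, mul_assoc, e4, ← mul_assoc, inv_mul_cancel₀ hβγ, one_mul]

end P

variable [Finite F] [CharP F 2]

/-- **the multiplier**, for a subgroup `P₁` of `P` generated by 2-elements -/
theorem mult' [FiniteDimensional F M] (hF : ∃ a : F, a ≠ 0 ∧ a ≠ 1) (hg : g ≠ 0) (hom : Om F P e (n g))
    {P₁ : Subgroup H} (hP₁ : P₁ ≤ P)
    (hgen : ∀ H : Subgroup P₁, (∀ x, (∃ m : ℕ, x ^ 2 ^ m = 1) → x ∈ H) → H = ⊤)
    {x : H} (hx : x ∈ P₁) {ε c1 c' : F} {a1 : A} (hε : x • e = ε • e)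
    (hc' : x • n g = c1 • e + sf g a1 + c' • n g) : ε * c' = 1 := by
  have I2 : SMulCommClass P₁ F M := ⟨fun x c m => h.P_lin x (hP₁ x.2) c m⟩
  have heN : e ∈ NN e n sf g := mem_NN.2 ⟨1, 0, 0, by rw [one_smul, map_zero, zero_smul, add_zero, add_zero]⟩
  have hnN : n g ∈ NN e n sf g := mem_NN.2 ⟨0, 0, 1, by rw [one_smul, map_zero, zero_smul, zero_add, zero_add]⟩
  by_cases hk : ∀ k, sf g k = 0 → q k g = 0
  · have han : ∀ a, q a g = 0 → sf g a = 0 := fun a ha => h.beta_aniso hF hg hom hk ha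
    have hqe : ∀ c : F, QN e n sf q g (c • e) = 0 := by
      intro c
      have e1 : c • e = c • e + sf g 0 + (0 : F) • n g := by
        rw [map_zero, zero_smul, add_zero, add_zero]
      rw [e1, h.QN_eq hg hk, h.q_zero, mul_zero, add_zero]
    have hqn : QN e n sf q g (n g) = 0 := by
      have e1 : n g = (0 : F) • e + sf g 0 + (1 : F) • n g := by
        rw [map_zero, zero_smul, add_zero, zero_add, one_smul]
      rw [e1, h.QN_eq hg hk, h.q_zero, zero_mul, add_zero]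
    have hqs : QN e n sf q g (e + n g) = 1 := by
      have e1 : e + n g = (1 : F) • e + sf g 0 + (1 : F) • n g := by
        rw [map_zero, add_zero, one_smul, one_smul]
      rw [e1, h.QN_eq hg hk, h.q_zero, mul_one, add_zero]
    refine Fixed.mul_eq_one_of_quad (F := F) (P := P₁) hgen (NN e n sf g)
      (fun x m hm => h.NN_act hg hom (hP₁ x.2) hm) (QN e n sf q g) (fun x => h.QN_P hg hom hk hF han (hP₁ x.2))
      (x₀ := e) (x := n g) heN hnN ?_ ⟨x, hx⟩ (ε := ε) (c' := c') ?_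
    · have := hqe 1
      rw [one_smul] at this
      rw [hqs, this, hqn, sub_zero, sub_zero]
      exact one_ne_zero
    · have hq1 := hqe 1
      rw [one_smul] at hq1
      rw [hqs, hq1, hqn, sub_zero, sub_zero, mul_one]
      change QN e n sf q g (x • e + x • n g) - QN e n sf q g (x • e) - QN e n sf q g (x • n g) = ε * c'
      have f3 : ε • e + (c1 • e + sf g a1 + c' • n g) = (ε + c1) • e + sf g a1 + c' • n g := by module
      rw [hε, hc', f3, hqe, h.QN_eq hg hk, h.QN_eq hg hk]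
      ring
  · push Not at hk
    obtain ⟨k, hk, hqk⟩ := hk
    have hs := h.sigma_zero hg hom hk hqk
    refine Fixed.mul_eq_one_of_two (F := F) (P := P₁) hgen (NN e n sf g)
      (fun x m hm => h.NN_act hg hom (hP₁ x.2) hm) heN hnN (fun m hm => ?_) (fun r r' e1 => ?_) ⟨x, hx⟩ (δ := c1) hε ?_
    · obtain ⟨c, a, c', rfl⟩ := mem_NN.1 hm
      exact ⟨c, c', by rw [hs, add_zero]⟩
    · obtain ⟨h1, -, h2⟩ := h.indep r 0 (r' • g) M0.zero_mem (by rw [add_zero, map_smul]; exact e1)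
      exact ⟨h1, (smul_eq_zero.1 h2).resolve_right hg⟩
    · change x • n g = c' • n g + c1 • e
      rw [hc', hs, add_zero, add_comm]

/-- **the multiplier** -/
theorem mult [FiniteDimensional F M] (hF : ∃ a : F, a ≠ 0 ∧ a ≠ 1) (hg : g ≠ 0) (hom : Om F P e (n g))
    (hgen : ∀ H : Subgroup P, (∀ x, (∃ m : ℕ, x ^ 2 ^ m = 1) → x ∈ H) → H = ⊤)
    {x : H} (hx : x ∈ P) {ε c1 c' : F} {a1 : A} (hε : x • e = ε • e)
    (hc' : x • n g = c1 • e + sf g a1 + c' • n g) : ε * c' = 1 :=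
  h.mult' hF hg hom le_rfl hgen hx hε hc'

end NodeFr

end Cfsg.Agent.Omega.Lie.Nodes
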