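import Cfsg.Agent.Omega.BTwo.ModG
import Cfsg.Agent.Omega.Lie.Nodes.SigP
import Cfsg.Agent.Omega.Lie.Nodes.SigCard

/-!
# NODE LIE, TEXT NODES (#14331) (L): `GFr` from helper627's `FMod`, `Eig`
-/

set_option autoImplicit false
set_option linter.unusedSectionVars false

namespace Cfsg.Agent.Omega.Lie.Nodes

open Subgroup Cfsg.Agent.Omega.BTwo

universe u v w

variable {G : Type u} [Group G] {ι : Type w} {V : Subgroup G} {R : ι → Subgroup G} {i j : ι} {F : Type v}
  [Field F] {v : F → F → G} {w1 w2 : F → G} {M B : Type u} [AddCommGroup M] [AddCommGroup B]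
  [DistribMulAction (NR R i) M] [DistribMulAction (NR R i) B] [Module F M] {p : G → M} {r : G → B}
  {f : M →+ M →+ B} {φ : M →ₗ[F] M →ₗ[F] F} {s : NR R i → (F ≃+* F)} [CharP F 2]

section

variable (h : FMod V R i j v w1 w2 M B p r f φ s) {N : Type u} [AddCommGroup N] [Module F N]
  {P1 P2 : G → N} (y : YPair V R i j w1 w2 N P1 P2)
include h y

theorem exists_ak (k : N) : ∃ a : NR R i, (a : G) ∈ UU V R j ∧ P2 (a : G) = k := by
  obtain ⟨u, hu, hu1, hu2⟩ := y.surj 0 k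
  have huj : u ∈ UU V R j := (y.mem_U2 u hu).2 hu1
  exact ⟨⟨u, h.bt.cen_le_N i (UU_le_cen j huj)⟩, huj, hu2⟩

theorem cen_of_U {a : NR R i} (ha : (a : G) ∈ UU V R j) : (a : G) ∈ centralizer (R i : Set G) := by
  rw [mem_centralizer_iff]
  exact fun z hz => mem_centralizer_iff.1 (UU_le_cen j ha) z (h.bt.R_le i hz)

/-- the action `a_k` of `A` on `M` -/
noncomputable def alp (k : N) : M →ₗ[F] M where
  toFun m := (exists_ak h y k).choose • m
  map_add' := smul_add _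
  map_smul' l m := by
    have := y
    exact h.lin_cen (cen_of_U h y (exists_ak h y k).choose_spec.1) l m

theorem alp_apply [Finite G] {a : NR R i} (ha : (a : G) ∈ UU V R j) (m : M) : alp h y (P2 (a : G)) m = a • m := by
  show (exists_ak h y (P2 (a : G))).choose • m = a • m
  exact h.act_congr y (exists_ak h y (P2 (a : G))).choose_spec.1 ha
    (exists_ak h y (P2 (a : G))).choose_spec.2 m

end

section

variable [Finite G] [Finite F] {h : FMod V R i j v w1 w2 M B p r f φ s} {t : F → G} {τ : Lie.TorD V R i j v t}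
  {N : Type u} [AddCommGroup N] [Module F N] {P1 P2 : G → N} {y : YPair V R i j w1 w2 N P1 P2}
  {n : N →ₗ[F] M} {sf : N →ₗ[F] N →ₗ[F] M} {q : N → N →ₗ[F] F}

/-- `Fr` from `FMod` -/
theorem fr_of (h : FMod V R i j v w1 w2 M B p r f φ s) : Fr (R i) (WW V (R i)) p φ (fun a => v a 0) where
  mul := h.fr.p_mul
  zero := h.fr.p_ker
  surj := h.fr.p_surj
  comm := fun x hx y hy => h.comm_eq hx hy
  r_mem := fun a => (h.co.mem_R1 _).2 ⟨a, rfl⟩
  r_add := fun a b => by
    have := h.co.v_add a 0 b 0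
    rwa [add_zero] at this
  r_inj := fun a ha => (h.co.v_one _ _ ha).1
  cen := fun x hx a => h.bt.QR i x (h.bt.W_le_Q i hx) _ ((h.co.mem_R1 _).2 ⟨a, rfl⟩)
  nd := fun m hm => h.ext (a := m) (a' := 0) fun x => by rw [hm x, map_zero, LinearMap.zero_apply]

theorem nfr_of (g : Eig h τ y n sf q) :
    NFr φ (p (v 0 1)) (h.M0 τ) n (fun a b => sf a b) where
  alt := h.phi_self
  nd := (fr_of h).nd
  f_e_M0 := fun d hd => by rw [h.phi_symm]; exact g.phi_e0 d hd
  f_e_n := fun k => by rw [h.phi_symm]; exact g.phi_e1 k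
  f_M0 := g.phi_00
  f_n := g.phi_11
  perp := fun m hm => by
    rw [h.phi_symm] at hm
    exact (g.mem_U m).1 hm
  inj := g.inj
  indep := fun γ d hd k hk => (g.indep γ d k hd hk).2.2
  s_mem := g.sf_mem
  T_self := fun a b => by rw [g.T_23, g.sf_alt, map_zero, LinearMap.zero_apply]
  T_swap := fun a b c => by rw [CharTwo.neg_eq, g.T_23]

/-- **`GFr` from `Eig`** -/
theorem gfr_of (g : Eig h τ y n sf q) :
    GFr V R i j v P1 P2 p φ (p (v 0 1)) (h.M0 τ) n (fun a b => sf a b) (fun a b => q a b) (alp h y) where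
  fr := fr_of h
  lin := nfr_of g
  q_V := fun b c => h.p_v b c
  mem_U := fun x hx hU => by
    have h1 := h.mem_U.2 (by rw [h.phi_symm]; exact hU : φ (p x) (p (v 0 1)) = 0)
    obtain ⟨z, hz, -, hz'⟩ := h1
    have hzW := UU_le_WW i hz
    have h2 : x * z⁻¹ ∈ R i := by
      rw [← (fr_of h).zero _ (mul_mem hx (inv_mem hzW)), (fr_of h).mul _ hx _ (inv_mem hzW),
        (fr_of h).q_inv hzW, hz', add_neg_cancel]
    have h3 := mul_mem (h.bt.R_le_U i h2) hz
    rwa [inv_mul_cancel_right] at h3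
  q_U := fun x hx => by
    have h1 := g.p_n x hx
    rw [g.mem_D] at h1
    obtain ⟨γ, d, hd, e1⟩ := h1
    exact ⟨γ, d, hd, by rw [← e1, sub_add_cancel]⟩
  act := fun u hu x hx => by
    have hN : u ∈ normalizer (R i : Set G) := h.bt.cen_le_N i (UU_le_cen j hu)
    have h1 := alp_apply h y (a := ⟨u, hN⟩) hu (p x)
    rw [h1, h.fr.p_act ⟨u, hN⟩ x hx]
  α_e := fun k => by
    obtain ⟨a, ha, rfl⟩ := exists_ak h y k
    rw [alp_apply h y ha]
    exact g.A_e a ha
  α_M0 := fun k d hd => by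
    obtain ⟨a, ha, rfl⟩ := exists_ak h y k
    rw [alp_apply h y ha]
    exact g.A_0 a ha d hd
  α_n := fun k l => by
    obtain ⟨a, ha, rfl⟩ := exists_ak h y k
    rw [alp_apply h y ha]
    exact g.A_1 a ha l
  α_f := fun k m m' => by
    obtain ⟨a, ha, rfl⟩ := exists_ak h y k
    rw [alp_apply h y ha, alp_apply h y ha]
    exact h.phi_cen (cen_of_U h y ha) m m'

theorem sh_sq (g : Eig h τ y n sf q) (l : F) (k k' : N) : q (l • k) k' = l * l * q k k' := by
  rw [g.q_smul, sq]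

/-! ### the final form of (L) -/

/-- the linear map of `M` induced by `x ∈ C(R i)` -/
noncomputable def actL (h : FMod V R i j v w1 w2 M B p r f φ s) {x : G} (hx : x ∈ centralizer (R i : Set G)) :
    M →ₗ[F] M where
  toFun m := (⟨x, centralizer_le_normalizer _ hx⟩ : NR R i) • m
  map_add' := smul_add _
  map_smul' l m := h.lin_cen (g := ⟨x, centralizer_le_normalizer _ hx⟩) hx l m

/-- **`KEY`, `(S)` and `P`-invariance of `N_g` imply that `X` and `P^` normalise `Σ`**, `Σ` elementary abelian -/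
theorem sigma_main (g : Eig h τ y n sf q) (hQ : QQ (R i) = WW V (R i)) {k : N}
    (key : ∀ a : NR R i, (a : G) ∈ UU V R j → (∃ c : F, P2 (a : G) = c • k) → ∀ m, a • m - m ∈
      Ng (p (v 0 1)) n (fun a b => sf a b) k)
    {P : Subgroup G} (hPR : P ≤ centralizer (R i : Set G))
    (hPN : ∀ x : NR R i, (x : G) ∈ P → ∀ m ∈ Ng (p (v 0 1)) n (fun a b => sf a b) k,
      x • m ∈ Ng (p (v 0 1)) n (fun a b => sf a b) k)
    (hS : ∀ x : NR R i, (x : G) ∈ P → ∀ a : NR R i, (a : G) ∈ UU V R j → (∃ c : F, P2 (a : G) = c • k) →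
      ∀ m : M, x • a • m = a • x • m)
    (hspan : Ng (p (v 0 1)) n (fun a b => sf a b) k ≤ Submodule.span F
      {m | ∃ x : NR R i, (x : G) ∈ P ∧ m = x • p (v 0 1)}) :
    XX V R ≤ normalizer (((gfr_of g).SG k ⊔ cj (nn w1 w2 1) ((gfr_of g).SG k) : Subgroup G) : Set G) ∧
    P ≤ normalizer (((gfr_of g).SG k ⊔ cj (nn w1 w2 1) ((gfr_of g).SG k) : Subgroup G) : Set G) ∧
    (∀ x ∈ (gfr_of g).SG k ⊔ cj (nn w1 w2 1) ((gfr_of g).SG k),
      ∀ z ∈ (gfr_of g).SG k ⊔ cj (nn w1 w2 1) ((gfr_of g).SG k), x * z = z * x) ∧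
    (∀ x ∈ (gfr_of g).SG k ⊔ cj (nn w1 w2 1) ((gfr_of g).SG k), x * x = 1) ∧
    Nat.card ((gfr_of g).SG k ⊔ cj (nn w1 w2 1) ((gfr_of g).SG k) : Subgroup G) * Nat.card ((gfr_of g).DZ k) =
      Nat.card ((gfr_of g).SG k) ^ 2 := by
  have hk : Key (p (v 0 1)) n (fun a b => sf a b) (alp h y) k := by
    intro c m
    obtain ⟨a, ha, hak⟩ := exists_ak h y (c • k)
    rw [← hak, alp_apply h y ha]
    exact key a ha ⟨c, hak⟩ m
  obtain ⟨l, hl, hl1⟩ := h.four
  have hA : ∀ x (hx : x ∈ P), ∀ z ∈ WW V (R i), p (x * z * x⁻¹) = actL h (hPR hx) (p z) := by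
    intro x hx z hz
    exact (h.fr.p_act ⟨x, centralizer_le_normalizer _ (hPR hx)⟩ z hz).symm
  have hN : ∀ x (hx : x ∈ P), ∀ m ∈ Ng (p (v 0 1)) n (fun a b => sf a b) k, actL h (hPR hx) m ∈
      Ng (p (v 0 1)) n (fun a b => sf a b) k :=
    fun x hx m hm => hPN ⟨x, centralizer_le_normalizer _ (hPR hx)⟩ hx m hm
  have hc : ∀ x (hx : x ∈ P), ∀ (c : F) (m : M), actL h (hPR hx) (alp h y (c • k) m) =
      alp h y (c • k) (actL h (hPR hx) m) := by
    intro x hx c m
    obtain ⟨a, ha, hak⟩ := exists_ak h y (c • k)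
    rw [← hak, alp_apply h y ha, alp_apply h y ha]
    exact hS ⟨x, centralizer_le_normalizer _ (hPR hx)⟩ hx a ha ⟨c, hak⟩ m
  have hPS : P ≤ normalizer ((gfr_of g).SG k : Set G) := by
    refine le_normalizer_of fun x hx z hz => ?_
    refine ⟨conj_mem_of_normalizer (normalizer_le_WW V (R i) (centralizer_le_normalizer _ (hPR hx))) hz.1, ?_⟩
    rw [hA x hx z hz.1]
    exact hN x hx _ hz.2
  have hsp : (gfr_of g).SG k ≤ ⨆ x : P, cj (x : G) V := by
    refine (gfr_of g).SG_le_iSup h.bt h.co.mem_V (hPR.trans (centralizer_le_normalizer _)) ?_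
    refine hspan.trans (Submodule.span_mono ?_)
    rintro m ⟨x, hx, rfl⟩
    exact ⟨x, hx, actL h (hPR hx), hA x hx, rfl⟩
  refine ⟨(gfr_of g).X_norm_sigma h.btc y h.co hk, ?_, (gfr_of g).sigma_comm h.btc y h.co hk,
    (gfr_of g).sigma_sq h.btc y h.co hk ((gfr_of g).SG_sq h.bt hsp hPS h.co.mem_V),
    (gfr_of g).card_sigma h.btc y h.co hk⟩
  exact (gfr_of g).P_norm_sigma h.btc y h.co hQ h.cenW hk hl hl1 (fun c => sh_sq g l c k) hPR
    fun x hx => ⟨actL h (hPR hx), hA x hx, hN x hx, hc x hx⟩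

end

end Cfsg.Agent.Omega.Lie.Nodes
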