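import Cfsg.Agent.Omega.Lie.Nodes.FratRes
import Cfsg.Agent.Omega.Lie.Nodes.SigInst

/-!
# NODE LIE, the END: the field `frat` for the residues `(0, x)` in helper627's `FMod`, `Eig`
-/

set_option autoImplicit false
set_option linter.unusedSectionVars false

namespace Cfsg.Agent.Omega.Lie.Nodes

open Subgroup Cfsg.Agent.Omega.BTwo Cfsg.Agent.ParSys

universe u v w

variable {G : Type u} [Group G] {ι : Type w} {V : Subgroup G} {R : ι → Subgroup G} {i j : ι} {F : Type v}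
  [Field F] {v : F → F → G} {w1 w2 : F → G} {M E : Type u} [AddCommGroup M] [AddCommGroup E]
  [DistribMulAction (NR R i) M] [DistribMulAction (NR R i) E] [Module F M] {p : G → M} {r : G → E}
  {f : M →+ M →+ E} {φ : M →ₗ[F] M →ₗ[F] F} {s : NR R i → (F ≃+* F)} [CharP F 2]
  [Finite G] [Finite F] {h : FMod V R i j v w1 w2 M E p r f φ s} {t : F → G} {τ : Lie.TorD V R i j v t}
  {N : Type u} [AddCommGroup N] [Module F N] {P1 P2 : G → N} {y : YPair V R i j w1 w2 N P1 P2}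
  {n : N →ₗ[F] M} {sf : N →ₗ[F] N →ₗ[F] M} {q : N → N →ₗ[F] F} {B U : Subgroup G} {I : Type*}
  {P : I → Subgroup G} {o x : I}

/-- **`frat` for a quadrangle** (types `(sigma)`, `(beta)`), `N_k = e + s(k, ·) + ⟨n k⟩`, `Σ = SG k ⊔ (SG k)^n`. -/
theorem frat_four_eig (g : Eig h τ y n sf q) (D : Zero.Dat V R i B U) (hPo : P o = Zero.P0 V R B)
    (X : NodeX V R i B U (P x)) (poly : Polygon B P o x 4) {k : N} (hk0 : k ≠ 0)
    (key : ∀ a : NR R i, (a : G) ∈ UU V R j → (∃ c : F, P2 (a : G) = c • k) → ∀ m, a • m - m ∈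
      Ng (p (v 0 1)) n (fun a b => sf a b) k)
    (hne : ∃ κ, sf k κ ≠ 0 ∨ q κ k ≠ 0)
    (hP : P x ≤ normalizer (((gfr_of g).SG k ⊔ cj (nn w1 w2 1) ((gfr_of g).SG k) : Subgroup G) : Set G))
    {y0 : G} (hy0 : y0 ∈ P x) (hy0B : y0 ∉ B)
    (hq : ∃ (a c : F) (z : M), z ∈ h.M0 τ ∧ c ≠ 0 ∧ p (y0 * v 0 1 * y0⁻¹) = a • p (v 0 1) + z + c • n k)
    (tr1 : ∀ y' ∈ P x, y' ∉ B → ∃ u ∈ UU V R j, (u * y0)⁻¹ * y' ∈ B) :
    ∀ Z ≤ U, (∀ u ∈ U, ∃ z ∈ Z, z⁻¹ * u ∈ Qk B (P o) ∧ z⁻¹ * u ∈ Qk B (P x)) →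
      ∀ u ∈ U, ∃ z ∈ Z, z⁻¹ * u ∈ Qk B (P o ⊔ P x) := by
  have hk : Key (p (v 0 1)) n (fun a b => sf a b) (alp h y) k := by
    intro c m
    obtain ⟨a, ha, hak⟩ := exists_ak h y (c • k)
    rw [← hak, alp_apply h y ha]
    exact key a ha ⟨c, hak⟩ m
  have hs0 : q 0 k = 0 := by
    have := sh_sq g 0 0 k
    rwa [zero_smul, mul_zero, zero_mul] at this
  obtain ⟨a, c, z, hz, hc, hq⟩ := hq
  exact (gfr_of g).frat_four h.btc y h.co D hPo X poly h.four hk hs0 h.e_ne hne hP hy0 hy0B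
    ((gfr_of g).exists_D_ne h.bt y h.co hk0 (X.PR hy0) hz hc hq) tr1

/-- **`frat` for a plane** (type `(alpha)`), `N = e + ⟨d⟩`, `d ∈ M0`. -/
theorem frat_three_eig (g : Eig h τ y n sf q) (D : Zero.Dat V R i B U) (hPo : P o = Zero.P0 V R B)
    (X : NodeX V R i B U (P x)) (poly : Polygon B P o x 3) {d : M} (hd : d ∈ h.M0 τ)
    (hP : P x ≤ normalizer (pre (gfr_of g).fr (Submodule.span F {p (v 0 1)} ⊔ Submodule.span F {d}) : Set G))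
    {y0 : G} (hy0 : y0 ∈ P x) (hy0B : y0 ∉ B)
    (tr1 : ∀ y' ∈ P x, y' ∉ B → ∃ u ∈ UU V R j, (u * y0)⁻¹ * y' ∈ B) :
    ∀ Z ≤ U, (∀ u ∈ U, ∃ z ∈ Z, z⁻¹ * u ∈ Qk B (P o) ∧ z⁻¹ * u ∈ Qk B (P x)) →
      ∀ u ∈ U, ∃ z ∈ Z, z⁻¹ * u ∈ Qk B (P o ⊔ P x) := by
  have heN : p (v 0 1) ∈ Submodule.span F {p (v 0 1)} ⊔ Submodule.span F {d} :=
    Submodule.mem_sup_left (Submodule.mem_span_singleton_self _)
  exact (gfr_of g).frat_three h.btc y h.co D hPo X poly _ (fun m hm hf => (gfr_of g).fixed_alpha h.e_ne hd hm hf)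
    heN ((gfr_of g).X_norm_pre h.bt y h.co heN
      (sup_le_sup_left ((Submodule.span_singleton_le_iff_mem d _).2 hd) _)) hP hy0 hy0B tr1

end Cfsg.Agent.Omega.Lie.Nodes
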