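import Cfsg.Agent.Omega.Lie.Nodes.Sep
import Cfsg.Agent.Omega.Lie.Nodes.FratEig
import Cfsg.Agent.Omega.Lie.End.Top
import Cfsg.Agent.ParSys.QuadSig

/-!
# NODE LIE, residues `(0, x)`, types `(sigma)` and `(beta)`: assembly

`QOut g k Q`: the output of the node theorem for the group `Q = P⁺ ≤ C(R i)`.

* `norm_of_gen`: `Σ = ⟨V^L⟩` is normalised by what normalises `V` and `L`;
* `QOut.norm_sigma`: `P x = P⁺ B` normalises `Σ`;
* `QOut.quad`: `Quad B P₀ (P x) (R i) V (W i)`;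
* `QOut.res0`: the structure `Res0`.
-/

set_option autoImplicit false
set_option linter.unusedSectionVars false

namespace Cfsg.Agent.Omega.Lie.Nodes

open Subgroup Cfsg.Agent.Omega.BTwo Cfsg.Agent.ParSys
open scoped Pointwise

universe u v w

/-- `S = ⟨V^L⟩` is normalised by what normalises `V` and `L` -/
theorem norm_of_gen {G : Type u} [Group G] [Finite G] {V L S : Subgroup G} (hVS : V ≤ S)
    (hLS : L ≤ normalizer (S : Set G)) (hS : S ≤ ⨆ g : L, cj (g : G) V) {x : G} (hx : x ∈ normalizer (V : Set G))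
    (hxL : x ∈ normalizer (L : Set G)) : x ∈ normalizer (S : Set G) := by
  have h1 : cj x S ≤ S := by
    refine (cj_mono hS).trans ?_
    rw [cj_iSup]
    refine iSup_le fun g => ?_
    have h2 : cj x (cj (g : G) V) = cj (x * g * x⁻¹) V := by
      conv_rhs => rw [← cj_eq_self_iff.2 hx]
      rw [← cj_mul, ← cj_mul, inv_mul_cancel_right]
    rw [h2]
    have h3 : x * g * x⁻¹ ∈ L := BTwo.conj_mem_of_normalizer hxL g.2
    have h4 := cj_eq_self_iff.2 (hLS h3)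
    rw [← h4]
    exact cj_mono hVS
  apply mem_normalizer_of_le
  intro z hz
  exact h1 (conj_mem_cj hz)

variable {G : Type u} [Group G] {ι : Type w} {V : Subgroup G} {R : ι → Subgroup G} {i j : ι} {F : Type v}
  [Field F] {v : F → F → G} {w1 w2 : F → G} {M E : Type u} [AddCommGroup M] [AddCommGroup E]
  [DistribMulAction (NR R i) M] [DistribMulAction (NR R i) E] [Module F M] {p : G → M} {r : G → E}
  {f : M →+ M →+ E} {φ : M →ₗ[F] M →ₗ[F] F} {s : NR R i → (F ≃+* F)} [CharP F 2]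
  [Finite G] [Finite F] {h : FMod V R i j v w1 w2 M E p r f φ s} {t : F → G} {τ : Lie.TorD V R i j v t}
  {N : Type u} [AddCommGroup N] [Module F N] {P1 P2 : G → N} {y : YPair V R i j w1 w2 N P1 P2}
  {n : N →ₗ[F] M} {sf : N →ₗ[F] N →ₗ[F] M} {q : N → N →ₗ[F] F}

/-- **The output of the node theorem**, types `(sigma)` and `(beta)`, for `Q = P⁺ ≤ C(R i)` -/
structure QOut (g : Eig h τ y n sf q) (k : N) (Q : Subgroup G) : Prop where
  ne : k ≠ 0
  QR : Q ≤ centralizer (R i : Set G)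
  UQ : UU V R j ≤ Q
  key : ∀ a : NR R i, (a : G) ∈ UU V R j → (∃ c : F, P2 (a : G) = c • k) → ∀ m, a • m - m ∈
      Ng (p (v 0 1)) n (fun a b => sf a b) k
  QN : ∀ x : NR R i, (x : G) ∈ Q → ∀ m ∈ Ng (p (v 0 1)) n (fun a b => sf a b) k,
      x • m ∈ Ng (p (v 0 1)) n (fun a b => sf a b) k
  S : ∀ x : NR R i, (x : G) ∈ Q → ∀ a : NR R i, (a : G) ∈ UU V R j → (∃ c : F, P2 (a : G) = c • k) →
      ∀ m : M, x • a • m = a • x • m
  span : Ng (p (v 0 1)) n (fun a b => sf a b) k ≤ Submodule.span F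
      {m | ∃ x : NR R i, (x : G) ∈ Q ∧ m = x • p (v 0 1)}
  hne : ∃ κ, sf k κ ≠ 0 ∨ q κ k ≠ 0
  /-- `A` is transitive on `Ω - {e}` -/
  tr : ∀ x : NR R i, (x : G) ∈ Q → (x : G) ∉ normalizer (V : Set G) →
    ∃ u : NR R i, (u : G) ∈ UU V R j ∧ ∃ c : F, c ≠ 0 ∧ x • p (v 0 1) = c • u • n k
  /-- an element which swaps `⟨e⟩` and `⟨n k⟩` -/
  swap : ∃ m : NR R i, (m : G) ∈ Q ∧ ∃ β γ : F, β ≠ 0 ∧ γ ≠ 0 ∧ m • p (v 0 1) = β • n k ∧ m • n k = γ • p (v 0 1)

variable {B U Px Q : Subgroup G} {k : N} {g : Eig h τ y n sf q}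

/-- `Px = P⁺ B` -/
structure QPx (V : Subgroup G) (R : ι → Subgroup G) (i : ι) (B U Px Q : Subgroup G) : Prop where
  dat : Zero.Dat V R i B U
  X : NodeX V R i B U Px
  QP : Q ≤ Px
  BQ : B ≤ normalizer (Q : Set G)
  PQ : Px ≤ Q ⊔ B

theorem QPx.exists_mul (K : QPx V R i B U Px Q) {x : G} (hx : x ∈ Px) : ∃ z ∈ Q, z⁻¹ * x ∈ B := by
  have h1 : x ∈ ((Q ⊔ B : Subgroup G) : Set G) := K.PQ hx
  rw [coe_mul_of_right_le_normalizer_left _ _ K.BQ] at h1
  obtain ⟨z, hz, b, hb, rfl⟩ := h1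
  exact ⟨z, hz, by rw [inv_mul_cancel_left]; exact hb⟩

namespace QOut

variable (O : QOut g k Q) (K : QPx V R i B U Px Q)
include O K

/-- an element of `B` stabilises the line `⟨e⟩` -/
theorem e_B {x : NR R i} (hx : (x : G) ∈ B) : ∃ c : F, x • p (v 0 1) = c • p (v 0 1) := by
  have _ := O
  have hv : v 0 1 ∈ V := h.co.v_mem _ _
  obtain ⟨β, γ, e1⟩ := (h.co.mem_V _).1 (BTwo.conj_mem_of_normalizer (K.dat.BV hx) hv)
  refine ⟨γ, ?_⟩
  rw [h.fr.p_act x _ (V_le_WW V (R i) hv), ← e1, h.p_v]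

theorem notMem_B {x : G} (hxP : x ∈ Px) : x ∉ B ↔ x ∉ normalizer (V : Set G) := by
  have _ := O
  exact not_congr ⟨fun hx => K.dat.BV hx, fun hx => K.X.PV (mem_inf.2 ⟨hxP, hx⟩)⟩

/-- `m ∉ B` for a swap -/
theorem swap_notMem {m : NR R i} {β : F} (hβ : β ≠ 0) (hme : m • p (v 0 1) = β • n k) : (m : G) ∉ B := by
  intro hmB
  obtain ⟨c, hc⟩ := O.e_B K hmB
  rw [hc] at hme
  have h1 := g.indep c 0 (-(β • k)) (h.M0 τ).zero_mem (by rw [add_zero, map_neg, map_smul, hme]; abel)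
  exact (smul_ne_zero hβ O.ne) (neg_eq_zero.1 h1.2.2)

/-- **`A` is transitive on the chambers `≠ B` of the panel** -/
theorem tr1 {m : NR R i} (hm : (m : G) ∈ Px) {β : F} (hβ : β ≠ 0) (hme : m • p (v 0 1) = β • n k)
    (hmC : (m : G) ∈ centralizer (R i : Set G)) :
    ∀ y' ∈ Px, y' ∉ B → ∃ u ∈ UU V R j, (u * (m : G))⁻¹ * y' ∈ B := by
  intro y' hy' hy'B
  obtain ⟨z, hz, hzy⟩ := K.exists_mul hy'
  have hzP := K.QP hz
  have hzB : z ∉ B := fun h0 => hy'B (by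
    have := mul_mem h0 hzy
    rwa [mul_inv_cancel_left] at this)
  have hzR : z ∈ normalizer (R i : Set G) := centralizer_le_normalizer _ (O.QR hz)
  obtain ⟨u, hu, c, hc, e1⟩ := O.tr ⟨z, hzR⟩ hz ((O.notMem_B K hzP).1 hzB)
  refine ⟨u, hu, ?_⟩
  have huC : ((u : NR R i) : G) ∈ centralizer (R i : Set G) := cen_of_U h y hu
  have humC : ((u * m : NR R i) : G) ∈ centralizer (R i : Set G) := mul_mem huC hmC
  have h1 : ((u * m)⁻¹ * ⟨z, hzR⟩ : NR R i) • p (v 0 1) = (c * β⁻¹) • p (v 0 1) := by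
    have h2 : n k = β⁻¹ • (m • p (v 0 1)) := by rw [hme, smul_smul, inv_mul_cancel₀ hβ, one_smul]
    have humC' : (((u * m)⁻¹ : NR R i) : G) ∈ centralizer (R i : Set G) := inv_mem humC
    rw [mul_smul, e1, h2, h.lin_cen huC, ← mul_smul u m, smul_smul, h.lin_cen humC', inv_smul_smul]
  have h2 := mem_NV_of_e h h1
  have hum : (u : G) * (m : G) ∈ Px := mul_mem (K.QP (O.UQ hu)) hm
  have h3 : ((u : G) * (m : G))⁻¹ * z ∈ B := K.X.PV (mem_inf.2 ⟨mul_mem (inv_mem hum) hzP, h2⟩)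
  have := mul_mem h3 hzy
  rwa [show ((u : G) * (m : G))⁻¹ * z * (z⁻¹ * y') = ((u : G) * (m : G))⁻¹ * y' by group] at this

/-- **`P x` normalises `Σ`** -/
theorem norm_sigma (hQ : QQ (R i) = WW V (R i)) :
    Px ≤ normalizer (((gfr_of g).SG k ⊔ cj (nn w1 w2 1) ((gfr_of g).SG k) : Subgroup G) : Set G) := by
  have b := h.bt
  obtain ⟨hX, hQS, -, -, -⟩ := sigma_main g hQ O.key O.QR O.QN O.S O.span
  set Sig := (gfr_of g).SG k ⊔ cj (nn w1 w2 1) ((gfr_of g).SG k) with hSig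
  have hVS : V ≤ (gfr_of g).SG k := (gfr_of g).V_le_SG b h.co.mem_V k
  have hsp : (gfr_of g).SG k ≤ ⨆ x : Q, cj (x : G) V := by
    refine (gfr_of g).SG_le_iSup b h.co.mem_V (O.QR.trans (centralizer_le_normalizer _)) ?_
    refine O.span.trans (Submodule.span_mono ?_)
    rintro m ⟨x, hx, rfl⟩
    exact ⟨x, hx, actL h (O.QR hx), fun z hz => (h.fr.p_act _ z hz).symm, rfl⟩
  have hB : B ≤ normalizer (Sig : Set G) := by
    intro x hx
    refine norm_of_gen (V := V) (L := XX V R ⊔ Q) (hVS.trans le_sup_left) (sup_le hX hQS) ?_ (K.dat.BV hx) ?_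
    · refine sup_le (hsp.trans (iSup_le fun x => ?_)) ?_
      · exact le_iSup (fun g : (XX V R ⊔ Q : Subgroup G) => cj (g : G) V) ⟨x, (le_sup_right : Q ≤ _) x.2⟩
      · refine (cj_mono hsp).trans ?_
        rw [cj_iSup]
        refine iSup_le fun x => ?_
        rw [← cj_mul]
        exact le_iSup (fun g : (XX V R ⊔ Q : Subgroup G) => cj (g : G) V)
          ⟨nn w1 w2 1 * x, mul_mem ((le_sup_left : XX V R ≤ _) (h.co.nn_mem_X b 1)) ((le_sup_right : Q ≤ _) x.2)⟩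
    · rw [← cj_eq_self_iff, cj_sup, cj_eq_self_iff.2 (b.NV_le_NX (K.dat.BV hx)), cj_eq_self_iff.2 (K.BQ hx)]
  exact K.PQ.trans (sup_le hQS hB)

/-- `P x` normalises `SG k` -/
theorem norm_SG (hQ : QQ (R i) = WW V (R i)) : Px ≤ normalizer ((gfr_of g).SG k : Set G) := by
  have hk : Key (p (v 0 1)) n (fun a b => sf a b) (alp h y) k := by
    intro c m
    obtain ⟨a, ha, hak⟩ := exists_ak h y (c • k)
    rw [← hak, alp_apply h y ha]
    exact O.key a ha ⟨c, hak⟩ m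
  intro x hx
  exact (gfr_of g).norm_SG h.btc y h.co hk (O.norm_sigma K hQ hx) (K.X.PR hx)

/-- `P x` preserves `N_k` -/
theorem PN (hQ : QQ (R i) = WW V (R i)) : ∀ x : NR R i, (x : G) ∈ Px →
    ∀ m ∈ Ng (p (v 0 1)) n (fun a b => sf a b) k, x • m ∈ Ng (p (v 0 1)) n (fun a b => sf a b) k := by
  intro x hx m hm
  obtain ⟨z, hz, rfl⟩ := (fr_of h).surj m
  have h1 : z ∈ (gfr_of g).SG k := ⟨hz, hm⟩
  have h2 := BTwo.conj_mem_of_normalizer (O.norm_SG K hQ hx) h1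
  rw [h.fr.p_act x z hz]
  exact h2.2

/-- **no triangles**: `Quad B P₀ (P x) (R i) V (W i)` -/
theorem quad : Quad B (Zero.P0 V R B) Px (R i) V (WW V (R i)) where
  leA := le_sup_right
  leB := K.X.le
  inf := fun x hx => K.X.PV (mem_inf.2 ⟨(mem_inf.1 hx).2, Zero.P0_le h.bt K.dat (mem_inf.1 hx).1⟩)
  aV := fun x hx z hz => BTwo.conj_mem_of_normalizer (Zero.P0_le h.bt K.dat hx) hz
  bR := fun x hx z hz => BTwo.conj_mem_of_normalizer (K.X.PR hx) hz
  bW := fun x hx z hz => BTwo.conj_mem_of_normalizer (normalizer_le_WW V (R i) (K.X.PR hx)) hz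
  RV := h.bt.R_le i
  VW := V_le_WW V (R i)
  ne := by
    refine ⟨v 1 0, (h.co.mem_R1 _).2 ⟨1, rfl⟩, fun h0 => ?_⟩
    exact one_ne_zero (h.co.v_one _ _ h0).1
  aR := by
    intro x hx hxB z hz hxz
    obtain ⟨l, hl, e1⟩ := (Zero.not_mem_B_iff h.bt K.dat hx).1 hxB
    have h1 : x * z * x⁻¹ ∈ R l := by rw [← e1]; exact conj_mem_cj hz
    have h2 : x * z * x⁻¹ ∈ R l ⊓ R i := mem_inf.2 ⟨h1, hxz⟩
    rw [h.bt.R_inf l i hl, mem_bot] at h2
    rw [← mul_left_inj x⁻¹, ← mul_right_inj x, ← mul_assoc, h2]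
    group
  bV := by
    have b := h.bt
    intro x hx hxB x' hx' hx'B z hz w hw e1
    have hxz : x * z * x⁻¹ ∈ WW V (R i) :=
      BTwo.conj_mem_of_normalizer (normalizer_le_WW V (R i) (K.X.PR hx)) (V_le_WW V (R i) hz)
    obtain ⟨l, hl, e2⟩ := (Zero.not_mem_B_iff b K.dat hx').1 hx'B
    have h2 : x * z * x⁻¹ ∈ DD V R := by
      rw [b.D_eq' (Ne.symm hl)]
      refine mem_inf.2 ⟨hxz, ?_⟩
      rw [e1, ← b.cj_WW e2]
      exact conj_mem_cj hw
    obtain ⟨m, hm, β, γ, hβ, hγ, hme, hmn⟩ := O.swap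
    obtain ⟨u, hu, hux⟩ := O.tr1 K (K.QP hm) hβ hme (O.QR hm) x hx hxB
    set b' := (u * (m : G))⁻¹ * x with hb'
    have hz' : b' * z * b'⁻¹ ∈ V := BTwo.conj_mem_of_normalizer (K.dat.BV hux) hz
    obtain ⟨a', c, e3⟩ := (h.co.mem_V _).1 hz'
    have huN : u ∈ normalizer (R i : Set G) := centralizer_le_normalizer _ (cen_of_U h y (a := ⟨u, b.cen_le_N i (UU_le_cen j hu)⟩) hu)
    set u' : NR R i := ⟨u, huN⟩ with hu'
    have e4 : x * z * x⁻¹ = ((u' * m : NR R i) : G) * v a' c * ((u' * m : NR R i) : G)⁻¹ := by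
      have e5 : ((u' * m : NR R i) : G) = u * (m : G) := rfl
      rw [e3, hb', e5]
      group
    have hvW : v a' c ∈ WW V (R i) := V_le_WW V (R i) (h.co.v_mem _ _)
    have humC : ((u' * m : NR R i) : G) ∈ centralizer (R i : Set G) :=
      mul_mem (cen_of_U h y (a := u') hu) (O.QR hm)
    have h3 : p (x * z * x⁻¹) = (c * β) • (u' • n k) := by
      rw [e4, ← h.fr.p_act _ _ hvW, h.p_v, h.lin_cen humC, mul_smul u' m, hme, h.lin_cen (cen_of_U h y (a := u') hu),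
        smul_smul]
    have h4 : p (x * z * x⁻¹) ∈ h.fr.sb (DD V R) := ⟨_, h2, hxz, rfl⟩
    rw [h3, g.A_1 u' hu k] at h4
    obtain ⟨γ', d, hd, e5⟩ := (g.mem_D _).1 h4
    have h5 := g.indep (c * β * q (P2 u) k - γ') ((c * β) • sf k (P2 u) - d) ((c * β) • k)
      ((h.M0 τ).sub_mem ((h.M0 τ).smul_mem _ (g.sf_mem _ _)) hd) (by
        rw [map_smul]
        have e6 : (c * β * q (P2 u) k - γ') • p (v 0 1) + ((c * β) • sf k (P2 u) - d) + (c * β) • n k =
            (c * β) • (n k + sf k (P2 u) + q (P2 u) k • p (v 0 1)) - (γ' • p (v 0 1) + d) := by module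
        rw [e6, sub_eq_zero]
        exact e5)
    have h6 : c = 0 := by
      rcases smul_eq_zero.1 h5.2.2 with h7 | h7
      · exact (mul_eq_zero.1 h7).resolve_right hβ
      · exact absurd h7 O.ne
    rw [h6, zero_mul, zero_smul] at h3
    exact ((fr_of h).zero _ hxz).1 h3

/-- **The residue `(0, x)`, types `(sigma)` and `(beta)`** -/
theorem res0 (hQ : QQ (R i) = WW V (R i)) {J : Type} {P : J → Subgroup G} {x : J} (hx : P x = Px) {ν m : G}
    (hm : m ∈ Px) (hmB : m ∉ B) (hν : ν ∈ XX V R) (hνR : cj ν (R i) = R j) {m' x1 x2 x3 x4 : G}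
    (sw : Swap B (Zero.P0 V R B) Px ν m m' x1 x2 x3 x4)
    (cnt : (PanS B (Zero.P0 V R B)).ncard * ((PanS B Px).ncard * (PanS B (Zero.P0 V R B)).ncard) ≤
      (MulAut.conj (ν * m * ν) • Px).relIndex (WW V (R i))) : End.Res0 V R B U P x 4 := by
  have b := h.bt
  obtain ⟨m0, hm0, β, γ, hβ, hγ, hme, hmn⟩ := O.swap
  have hm0P := K.QP hm0
  have tr := O.tr1 K hm0P hβ hme (O.QR hm0)
  have qn : QuadN B (Zero.P0 V R B) Px (R i) V (WW V (R i)) (WW V (R i)) ν m m' x1 x2 x3 x4 :=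
    { O.quad K, sw with
      n_mem := (le_sup_left : XX V R ≤ _) hν
      n_not := (Zero.not_mem_B_iff b K.dat ((le_sup_left : XX V R ≤ _) hν)).2 ⟨j, h.co.ne.symm, hνR⟩
      m_mem := hm
      m_not := hmB
      tb := by
        intro x hx hxB
        obtain ⟨u, hu, h1⟩ := tr x hx hxB
        obtain ⟨u', hu', h2⟩ := tr m hm hmB
        refine ⟨u * u'⁻¹, K.dat.UB (mul_mem ?_ (inv_mem ?_)), ?_⟩
        · exact ((UU_le_YY j).trans K.X.YU) hu
        · exact ((UU_le_YY j).trans K.X.YU) hu'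
        · have := mul_mem (inv_mem h2) h1
          rwa [show ((u' * (m0 : G))⁻¹ * m)⁻¹ * ((u * (m0 : G))⁻¹ * x) = (u * u'⁻¹ * m)⁻¹ * x by group] at this
      O_le := K.dat.WU.trans K.dat.UB
      O_triv := fun o ho x hx => K.dat.UB (K.dat.WU
        (BTwo.conj_inv_mem_of_normalizer (normalizer_le_WW V (R i) (K.X.PR hx)) ho))
      cnt := cnt }
  have poly : Polygon B (End.PPo V R B P) none (some x) 4 := by
    subst hx
    exact QuadN.polygon (P := End.PPo V R B P) (a := none) (b := some x) qn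
  have X' : NodeX V R i B U (End.PPo V R B P (some x)) := by
    have e : End.PPo V R B P (some x) = Px := hx
    rw [e]
    exact K.X
  refine ⟨poly, ?_, ?_⟩
  · intro Z hZ h1
    have h2 := frat_four_eig g K.dat (P := End.PPo V R B P) (o := none) (x := some x) rfl X' poly O.ne O.key O.hne
      (by rw [show End.PPo V R B P (some x) = Px from hx]; exact O.norm_sigma K hQ)
      (y0 := (m0 : G)) (by rw [show End.PPo V R B P (some x) = Px from hx]; exact hm0P)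
      (O.swap_notMem K hβ hme) ⟨0, β, 0, (h.M0 τ).zero_mem, hβ, by
        rw [zero_smul, zero_add, zero_add, ← hme, h.fr.p_act _ _ (V_le_WW V (R i) (h.co.v_mem 0 1))]⟩
      (by rw [show End.PPo V R B P (some x) = Px from hx]; exact tr) Z hZ (by
        intro u hu
        obtain ⟨z, hz, h3, h4⟩ := h1 u hu
        exact ⟨z, hz, h4, h3⟩)
    intro u hu
    obtain ⟨z, hz, h3⟩ := h2 u hu
    refine ⟨z, hz, ?_⟩
    rw [sup_comm]
    exact h3
  · left
    rw [hx]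
    exact sep_four_eig g K.dat K.X O.ne (O.PN K hQ) hm0P (O.QR hm0) hβ hγ hme hmn

end QOut

end Cfsg.Agent.Omega.Lie.Nodes
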