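import Cfsg.Agent.Omega.Lie.Nodes.NodeAbs

/-!
# NODE LIE, TEXT NODES (#14331) (N), abstract part: 2-transitivity, `dim Z = 2`, the node theorem, the number of points
-/

set_option autoImplicit false

namespace Cfsg.Agent.Omega.Lie.Nodes

open Submodule

universe u v w x y

variable {F : Type v} [Field F] {M : Type u} [AddCommGroup M] [Module F M] {N : Type w} [AddCommGroup N] [Module F N]
  {A : Type x} [AddCommGroup A] [Module F A] {H : Type y} [Group H] [DistribMulAction H M]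

namespace NodeFr

variable {e : M} {om : M →ₗ[F] F} {M0 : Submodule F M} {n : N →ₗ[F] M} {T : Fˣ → H} {α : A → H}
    {l : A → M → F} {sf : N →ₗ[F] A →ₗ[F] M} {q : A → N → F} {P K : Subgroup H}
    (h : NodeFr e om M0 n T α l sf q P K)
include h

/-- **2-transitivity** on the points of the orbit -/
theorem two_trans {x y z w : M} (hx : Om F P e x) (hy : Om F P e y) (hz : Om F P e z) (hw : Om F P e w)
    (hxy : ∀ c : F, y ≠ c • x) (hzw : ∀ c : F, w ≠ c • z) :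
    ∃ p ∈ P, (∃ c : F, c ≠ 0 ∧ p • x = c • z) ∧ ∃ c : F, c ≠ 0 ∧ p • y = c • w := by
  obtain ⟨p1, hp1, c1, hc1, hx1⟩ := id hx
  obtain ⟨p2, hp2, c2, hc2, hz1⟩ := id hz
  have key : ∀ {x y : M} {p : H} {c : F}, p ∈ P → c ≠ 0 → x = c • p • e → (∀ c : F, y ≠ c • x) →
      ∀ c' : F, p⁻¹ • y ≠ c' • e := by
    intro x y p c hp hc hx hxy c' hc'
    apply hxy (c' * c⁻¹)
    have h1 : y = p • (c' • e) := by rw [← hc', smul_inv_smul]
    rw [h1, hx, h.P_lin p hp, smul_smul, mul_assoc, inv_mul_cancel₀ hc, mul_one]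
  obtain ⟨a, c, hac⟩ := h.tr _ _ (h.om_act (inv_mem hp1) hy) (h.om_act (inv_mem hp2) hw)
    (key hp1 hc1 hx1 hxy) (key hp2 hc2 hz1 hzw)
  refine ⟨p2 * α a * p1⁻¹, mul_mem (mul_mem hp2 (h.A_mem a)) (inv_mem hp1), ⟨c1 * c2⁻¹,
    mul_ne_zero hc1 (inv_ne_zero hc2), ?_⟩, c, ?_, ?_⟩
  · rw [hx1, hz1, mul_smul, mul_smul, h.P_lin _ (inv_mem hp1), inv_smul_smul, h.A_smul_e, h.P_lin p2 hp2,
      smul_smul, mul_assoc, inv_mul_cancel₀ hc2, mul_one]
  · rintro rfl
    rw [zero_smul] at hac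
    exact h.om_ne (h.om_act (h.A_mem a) (h.om_act (inv_mem hp1) hy)) hac
  · rw [mul_smul, mul_smul, hac, h.P_lin p2 hp2, smul_inv_smul]

theorem l_sym (g : N) (a b : A) : l a (sf g b) = l b (sf g a) := by
  have h1 := h.q_add a b g
  have h2 := h.q_add b a g
  rw [add_comm b a, h1] at h2
  linear_combination h2

section beta

variable {g : N} [Finite F] [CharP F 2]

/-- `Z` is generated by `s(g, a)`, `s(g, b)`, where `f(s(g, a), n b) ≠ 0` -/
theorem beta_two (han : ∀ a, q a g = 0 → sf g a = 0) {a : A} (ha : sf g a ≠ 0) :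
    ∃ b, l b (sf g a) ≠ 0 ∧ (∀ c : F, sf g b ≠ c • sf g a) ∧
      LinearMap.range (sf g) = span F {sf g a} ⊔ span F {sf g b} := by
  have h1 : ∃ b, l b (sf g a) ≠ 0 := by
    by_contra hcon
    push Not at hcon
    exact ha (h.inj _ (h.sf_mem g a) hcon)
  obtain ⟨b, hb⟩ := h1
  have hl0 : ∀ a, l a 0 = 0 := by
    intro a
    have h2 := h.A_0 a 0 (zero_mem _)
    rw [smul_zero, zero_add] at h2
    exact h.smul_e_eq h2.symm
  have hperp : ∀ k, l k (sf g a) = 0 → sf g k ∈ span F {sf g a} := by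
    intro k hk
    have hqa : q a g ≠ 0 := fun h0 => ha (han a h0)
    obtain ⟨r, hr⟩ : ∃ r : F, r ^ 2 = q k g * (q a g)⁻¹ := (bijective_frobenius F 2).2 _
    have h2 : q (r • a + k) g = 0 := by
      rw [h.q_add, h.q_smul, hr, mul_assoc, inv_mul_cancel₀ hqa, mul_one, CharTwo.add_self_eq_zero, zero_add,
        h.l_smul _ _ _ (h.sf_mem g k), h.l_sym, hk, mul_zero]
    have h3 := han _ h2
    rw [map_add, map_smul] at h3
    rw [mem_span_singleton]
    exact ⟨-r, by rw [neg_smul, eq_comm, ← add_eq_zero_iff_eq_neg, add_comm, h3]⟩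
  refine ⟨b, hb, fun c hc => ?_, le_antisymm ?_ ?_⟩
  · have h2 := h.l_alt g b
    rw [hc, ← map_smul, h.l_sym, h.l_smul _ _ _ (h.sf_mem g b), h.l_sym] at h2
    have h3 : c = 0 := (mul_eq_zero.1 h2).resolve_right hb
    rw [h3, zero_smul] at hc
    apply hb
    rw [h.l_sym, hc, hl0]
  · rintro _ ⟨k, rfl⟩
    have h2 : sf g (k + (-(l k (sf g a) * (l b (sf g a))⁻¹)) • b) ∈ span F {sf g a} := by
      apply hperp
      rw [h.l_add _ _ _ (h.sf_mem g a), h.l_smul _ _ _ (h.sf_mem g a), neg_mul, mul_assoc, inv_mul_cancel₀ hb,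
        mul_one, add_neg_cancel]
    have h3 : sf g k = sf g (k + (-(l k (sf g a) * (l b (sf g a))⁻¹)) • b) +
        (l k (sf g a) * (l b (sf g a))⁻¹) • sf g b := by
      rw [map_add, map_smul, neg_smul]
      abel
    rw [h3]
    exact add_mem_sup h2 (mem_span_singleton.2 ⟨_, rfl⟩)
  · rw [sup_le_iff, span_le, span_le, Set.singleton_subset_iff, Set.singleton_subset_iff]
    exact ⟨⟨a, rfl⟩, ⟨b, rfl⟩⟩

theorem beta_finrank [FiniteDimensional F M] (han : ∀ a, q a g = 0 → sf g a = 0) {a : A} (ha : sf g a ≠ 0) :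
    Module.finrank F (LinearMap.range (sf g)) = 2 := by
  obtain ⟨b, hb, hne, hr⟩ := h.beta_two han ha
  have hb0 : sf g b ≠ 0 := by
    intro h0
    apply hne 0
    rw [h0, zero_smul]
  have h1 := Submodule.finrank_sup_add_finrank_inf_eq (span F {sf g a}) (span F {sf g b})
  have h2 : span F {sf g a} ⊓ span F {sf g b} = ⊥ := by
    rw [eq_bot_iff]
    rintro x ⟨hx1, hx2⟩
    obtain ⟨c1, rfl⟩ := mem_span_singleton.1 hx1
    obtain ⟨c2, h3⟩ := mem_span_singleton.1 hx2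
    by_cases hc2 : c2 = 0
    · rw [← h3, hc2, zero_smul]
      exact zero_mem _
    · exfalso
      apply hne (c2⁻¹ * c1)
      rw [mul_smul, ← h3, inv_smul_smul₀ hc2]
  rw [hr, ← add_zero (Module.finrank F _), ← finrank_bot F M, ← h2, h1, finrank_span_singleton ha,
    finrank_span_singleton hb0]

end beta

/-- **THE NODE THEOREM** (N) -/
theorem node [Finite F] [CharP F 2] [FiniteDimensional F M] (hF : ∃ a : F, a ≠ 0 ∧ a ≠ 1) :
    (∃ d ∈ M0, d ≠ 0 ∧ Om F P e d ∧ ∀ x, Om F P e x ↔ x ≠ 0 ∧ ∃ c c' : F, x = c • e + c' • d) ∨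
    (∃ g, g ≠ 0 ∧ Om F P e (n g) ∧ (∀ a, sf g a = 0) ∧ (∃ a, q a g ≠ 0) ∧
      ∀ x, Om F P e x ↔ x ≠ 0 ∧ ∃ c c' : F, x = c • e + c' • n g) ∨
    (∃ g, g ≠ 0 ∧ Om F P e (n g) ∧ (∀ a, sf g a = 0 ↔ q a g = 0) ∧
      Module.finrank F (LinearMap.range (sf g)) = 2 ∧
      (∀ x, Om F P e x ↔ (∃ c : F, c ≠ 0 ∧ x = c • e) ∨
        ∃ c : F, c ≠ 0 ∧ ∃ a, x = c • (n g + sf g a + q a g • e))) ∨
    ∃ x, Om F P e x ∧ om x ≠ 0 ∧ ∀ s : Fˣ, ∃ χ : F, T s • x = χ • x := by
  rcases h.fixed_cases hF with ⟨x, hx⟩ | ⟨d, hd, hd0, hom⟩ | ⟨g, hg, hom⟩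
  · exact Or.inr (Or.inr (Or.inr ⟨x, hx⟩))
  · exact Or.inl ⟨d, hd, hd0, hom, h.alpha hd hd0 hom⟩
  · by_cases hs : ∀ k, sf g k = 0 → q k g = 0
    · right; right; left
      have han : ∀ a, q a g = 0 → sf g a = 0 := fun a ha => h.beta_aniso hF hg hom hs ha
      obtain ⟨a, ha⟩ := h.beta_ne hg hom hs
      exact ⟨g, hg, hom, fun a => ⟨hs a, han a⟩, h.beta_finrank han ha, h.om_iff hg hom⟩
    · push Not at hs
      obtain ⟨k, hk, hqk⟩ := hs
      right; left
      exact ⟨g, hg, hom, h.sigma_zero hg hom hk hqk, ⟨k, hqk⟩, h.sigma_iff hg hom hk hqk⟩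

/-- the stabiliser of the point `⟨e⟩` in `P` -/
def _root_.Cfsg.Agent.Omega.Lie.Nodes.stP (F : Type v) [Field F] {M : Type u} [AddCommGroup M] [Module F M]
    {H : Type y} [Group H] [DistribMulAction H M] (P : Subgroup H) (e : M)
    (hl : ∀ p ∈ P, ∀ (c : F) (x : M), p • c • x = c • p • x) : Subgroup H where
  carrier := {p | p ∈ P ∧ ∃ c : F, c ≠ 0 ∧ p • e = c • e}
  one_mem' := ⟨one_mem _, 1, one_ne_zero, by rw [one_smul, one_smul]⟩
  mul_mem' := by
    rintro p p' ⟨hp, c, hc, h1⟩ ⟨hp', c', hc', h2⟩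
    exact ⟨mul_mem hp hp', c' * c, mul_ne_zero hc' hc, by rw [mul_smul, h2, hl p hp, h1, mul_smul]⟩
  inv_mem' := by
    rintro p ⟨hp, c, hc, h1⟩
    refine ⟨inv_mem hp, c⁻¹, inv_ne_zero hc, ?_⟩
    have h2 : e = c⁻¹ • p • e := by rw [h1, inv_smul_smul₀ hc]
    nth_rewrite 1 [h2]
    rw [hl _ (inv_mem hp), inv_smul_smul]

/-- orbit counting: `|Om| = (q - 1) |P : N_P(⟨e⟩)|` -/
theorem card_om [Finite F] [Finite H] :
    Nat.card {x : M // Om F P e x} = (Nat.card F - 1) * (stP F P e h.P_lin).relIndex P := by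
  classical
  let S := stP F P e h.P_lin
  have hSP : S ≤ P := fun p hp => hp.1
  -- `P × Fˣ ≃ Om × S`
  choose px hpx cx hcx hx using fun x : {x : M // Om F P e x} => x.2
  have hc1 : ∀ s : S, ∃ c : Fˣ, (s : H) • e = (c : F) • e := by
    rintro ⟨s, hs, c, hc, h1⟩
    exact ⟨Units.mk0 c hc, h1⟩
  choose χ hχ using hc1
  have huniq : ∀ {c c' : F}, c • e = c' • e → c = c' := by
    intro c c' hcc
    have h1 : (c - c') • e = 0 := by rw [sub_smul, hcc, sub_self]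
    exact sub_eq_zero.1 (h.smul_e_eq h1)
  have hcard : Nat.card (P × Fˣ) = Nat.card ({x : M // Om F P e x} × S) := by
    refine Nat.card_congr
      { toFun := fun z => (⟨(z.2 : F) • (z.1 : H) • e, z.1, z.1.2, z.2, z.2.ne_zero, rfl⟩,
          ⟨(px ⟨(z.2 : F) • (z.1 : H) • e, z.1, z.1.2, z.2, z.2.ne_zero, rfl⟩)⁻¹ * z.1, ?_⟩)
        invFun := fun z => (⟨px z.1 * z.2, mul_mem (hpx z.1) (hSP z.2.2)⟩,
          Units.mk0 (cx z.1) (hcx z.1) * (χ z.2)⁻¹)
        left_inv := ?_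
        right_inv := ?_ }
    · set X : {x : M // Om F P e x} := ⟨(z.2 : F) • (z.1 : H) • e, z.1, z.1.2, z.2, z.2.ne_zero, rfl⟩ with hX
      refine ⟨mul_mem (inv_mem (hpx X)) z.1.2, (z.2 : F)⁻¹ * cx X, mul_ne_zero (inv_ne_zero z.2.ne_zero) (hcx X), ?_⟩
      have h1 : (z.1 : H) • e = (z.2 : F)⁻¹ • (X : M) := by rw [hX, inv_smul_smul₀ z.2.ne_zero]
      rw [mul_smul, h1, h.P_lin _ (inv_mem (hpx X)), hx X, h.P_lin _ (inv_mem (hpx X)), inv_smul_smul, smul_smul]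
    · rintro ⟨p, c⟩
      dsimp only
      set X : {x : M // Om F P e x} := ⟨(c : F) • (p : H) • e, p, p.2, c, c.ne_zero, rfl⟩ with hX
      refine Prod.ext (Subtype.ext ?_) ?_
      · exact mul_inv_cancel_left _ _
      · apply Units.ext
        rw [Units.val_mul, Units.val_mk0, Units.val_inv_eq_inv_val]
        apply huniq
        set s : S := _
        change (cx X * ((χ s : Fˣ) : F)⁻¹) • e = _
        have h2 := hχ s
        have h3 : (s : H) • e = ((c : F)⁻¹ * cx X) • e := by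
          change ((px X)⁻¹ * (p : H)) • e = _
          have h1 : (p : H) • e = (c : F)⁻¹ • (X : M) := by rw [hX, inv_smul_smul₀ c.ne_zero]
          rw [mul_smul, h1, h.P_lin _ (inv_mem (hpx X)), hx X, h.P_lin _ (inv_mem (hpx X)), inv_smul_smul, smul_smul]
        rw [h2] at h3
        rw [huniq h3, mul_inv_rev, inv_inv, mul_inv_cancel_left₀ (hcx X)]
    · rintro ⟨X, s⟩
      have hX : ((cx X * ((χ s : Fˣ) : F)⁻¹) • (px X * (s : H)) • e : M) = (X : M) := by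
        rw [mul_smul (px X), hχ s, h.P_lin _ (hpx X), smul_smul, mul_assoc, inv_mul_cancel₀ (χ s).ne_zero, mul_one,
          ← hx X]
      have hX' : (⟨((Units.mk0 (cx X) (hcx X) * (χ s)⁻¹ : Fˣ) : F) • (px X * (s : H)) • e,
          px X * s, mul_mem (hpx X) (hSP s.2), _, Units.ne_zero _, rfl⟩ : {x : M // Om F P e x}) = X := by
        apply Subtype.ext
        dsimp only
        rw [Units.val_mul, Units.val_mk0, Units.val_inv_eq_inv_val]
        exact hX
      refine Prod.ext hX' (Subtype.ext ?_)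
      dsimp only
      rw [hX']
      exact inv_mul_cancel_left _ _
  have hm : Nat.card S * S.relIndex P = Nat.card P := by
    rw [← Subgroup.relIndex_bot_left, ← Subgroup.relIndex_bot_left]
    exact Subgroup.relIndex_mul_relIndex _ _ _ bot_le hSP
  rw [Nat.card_prod, Nat.card_prod, Nat.card_units, ← hm] at hcard
  have hS0 : Nat.card S ≠ 0 := Nat.card_pos.ne'
  apply Nat.eq_of_mul_eq_mul_right (Nat.pos_of_ne_zero hS0)
  rw [← hcard]
  ring

end NodeFr

end Cfsg.Agent.Omega.Lie.Nodes
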