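import Cfsg.Agent.Omega.Lie.Nodes.NodeThm
import Cfsg.Agent.Omega.Lie.Nodes.NodeCard

/-!
# NODE LIE, TEXT NODES (#14331) (N): the output of the node theorem in the language of `FMod`, `Eig`

* `NodeN` : types (beta), (sigma): `Ng k` is preserved by `P` and spanned by the orbit of `e`, an element `m ∈ P`
  interchanges `⟨e⟩` and `⟨n k⟩`, `KEY` holds, the points in `e + Z` ...
* `node_eig` : the four cases
-/

set_option autoImplicit false
set_option linter.unusedSectionVars false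

namespace Cfsg.Agent.Omega.Lie.Nodes

open Subgroup Cfsg.Agent.Omega.BTwo

universe u v w

variable {G : Type u} [Group G] {ι : Type w} {V : Subgroup G} {R : ι → Subgroup G} {i j : ι} {F : Type v}
  [Field F] {v : F → F → G} {w1 w2 : F → G} {M B : Type u} [AddCommGroup M] [AddCommGroup B]
  [DistribMulAction (NR R i) M] [DistribMulAction (NR R i) B] [Module F M] {p : G → M} {r : G → B}
  {f : M →+ M →+ B} {φ : M →ₗ[F] M →ₗ[F] F} {s : NR R i → (F ≃+* F)} [CharP F 2]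
  [Finite G] [Finite F] {h : FMod V R i j v w1 w2 M B p r f φ s} {t : F → G} {τ : Lie.TorD V R i j v t}
  {N : Type u} [AddCommGroup N] [Module F N] {P1 P2 : G → N} {y : YPair V R i j w1 w2 N P1 P2}
  {n : N →ₗ[F] M} {sf : N →ₗ[F] N →ₗ[F] M} {q : N → N →ₗ[F] F}

/-- **types (beta), (sigma)** -/
structure NodeN (g : Eig h τ y n sf q) (P : Subgroup G) (k : N) : Prop where
  ne : k ≠ 0
  /-- some `m ∈ P` interchanges `⟨e⟩` and `⟨n k⟩` -/
  m : ∃ m : NR R i, (m : G) ∈ P ∧ ∃ β γ : F, β ≠ 0 ∧ γ ≠ 0 ∧ m • p (v 0 1) = β • n k ∧ m • n k = γ • p (v 0 1)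
  /-- `KEY` -/
  key : ∀ l, sf k l = 0 → q k l = 0
  hPN : ∀ x : NR R i, (x : G) ∈ P → ∀ m ∈ Ng (p (v 0 1)) n (fun a b => sf a b) k,
      x • m ∈ Ng (p (v 0 1)) n (fun a b => sf a b) k
  hspan : Ng (p (v 0 1)) n (fun a b => sf a b) k ≤ Submodule.span F
      {m | ∃ x : NR R i, (x : G) ∈ P ∧ m = x • p (v 0 1)}
  /-- the only point of the orbit in `e + Z` is `e` -/
  not_eZ : ∀ x : NR R i, (x : G) ∈ P → (x : G) ∉ normalizer (V : Set G) → ∀ (c : F) (l : N),
      x • p (v 0 1) ≠ c • p (v 0 1) + sf k l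
  /-- the orbit -/
  orb : ∀ x : NR R i, (x : G) ∈ P → (x : G) ∉ normalizer (V : Set G) → ∃ c : F, c ≠ 0 ∧ ∃ l : N,
      x • p (v 0 1) = c • (n k + sf k l + q l k • p (v 0 1))
  orb' : ∀ l : N, ∃ x : NR R i, (x : G) ∈ P ∧ ∃ c : F, c ≠ 0 ∧
      x • p (v 0 1) = c • (n k + sf k l + q l k • p (v 0 1))

/-- type (sigma) -/
structure NodeS (g : Eig h τ y n sf q) (P : Subgroup G) (k : N) : Prop extends NodeN g P k where
  sf_zero : ∀ l, sf k l = 0
  q_ne : ∃ l, q l k ≠ 0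
  finrank : Module.finrank F (Ng (p (v 0 1)) n (fun a b => sf a b) k) = 2
  card : Nat.card (Lin V P) = Nat.card F + 1

/-- type (beta) -/
structure NodeB (g : Eig h τ y n sf q) (P : Subgroup G) (k : N) : Prop extends NodeN g P k where
  sf_iff : ∀ l, sf k l = 0 ↔ q l k = 0
  finrank_Z : Module.finrank F (LinearMap.range (sf k)) = 2
  finrank : Module.finrank F (Ng (p (v 0 1)) n (fun a b => sf a b) k) = 4
  card : Nat.card (Lin V P) = Nat.card F ^ 2 + 1

/-- type (alpha) -/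
structure NodeA (g : Eig h τ y n sf q) (P : Subgroup G) (d : M) : Prop where
  mem : d ∈ h.M0 τ
  ne : d ≠ 0
  orb : ∀ x : NR R i, (x : G) ∈ P → ∃ c c' : F, x • p (v 0 1) = c • p (v 0 1) + c' • d
  orb' : ∀ c c' : F, c • p (v 0 1) + c' • d ≠ 0 → ∃ x : NR R i, (x : G) ∈ P ∧ ∃ a : F, a ≠ 0 ∧
      x • p (v 0 1) = a • (c • p (v 0 1) + c' • d)
  hPN : ∀ x : NR R i, (x : G) ∈ P → ∀ m ∈ Submodule.span F {p (v 0 1)} ⊔ Submodule.span F {d},
      x • m ∈ Submodule.span F {p (v 0 1)} ⊔ Submodule.span F {d}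
  m : ∃ m : NR R i, (m : G) ∈ P ∧ ∃ β γ : F, β ≠ 0 ∧ γ ≠ 0 ∧ m • p (v 0 1) = β • d ∧ m • d = γ • p (v 0 1)
  card : Nat.card (Lin V P) = Nat.card F + 1

/-- type (gamma) -/
structure NodeG (g : Eig h τ y n sf q) (P : Subgroup G) : Prop where
  phi_ne : ∀ x : NR R i, (x : G) ∈ P → (x : G) ∉ normalizer (V : Set G) → φ (x • p (v 0 1)) (p (v 0 1)) ≠ 0
  reg : ∀ a ∈ UU V R j, ∀ x ∈ P, x ∉ normalizer (V : Set G) → x⁻¹ * a * x ∈ normalizer (V : Set G) → a ∈ DD V R
  card : Nat.card (Lin V P) = Nat.card N + 1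

variable (g : Eig h τ y n sf q) {P : Subgroup G} (hP : NodeP V R i j t P)
include g

/-- `Ng` is the abstract `NN` -/
theorem Ng_eq (k : N) : Ng (p (v 0 1)) n (fun a b => sf a b) k = NN (p (v 0 1)) n sf k := by
  ext m
  rw [mem_Ng, mem_NN]
  constructor
  · rintro ⟨c, z, hz, r, rfl⟩
    have h1 : z ∈ LinearMap.range (sf k) := by
      refine (Submodule.span_le.2 ?_) hz
      rintro _ ⟨l, rfl⟩
      exact ⟨l, rfl⟩
    obtain ⟨l, rfl⟩ := h1
    exact ⟨c, l, r, rfl⟩
  · rintro ⟨c, l, r, rfl⟩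
    exact ⟨c, sf k l, s_mem_Zg l, r, rfl⟩

theorem finrank_Ng [FiniteDimensional F M] {k : N} (hk : k ≠ 0) :
    Module.finrank F (Ng (p (v 0 1)) n (fun a b => sf a b) k) =
      Module.finrank F (LinearMap.range (sf k)) + 2 := by
  rw [Ng_eq g]
  unfold NN
  have h1 := Submodule.finrank_sup_add_finrank_inf_eq (Submodule.span F {p (v 0 1)} ⊔ LinearMap.range (sf k))
    (Submodule.span F {n k})
  have h2 := Submodule.finrank_sup_add_finrank_inf_eq (Submodule.span F {p (v 0 1)}) (LinearMap.range (sf k))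
  have h3 : (Submodule.span F {p (v 0 1)} ⊔ LinearMap.range (sf k)) ⊓ Submodule.span F {n k} = ⊥ := by
    rw [eq_bot_iff]
    rintro x ⟨hx1, hx2⟩
    obtain ⟨y1, hy1, z, ⟨l, rfl⟩, rfl⟩ := Submodule.mem_sup.1 hx1
    obtain ⟨c, rfl⟩ := Submodule.mem_span_singleton.1 hy1
    obtain ⟨c', h4⟩ := Submodule.mem_span_singleton.1 hx2
    have h5 := g.indep c (sf k l) (-(c' • k)) (g.sf_mem _ _) (by
      rw [map_neg, map_smul, h4, add_neg_cancel])
    rw [h5.1, h5.2.1, zero_smul, add_zero]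
    exact zero_mem _
  have h4 : Submodule.span F {p (v 0 1)} ⊓ LinearMap.range (sf k) = ⊥ := by
    rw [eq_bot_iff]
    rintro x ⟨hx1, ⟨l, rfl⟩⟩
    obtain ⟨c, h5⟩ := Submodule.mem_span_singleton.1 hx1
    have h6 := g.indep c (-sf k l) 0 ((h.M0 τ).neg_mem (g.sf_mem _ _)) (by
      rw [h5, map_zero, add_zero, add_neg_cancel])
    rw [neg_eq_zero.1 h6.2.1]
    exact zero_mem _
  have h5 : n k ≠ 0 := by
    intro h0
    exact hk (g.indep 0 0 k (zero_mem _) (by rw [h0, zero_smul, add_zero, add_zero])).2.2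
  rw [h3, finrank_bot, add_zero, finrank_span_singleton h5] at h1
  rw [h4, finrank_bot, add_zero, finrank_span_singleton h.e_ne] at h2
  rw [h1, h2]
  ring

omit [Finite F] g in
theorem om_not_mem (h : FMod V R i j v w1 w2 M B p r f φ s) {x : NR R i} (hx : (x : G) ∉ normalizer (V : Set G)) (c : F) :
    x • p (v 0 1) ≠ c • p (v 0 1) := fun hc => hx ((norm_V_iff h).2 ⟨c, hc⟩)

omit [Finite F] [Finite G] g in
theorem om_self {x : NR R i} (hx : (x : G) ∈ P) : Om F (PN R i P) (p (v 0 1)) (x • p (v 0 1)) :=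
  ⟨x, hx, 1, one_ne_zero, by rw [one_smul]⟩

include hP

theorem nodeN_of {k : N} (hk : k ≠ 0) (hom : Om F (PN R i P) (p (v 0 1)) (n k))
    (hkey : ∀ (m : NR R i), (m : G) ∈ P → ∀ β γ : F, β ≠ 0 → γ ≠ 0 → m • p (v 0 1) = β • n k →
      m • n k = γ • p (v 0 1) → ∀ l, sf k l = 0 → q k l = 0) : NodeN g P k := by
  have H := nodeFr_of g hP
  have hne : ∀ c : F, n k ≠ c • p (v 0 1) := by
    intro c hc
    exact hk (g.indep (-c) 0 k (zero_mem _) (by rw [neg_smul, hc]; abel)).2.2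
  have hne' : ∀ c : F, p (v 0 1) ≠ c • n k := by
    intro c hc
    have h1 := g.indep 1 0 (-(c • k)) (zero_mem _) (by rw [map_neg, map_smul, one_smul, ← hc]; abel)
    exact one_ne_zero h1.1
  have hm : ∃ m : NR R i, (m : G) ∈ P ∧ ∃ β γ : F, β ≠ 0 ∧ γ ≠ 0 ∧ m • p (v 0 1) = β • n k ∧
      m • n k = γ • p (v 0 1) := by
    obtain ⟨m, hm, ⟨β, hβ, h1⟩, γ, hγ, h2⟩ := H.two_trans (x := p (v 0 1)) (y := n k) (z := n k) (w := p (v 0 1))
      Om.self hom hom Om.self hne hne'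
    exact ⟨m, hm, β, γ, hβ, hγ, h1, h2⟩
  exact
    { ne := hk
      m := hm
      key := by
        obtain ⟨m, hm, β, γ, hβ, hγ, h1, h2⟩ := hm
        exact hkey m hm β γ hβ hγ h1 h2
      hPN := fun x hx m hm => by
        rw [Ng_eq g] at hm ⊢
        exact H.NN_act hk hom hx hm
      hspan := by
        rw [Ng_eq g, H.NN_eq hk hom, Submodule.span_le]
        rintro _ ⟨x, hx, c, -, rfl⟩
        exact Submodule.smul_mem _ _ (Submodule.subset_span ⟨x, hx, rfl⟩)
      not_eZ := fun x hx hxV c l hc => by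
        by_cases hl : sf k l = 0
        · rw [hl, add_zero] at hc
          exact om_not_mem h hxV c hc
        · have h1 := H.not_om hk hom (c := c) hl
          rw [← hc] at h1
          exact h1 (om_self hx)
      orb := fun x hx hxV => by
        rcases (H.om_iff hk hom _).1 (om_self hx) with ⟨c, -, h1⟩ | ⟨c, hc, l, h1⟩
        · exact absurd h1 (om_not_mem h hxV c)
        · exact ⟨c, hc, l, h1⟩
      orb' := fun l => by
        obtain ⟨x, hx, c, hc, h1⟩ := H.om_n hom l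
        exact ⟨x, hx, c⁻¹, inv_ne_zero hc, by rw [h1, inv_smul_smul₀ hc]⟩ }

/-- **THE NODE THEOREM (N)** -/
theorem node_eig : (∃ d, NodeA g P d) ∨ (∃ k, NodeS g P k) ∨ (∃ k, NodeB g P k) ∨ NodeG g P := by
  have H := nodeFr_of g hP
  have : Finite M := Finite.of_surjective (fun x : WW V (R i) => p x) fun m => by
    obtain ⟨x, hx, e1⟩ := h.fr.p_surj m
    exact ⟨⟨x, hx⟩, e1⟩
  have hF1 : 0 < Nat.card F - 1 := by
    have := Finite.one_lt_card (α := F)
    omega
  have hcard : ∀ {c : ℕ}, Nat.card {m : M // Om F (PN R i P) (p (v 0 1)) m} = (Nat.card F - 1) * c →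
      Nat.card (Lin V P) = c := fun hc => by
    rw [card_om_Lin g hP] at hc
    exact Nat.eq_of_mul_eq_mul_left hF1 hc
  rcases H.node h.four with ⟨d, hd, hd0, hom, hall⟩ | ⟨k, hk, hom, hs, ⟨l, hl⟩, hall⟩ | ⟨k, hk, hom, hs, hr, hall⟩ |
    ⟨x, hx, hxe, -⟩
  · left
    have hi : ∀ c c' : F, c • p (v 0 1) + c' • d = 0 → c = 0 ∧ c' = 0 := by
      intro c c' h0
      have h1 := g.indep c (c' • d) 0 ((h.M0 τ).smul_mem _ hd) (by rw [map_zero, add_zero, h0])
      exact ⟨h1.1, (smul_eq_zero.1 h1.2.1).resolve_right hd0⟩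
    refine ⟨d, hd, hd0, fun x hx => ((hall _).1 (om_self hx)).2, fun c c' h0 => ?_, fun x hx m hm => ?_, ?_,
      hcard (card_om_line hi hall)⟩
    · obtain ⟨x, hx, a, ha, h1⟩ := (hall _).2 ⟨h0, c, c', rfl⟩
      exact ⟨x, hx, a⁻¹, inv_ne_zero ha, by rw [h1, inv_smul_smul₀ ha]⟩
    · have h2 : ∀ m, m ∈ Submodule.span F {p (v 0 1)} ⊔ Submodule.span F {d} ↔
          ∃ c c' : F, m = c • p (v 0 1) + c' • d := by
        intro m
        constructor
        · intro hm
          obtain ⟨a, ha, b, hb, rfl⟩ := Submodule.mem_sup.1 hm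
          obtain ⟨c, rfl⟩ := Submodule.mem_span_singleton.1 ha
          obtain ⟨c', rfl⟩ := Submodule.mem_span_singleton.1 hb
          exact ⟨c, c', rfl⟩
        · rintro ⟨c, c', rfl⟩
          exact Submodule.add_mem_sup (Submodule.mem_span_singleton.2 ⟨c, rfl⟩)
            (Submodule.mem_span_singleton.2 ⟨c', rfl⟩)
      rw [h2] at hm ⊢
      by_cases hm0 : m = 0
      · exact ⟨0, 0, by rw [hm0, smul_zero, zero_smul, zero_smul, add_zero]⟩
      · exact ((hall _).1 (H.om_act hx ((hall m).2 ⟨hm0, hm⟩))).2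
    · obtain ⟨m, hm, ⟨β, hβ, h1⟩, γ, hγ, h2⟩ := H.two_trans (x := p (v 0 1)) (y := d) (z := d) (w := p (v 0 1))
        Om.self hom hom Om.self (fun c hc => by
          have h1 := hi (-c) 1 (by rw [neg_smul, one_smul, hc]; abel)
          exact one_ne_zero h1.2) (fun c hc => by
          have h1 := hi 1 (-c) (by rw [neg_smul, one_smul, ← hc]; abel)
          exact one_ne_zero h1.1)
      exact ⟨m, hm, β, γ, hβ, hγ, h1, h2⟩
  · right; left
    have hN := nodeN_of g hP hk hom (fun m hm β γ hβ hγ h1 h2 l' _ =>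
      eig_sigma g hs hl (x0 := m) (hP.cen hm) hβ h1 (m := m) (hP.cen hm) hβ hγ h1 h2 l')
    refine ⟨k, { hN with sf_zero := hs, q_ne := ⟨l, hl⟩, finrank := ?_, card := hcard (card_om_line ?_ hall) }⟩
    · rw [finrank_Ng g hk]
      have h0 : sf k = 0 := LinearMap.ext hs
      rw [h0, LinearMap.range_zero, finrank_bot]
    · intro c c' h0
      have h1 := g.indep c 0 (c' • k) (zero_mem _) (by rw [map_smul, add_zero, h0])
      exact ⟨h1.1, (smul_eq_zero.1 h1.2.2).resolve_right hk⟩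
  · right; right; left
    have hN := nodeN_of g hP hk hom (fun m hm β γ hβ hγ h1 h2 l' hl' =>
      eig_first g hl' ((hs l').1 hl') (x0 := m) (hP.cen hm) hβ h1)
    refine ⟨k, { hN with sf_iff := hs, finrank_Z := hr, finrank := ?_, card := hcard ?_ }⟩
    · rw [finrank_Ng g hk, hr]
    · exact H.card_om_beta' hk hom (fun l hl => (hs l).1 hl) hr
  · right; right; right
    have hxe' : ∀ c : F, x ≠ c • p (v 0 1) := by
      rintro c rfl
      apply hxe
      rw [LinearMap.flip_apply, map_smul, LinearMap.smul_apply, h.phi_self, smul_zero]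
    have hphi : ∀ x : NR R i, (x : G) ∈ P → (x : G) ∉ normalizer (V : Set G) →
        φ (x • p (v 0 1)) (p (v 0 1)) ≠ 0 := by
      intro z hz hzV h0
      apply hxe
      obtain ⟨a, c, hac⟩ := H.tr _ x (om_self hz) hx (om_not_mem h hzV) hxe'
      have hc : c ≠ 0 := by
        rintro rfl
        rw [zero_smul] at hac
        exact H.om_ne (H.om_act (H.A_mem a) (om_self hz)) hac
      have haU := (exists_ak h y a).choose_spec.1
      have h1 : φ ((exists_ak h y a).choose • z • p (v 0 1)) (p (v 0 1)) = 0 := by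
        have h2 := h.phi_cen (cen_of_U h y haU) (z • p (v 0 1)) (p (v 0 1))
        rwa [g.A_e _ haU, h0] at h2
      rw [hac, map_smul, LinearMap.smul_apply, smul_eq_mul] at h1
      exact (mul_eq_zero.1 h1).resolve_left hc
    have hreg0 : ∀ (a : NR R i), (a : G) ∈ UU V R j → ∀ (x : M) (c : F), φ x (p (v 0 1)) ≠ 0 →
        a • x = c • x → P2 (a : G) = 0 ∧ c = 1 := by
      intro a ha x c hx hax
      have h1 := h.phi_cen (cen_of_U h y ha) x (p (v 0 1))
      rw [g.A_e _ ha, hax, map_smul, LinearMap.smul_apply, smul_eq_mul] at h1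
      have hc1 : c = 1 := by
        have h2 : (c - 1) * φ x (p (v 0 1)) = 0 := by rw [sub_mul, h1, one_mul, sub_self]
        exact sub_eq_zero.1 ((mul_eq_zero.1 h2).resolve_right hx)
      refine ⟨?_, hc1⟩
      have h2 := g.A_top a ha x
      rw [hax, hc1, one_smul, sub_self, zero_sub, ← map_smul, ← map_neg] at h2
      have h3 : -(φ x (p (v 0 1)) • P2 (a : G)) = 0 := n_of_D g (by rwa [map_zero, sub_zero])
      exact (smul_eq_zero.1 (neg_eq_zero.1 h3)).resolve_left hx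
    refine ⟨hphi, fun a ha z hz hzV haz => ?_, ?_⟩
    · have haN : a ∈ NR R i := h.bt.cen_le_N i (UU_le_cen j ha)
      have hzN := hP.le_N hz
      obtain ⟨c, hc⟩ := (norm_V_iff h (g := (⟨z, hzN⟩ : NR R i)⁻¹ * ⟨a, haN⟩ * ⟨z, hzN⟩)).1 haz
      have h1 : (⟨a, haN⟩ : NR R i) • ((⟨z, hzN⟩ : NR R i) • p (v 0 1)) =
          c • ((⟨z, hzN⟩ : NR R i) • p (v 0 1)) := by
        rw [mul_smul, mul_smul, inv_smul_eq_iff, h.lin_cen (g := ⟨z, hzN⟩) (hP.cen hz)] at hc
        exact hc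
      have h2 := (hreg0 ⟨a, haN⟩ ha _ c (hphi ⟨z, hzN⟩ hz hzV) h1).1
      exact (y.mem_D a (UU_le_YY j ha)).2 ⟨(y.mem_U2 a (UU_le_YY j ha)).1 ha, h2⟩
    · have : Finite N := Finite.of_injective n fun a b hab => n_of_D g (by rw [hab, sub_self]; exact zero_mem _)
      refine hcard (H.card_om_gamma hx hxe' fun a c hac => ?_)
      have h1 := hreg0 _ (exists_ak h y a).choose_spec.1 x c hxe hac
      rwa [(exists_ak h y a).choose_spec.2] at h1

end Cfsg.Agent.Omega.Lie.Nodes
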