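import Cfsg.Agent.Omega.Lie.Nodes.SigInst
import Cfsg.Agent.Omega.Lie.Nodes.AptCop

/-!
# NODE LIE, residues `(0, j)`: module side of the apartment

`m ∈ C(R i)` swaps `⟨e⟩` and `⟨n k⟩` and preserves `N_k = ⟨e⟩ + Z_k + ⟨n k⟩`: then `m` preserves `Z_k`, and
`z · z^m` acts trivially on `N_k` for every torus element `z`.
-/

set_option autoImplicit false
set_option linter.unusedSectionVars false

namespace Cfsg.Agent.Omega.Lie.Nodes

open Subgroup Cfsg.Agent.Omega.BTwo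

universe u v w

variable {G : Type u} [Group G] {ι : Type w} {V : Subgroup G} {R : ι → Subgroup G} {i j : ι} {F : Type v}
  [Field F] {v : F → F → G} {w1 w2 : F → G} {M B : Type u} [AddCommGroup M] [AddCommGroup B]
  [DistribMulAction (NR R i) M] [DistribMulAction (NR R i) B] [Module F M] {p : G → M} {r : G → B}
  {f : M →+ M →+ B} {φ : M →ₗ[F] M →ₗ[F] F} {s : NR R i → (F ≃+* F)} [CharP F 2]

section basic

variable (h : FMod V R i j v w1 w2 M B p r f φ s)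
include h

theorem p_mem_V_iff {x : G} (hx : x ∈ WW V (R i)) : x ∈ V ↔ ∃ c : F, p x = c • p (v 0 1) := by
  rw [← h.fr.p_mem_iff hx (h.bt.R_le i), h.mem_V]
  exact ⟨fun ⟨c, e⟩ => ⟨c, e.symm⟩, fun ⟨c, e⟩ => ⟨c, e.symm⟩⟩

/-- an element of `N(R i)` fixing `⟨e⟩` normalises `V` -/
theorem norm_V [Finite G] {g : NR R i} {c : F} (hg : g • p (v 0 1) = c • p (v 0 1)) :
    (g : G) ∈ normalizer (V : Set G) := by
  apply mem_normalizer_of_conj
  intro x hx
  have hxW := V_le_WW V (R i) hx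
  have hx' : (g : G) * x * (g : G)⁻¹ ∈ WW V (R i) :=
    conj_mem_of_normalizer (normalizer_le_WW V (R i) g.2) hxW
  rw [p_mem_V_iff h hx']
  obtain ⟨d, hd⟩ := (p_mem_V_iff h hxW).1 hx
  refine ⟨s g d * c, ?_⟩
  rw [← h.fr.p_act g x hxW, hd, h.semi, hg, smul_smul]

theorem act_smul {g : NR R i} (hg : (g : G) ∈ centralizer (R i : Set G)) (l : F) (m : M) :
    g • (l • m) = l • (g • m) := h.lin_cen hg l m

end basic

section Z

variable [Finite G] [Finite F] {h : FMod V R i j v w1 w2 M B p r f φ s} {t : F → G} {τ : Lie.TorD V R i j v t}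
  {N : Type u} [AddCommGroup N] [Module F N] {P1 P2 : G → N} {y : YPair V R i j w1 w2 N P1 P2}
  {n : N →ₗ[F] M} {sf : N →ₗ[F] N →ₗ[F] M} {q : N → N →ₗ[F] F}

/-- `N_k` -/
abbrev NK (p : G → M) (v : F → F → G) (n : N →ₗ[F] M) (sf : N →ₗ[F] N →ₗ[F] M) (k : N) : Submodule F M :=
  Ng (p (v 0 1)) n (fun a b => sf a b) k

/-- `Z_k` -/
abbrev ZK (sf : N →ₗ[F] N →ₗ[F] M) (k : N) : Submodule F M := Zg F (fun a b => sf a b) k

/-- the `a`-eigenvectors of `t a` -/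
theorem eig_a (g : Eig h τ y n sf q) {a : Fˣ} (ha : (a : F) ≠ 1) {x : M} (hx : tT τ a • x = (a : F) • x) :
    ∃ l, x = n l := by
  have h1 := h.phi_T_e τ a x
  rw [hx, map_smul, LinearMap.smul_apply, smul_eq_mul] at h1
  have h2 : φ x (p (v 0 1)) = 0 := by
    have h3 : ((a : F) * (1 - a)) * φ x (p (v 0 1)) = 0 := by linear_combination h1
    exact (mul_eq_zero.1 h3).resolve_left (mul_ne_zero a.ne_zero (sub_ne_zero.2 (Ne.symm ha)))
  obtain ⟨γ, d, hd, l, rfl⟩ := (g.mem_U x).1 h2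
  rw [smul_add, smul_add, h.T_smul_e τ, hd a, g.n_mem l a, smul_add, smul_add, smul_smul] at hx
  have h3 : (γ * (a : F)⁻¹ - a * γ) • p (v 0 1) + (1 - (a : F)) • d + n 0 = 0 := by
    rw [map_zero, add_zero, sub_smul, sub_smul, one_smul]
    have h4 : (γ * (a : F)⁻¹) • p (v 0 1) + d = ((a : F) * γ) • p (v 0 1) + (a : F) • d :=
      add_right_cancel hx
    have h5 : (γ * (a : F)⁻¹) • p (v 0 1) = ((a : F) * γ) • p (v 0 1) + (a : F) • d - d := by
      rw [← h4]; abel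
    rw [h5]
    abel
  obtain ⟨h4, h5, -⟩ := g.indep _ _ _ ((h.M0 τ).smul_mem _ hd) h3
  have h6 : γ = 0 := by
    have h7 : γ * ((a : F) - (a : F)⁻¹) = 0 := by linear_combination -h4
    exact (mul_eq_zero.1 h7).resolve_right (h.sub_inv_ne a.ne_zero ha)
  have h7 : d = 0 := (smul_eq_zero.1 h5).resolve_left (sub_ne_zero.2 (Ne.symm ha))
  exact ⟨l, by rw [h6, h7, zero_smul, zero_add, zero_add]⟩

theorem mem_NK {k : N} {m : M} : m ∈ NK p v n sf k ↔
    ∃ c : F, ∃ z ∈ ZK sf k, ∃ r : F, m = c • p (v 0 1) + z + r • n k := mem_Ng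

theorem ZK_le (g : Eig h τ y n sf q) {k : N} : ZK sf k ≤ h.M0 τ := (nfr_of g).Zg_le

/-- the components in `N_k` are unique -/
theorem NK_uniq (g : Eig h τ y n sf q) {k : N} (hk : k ≠ 0) {c c' : F} {z z' : M} {ρ ρ' : F}
    (hz : z ∈ ZK sf k) (hz' : z' ∈ ZK sf k)
    (e : c • p (v 0 1) + z + ρ • n k = c' • p (v 0 1) + z' + ρ' • n k) : c = c' ∧ z = z' ∧ ρ = ρ' := by
  have h1 : (c - c') • p (v 0 1) + (z - z') + n ((ρ - ρ') • k) = 0 := by
    rw [sub_smul, map_smul, sub_smul]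
    have : c • p (v 0 1) - c' • p (v 0 1) + (z - z') + (ρ • n k - ρ' • n k) =
      (c • p (v 0 1) + z + ρ • n k) - (c' • p (v 0 1) + z' + ρ' • n k) := by abel
    rw [this, e, sub_self]
  obtain ⟨h2, h3, h4⟩ := g.indep _ _ _ ((h.M0 τ).sub_mem (ZK_le g hz) (ZK_le g hz')) h1
  refine ⟨sub_eq_zero.1 h2, sub_eq_zero.1 h3, sub_eq_zero.1 ((smul_eq_zero.1 h4).resolve_right hk)⟩

theorem n_notMem_D (g : Eig h τ y n sf q) {k : N} (hk : k ≠ 0) {c : F} (hc : c • n k ∈ h.fr.sb (DD V R)) :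
    c = 0 := by
  obtain ⟨γ, d, hd, e⟩ := (g.mem_D _).1 hc
  have h1 : γ • p (v 0 1) + d + n ((-c) • k) = 0 := by
    rw [map_smul, neg_smul, e]; abel
  obtain ⟨-, -, h2⟩ := g.indep _ _ _ hd h1
  exact neg_eq_zero.1 ((smul_eq_zero.1 h2).resolve_right hk)

/-- `m` swaps `⟨e⟩` and `⟨n k⟩` and preserves `N_k` -/
structure SwapM (h : FMod V R i j v w1 w2 M B p r f φ s) (n : N →ₗ[F] M) (sf : N →ₗ[F] N →ₗ[F] M) (k : N)
    (m : NR R i) (β γ : F) : Prop where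
  cen : (m : G) ∈ centralizer (R i : Set G)
  me : m • p (v 0 1) = β • n k
  mn : m • n k = γ • p (v 0 1)
  β0 : β ≠ 0
  γ0 : γ ≠ 0
  pres : ∀ x ∈ NK p v n sf k, m • x ∈ NK p v n sf k
  pres' : ∀ x ∈ NK p v n sf k, m⁻¹ • x ∈ NK p v n sf k

namespace SwapM

variable {k : N} {m : NR R i} {β γ : F} (sw : SwapM h n sf k m β γ)
include sw

theorem cen' : ((m⁻¹ : NR R i) : G) ∈ centralizer (R i : Set G) := by
  rw [coe_inv]
  exact inv_mem sw.cen

theorem me' : m⁻¹ • n k = β⁻¹ • p (v 0 1) := by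
  rw [inv_smul_eq_iff, act_smul h sw.cen, sw.me, smul_smul, inv_mul_cancel₀ sw.β0, one_smul]

theorem mn' : m⁻¹ • p (v 0 1) = γ⁻¹ • n k := by
  rw [inv_smul_eq_iff, act_smul h sw.cen, sw.mn, smul_smul, inv_mul_cancel₀ sw.γ0, one_smul]

theorem inv : SwapM h n sf k m⁻¹ γ⁻¹ β⁻¹ where
  cen := sw.cen'
  me := sw.mn'
  mn := sw.me'
  β0 := inv_ne_zero sw.γ0
  γ0 := inv_ne_zero sw.β0
  pres := sw.pres'
  pres' := by
    rw [inv_inv]
    exact sw.pres

/-- the `e`-component of `m • d`, `d ∈ Z`, is `0` -/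
theorem comp_e (g : Eig h τ y n sf q) (hk : k ≠ 0) {d : M} (hd : d ∈ ZK sf k) :
    ∃ z ∈ ZK sf k, ∃ r : F, m • d = z + r • n k := by
  obtain ⟨a, ha⟩ := h.exists_unit
  have hdN : d ∈ NK p v n sf k := Zg_le_Ng hd
  obtain ⟨c, z, hz, r, e⟩ := mem_NK.1 (sw.pres d hdN)
  -- `z' = m⁻¹ t m` normalises `V`, hence `D`
  set x := m⁻¹ * tT τ a * m with hx
  have hxe : x • p (v 0 1) = (a : F) • p (v 0 1) := by
    rw [hx, mul_smul, mul_smul, sw.me, h.T_lin τ, g.n_mem k a, act_smul h sw.cen', act_smul h sw.cen', sw.me',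
      smul_smul, smul_smul]
    congr 1
    have := sw.β0
    field_simp
  have hxV : (x : G) ∈ normalizer (DD V R : Set G) := h.bt.NV_le_ND (norm_V h hxe)
  -- `d` and `x • d` are in `D`
  have hdD : d ∈ h.fr.sb (DD V R) := (g.mem_D _).2 ⟨0, d, ZK_le g hd, by rw [zero_smul, zero_add]⟩
  have hxd := h.fr.sb_smul hxV hdD
  have h1 := (h.fr.sb (DD V R)).sub_mem hxd hdD
  -- `m • (x • d - d) = (a⁻¹ - 1) c e + (a - 1) r n_k`
  have h2 : m • (x • d - d) = (c * (a : F)⁻¹ - c) • p (v 0 1) + ((a : F) * r - r) • n k := by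
    rw [smul_sub, ← mul_smul, hx, show m * (m⁻¹ * tT τ a * m) = tT τ a * m by group, mul_smul, e, smul_add,
      smul_add, h.T_smul_e τ, ZK_le g hz a, h.T_lin τ, g.n_mem k a, smul_smul, sub_smul, sub_smul, mul_comm r]
    abel
  have h3 : x • d - d = (c * (a : F)⁻¹ - c) • (γ⁻¹ • n k) + ((a : F) * r - r) • (β⁻¹ • p (v 0 1)) := by
    rw [← inv_smul_smul m (x • d - d), h2, smul_add, act_smul h sw.cen', act_smul h sw.cen', sw.me', sw.mn']
  rw [h3] at h1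
  have h4 : ((a : F) * r - r) • (β⁻¹ • p (v 0 1)) ∈ h.fr.sb (DD V R) := by
    rw [smul_smul]
    exact h.D_smul_e τ _
  have h5 : (c * (a : F)⁻¹ - c) • (γ⁻¹ • n k) ∈ h.fr.sb (DD V R) := by
    have := (h.fr.sb (DD V R)).sub_mem h1 h4
    rwa [add_sub_cancel_right] at this
  rw [smul_smul] at h5
  have h6 := n_notMem_D g hk h5
  have h7 : c * ((a : F)⁻¹ - 1) = 0 := by
    have h8 := (mul_eq_zero.1 h6).resolve_right (inv_ne_zero sw.γ0)
    linear_combination h8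
  have h8 : c = 0 := by
    refine (mul_eq_zero.1 h7).resolve_right fun h9 => ha ?_
    rw [← inv_inv (a : F), sub_eq_zero.1 h9, inv_one]
  exact ⟨z, hz, r, by rw [e, h8, zero_smul, zero_add]⟩

/-- **`m` preserves `Z_k`** -/
theorem pres_Z (g : Eig h τ y n sf q) (hk : k ≠ 0) {d : M} (hd : d ∈ ZK sf k) : m • d ∈ ZK sf k := by
  obtain ⟨z, hz, r, e⟩ := sw.comp_e g hk hd
  obtain ⟨z', hz', r', e'⟩ := sw.inv.comp_e g hk hz
  have h1 : d = m⁻¹ • z + (r * β⁻¹) • p (v 0 1) := by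
    rw [← inv_smul_smul m d, e, smul_add, act_smul h sw.cen', sw.me', smul_smul]
  rw [e'] at h1
  have h2 := NK_uniq g hk (c := 0) (c' := r * β⁻¹) (ρ := 0) (ρ' := r') hd hz' (by
    rw [zero_smul, zero_smul, zero_add, add_zero, h1]; abel)
  have h3 : r = 0 := (mul_eq_zero.1 h2.1.symm).resolve_right (inv_ne_zero sw.β0)
  rw [e, h3, zero_smul, add_zero]
  exact hz

/-- the conjugate torus element on `e`, `Z`, `n k` -/
theorem conj_e (g : Eig h τ y n sf q) (a : Fˣ) :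
    (m * tT τ a * m⁻¹) • p (v 0 1) = (a : F) • p (v 0 1) := by
  rw [mul_smul, mul_smul, sw.mn', h.T_lin τ, g.n_mem k a, act_smul h sw.cen, act_smul h sw.cen, sw.mn, smul_smul,
    smul_smul]
  congr 1
  have := sw.γ0
  field_simp

theorem conj_n (g : Eig h τ y n sf q) (a : Fˣ) : (m * tT τ a * m⁻¹) • n k = (a : F)⁻¹ • n k := by
  have _ := g
  rw [mul_smul, mul_smul, sw.me', h.T_lin τ, h.T_e τ, act_smul h sw.cen, act_smul h sw.cen, sw.me, smul_smul,
    smul_smul]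
  congr 1
  have := sw.β0
  field_simp

theorem conj_Z (g : Eig h τ y n sf q) (hk : k ≠ 0) (a : Fˣ) {d : M} (hd : d ∈ ZK sf k) :
    (m * tT τ a * m⁻¹) • d = d := by
  rw [mul_smul, mul_smul, ZK_le g (sw.inv.pres_Z g hk hd) a, smul_inv_smul]

end SwapM

end Z

end Cfsg.Agent.Omega.Lie.Nodes
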