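import Cfsg.Agent.Omega.Lie.Nodes.Moved
import Cfsg.Agent.Omega.Lie.Nodes.NodeOut

/-!
# NODE LIE, TEXT NODES (#14331): `key`, `(S)` and `Σ` for a moved node of type (sigma) or (beta), from `NodeS`, `NodeB`
-/

set_option autoImplicit false
set_option linter.unusedSectionVars false

namespace Cfsg.Agent.Omega.Lie.Nodes

open Subgroup Cfsg.Agent.Omega.BTwo

universe u v w

variable {G : Type u} [Group G] {ι : Type w} {V : Subgroup G} {R : ι → Subgroup G} {i j : ι} {F : Type v}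
  [Field F] {v : F → F → G} {w1 w2 : F → G} {M B : Type u} [AddCommGroup M] [AddCommGroup B]
  [DistribMulAction (NR R i) M] [DistribMulAction (NR R i) B] [Module F M] {p : G → M} {r : G → B}
  {f : M →+ M →+ B} {φ : M →ₗ[F] M →ₗ[F] F} {s : NR R i → (F ≃+* F)} [CharP F 2]
  [Finite G] [Finite F] {h : FMod V R i j v w1 w2 M B p r f φ s} {t : F → G} {τ : Lie.TorD V R i j v t}
  {N : Type u} [AddCommGroup N] [Module F N] {P1 P2 : G → N} {y : YPair V R i j w1 w2 N P1 P2}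
  {n : N →ₗ[F] M} {sf : N →ₗ[F] N →ₗ[F] M} {q : N → N →ₗ[F] F}
  {g : Eig h τ y n sf q} {P : Subgroup G} {k : N}

/-- what a moved node of type (sigma) or (beta) gives: `key` and `(S)` -/
structure Mov4 (g : Eig h τ y n sf q) (P : Subgroup G) (k : N) : Prop extends NodeN g P k where
  act : ∀ a : NR R i, (a : G) ∈ UU V R j → (∃ c : F, P2 (a : G) = c • k) → ∀ m, a • m - m ∈
      Ng (p (v 0 1)) n (fun a b => sf a b) k
  hS : ∀ x : NR R i, (x : G) ∈ P → ∀ a : NR R i, (a : G) ∈ UU V R j → (∃ c : F, P2 (a : G) = c • k) →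
      ∀ m : M, x • a • m = a • x • m
  /-- `Z ≠ 0` or `q ≠ 0` -/
  hne : ∃ l, sf k l ≠ 0 ∨ q l k ≠ 0

/-- **type (sigma)** -/
theorem NodeS.mov (o : NodeS g P k) (hP : NodeP V R i j t P)
    (hgen : ∀ H : Subgroup P, (∀ x, (∃ m : ℕ, x ^ 2 ^ m = 1) → x ∈ H) → H = ⊤) : Mov4 g P k := by
  obtain ⟨m, hm, β, γ, hβ, hγ, h1, h2⟩ := o.m
  obtain ⟨l0, hl0⟩ := o.q_ne
  obtain ⟨-, h3, h4⟩ := moved_sigma g o.ne hP.cen hP.U_le hgen o.hPN hP.tr hm hβ hγ h1 h2 o.sf_zero hl0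
    (by rw [← Lin_relIndex, o.card])
  exact ⟨o.toNodeN, h3, h4, l0, Or.inr hl0⟩

/-- **type (beta)** -/
theorem NodeB.mov (o : NodeB g P k) (hP : NodeP V R i j t P)
    (hgen : ∀ H : Subgroup P, (∀ x, (∃ m : ℕ, x ^ 2 ^ m = 1) → x ∈ H) → H = ⊤) : Mov4 g P k := by
  obtain ⟨m, hm, β, γ, hβ, hγ, h1, h2⟩ := o.m
  obtain ⟨-, h3, h4⟩ := moved_beta g o.ne hP.cen hP.U_le hgen o.hPN hP.tr hm hβ hγ h1 h2 o.sf_iff
    (fun x hx => by
      by_cases hxV : (x : G) ∈ normalizer (V : Set G)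
      · exact Or.inl ((norm_V_iff h).1 hxV)
      · obtain ⟨c, -, l, h5⟩ := o.orb x hx hxV
        exact Or.inr ⟨c, l, h5⟩) o.finrank_Z.le (by rw [← Lin_relIndex, o.card])
  refine ⟨o.toNodeN, h3, h4, ?_⟩
  by_contra hcon
  push Not at hcon
  have h5 : LinearMap.range (sf k) = ⊥ := by
    rw [LinearMap.range_eq_bot]
    ext l
    exact (hcon l).1
  have h6 := o.finrank_Z
  rw [h5, finrank_bot] at h6
  omega

/-- **`X` and `P^` normalise `Σ`**, `Σ` is elementary abelian, its order -/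
theorem Mov4.main (o : Mov4 g P k) (hP : NodeP V R i j t P) (hQ : QQ (R i) = WW V (R i)) :
    XX V R ≤ normalizer (((gfr_of g).SG k ⊔ cj (nn w1 w2 1) ((gfr_of g).SG k) : Subgroup G) : Set G) ∧
    P ≤ normalizer (((gfr_of g).SG k ⊔ cj (nn w1 w2 1) ((gfr_of g).SG k) : Subgroup G) : Set G) ∧
    (∀ x ∈ (gfr_of g).SG k ⊔ cj (nn w1 w2 1) ((gfr_of g).SG k),
      ∀ z ∈ (gfr_of g).SG k ⊔ cj (nn w1 w2 1) ((gfr_of g).SG k), x * z = z * x) ∧
    (∀ x ∈ (gfr_of g).SG k ⊔ cj (nn w1 w2 1) ((gfr_of g).SG k), x * x = 1) ∧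
    Nat.card ((gfr_of g).SG k ⊔ cj (nn w1 w2 1) ((gfr_of g).SG k) : Subgroup G) * Nat.card ((gfr_of g).DZ k) =
      Nat.card ((gfr_of g).SG k) ^ 2 :=
  sigma_main g hQ o.act hP.cen o.hPN o.hS o.hspan

end Cfsg.Agent.Omega.Lie.Nodes
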