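import Cfsg.Agent.Omega.Lie.Nodes.Res0
import Cfsg.Agent.Omega.Lie.Nodes.MovedOf

/-!
# NODE LIE, residues `(0, x)`: `QOut` from `Mov4`, `NodeP`
-/

set_option autoImplicit false
set_option linter.unusedSectionVars false

namespace Cfsg.Agent.Omega.Lie.Nodes

open Subgroup Cfsg.Agent.Omega.BTwo Cfsg.Agent.ParSys

universe u v w

variable {G : Type u} [Group G] {ι : Type w} {V : Subgroup G} {R : ι → Subgroup G} {i j : ι} {F : Type v}
  [Field F] {v : F → F → G} {w1 w2 : F → G} {M E : Type u} [AddCommGroup M] [AddCommGroup E]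
  [DistribMulAction (NR R i) M] [DistribMulAction (NR R i) E] [Module F M] {p : G → M} {r : G → E}
  {f : M →+ M →+ E} {φ : M →ₗ[F] M →ₗ[F] F} {s : NR R i → (F ≃+* F)} [CharP F 2]
  [Finite G] [Finite F] {h : FMod V R i j v w1 w2 M E p r f φ s} {t : F → G} {τ : Lie.TorD V R i j v t}
  {N : Type u} [AddCommGroup N] [Module F N] {P1 P2 : G → N} {y : YPair V R i j w1 w2 N P1 P2}
  {n : N →ₗ[F] M} {sf : N →ₗ[F] N →ₗ[F] M} {q : N → N →ₗ[F] F}
  {g : Eig h τ y n sf q} {Q : Subgroup G} {k : N}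

/-- `QOut` from `Mov4` -/
theorem Mov4.qout (o : Mov4 g Q k) (hP : NodeP V R i j t Q) : QOut g k Q where
  ne := o.ne
  QR := hP.cen
  UQ := hP.U_le
  key := o.act
  QN := o.hPN
  S := o.hS
  span := o.hspan
  hne := o.hne
  tr := by
    intro x hx hxV
    obtain ⟨m, hm, β, γ, hβ, hγ, h1, h2⟩ := o.m
    have hmV : (m : G) ∉ normalizer (V : Set G) := by
      intro hmV
      obtain ⟨c, hc⟩ := (norm_V_iff h).1 hmV
      rw [hc] at h1
      have h3 := g.indep c 0 (-(β • k)) (h.M0 τ).zero_mem (by rw [add_zero, map_neg, map_smul, h1]; abel)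
      exact (smul_ne_zero hβ o.ne) (neg_eq_zero.1 h3.2.2)
    have hne : ∀ {z : G}, z ∉ normalizer (V : Set G) → cj z V ≠ V := fun hz h0 => hz (cj_eq_self_iff.1 h0)
    obtain ⟨u, hu, e1⟩ := hP.tr m hm x hx (hne hmV) (hne hxV)
    have huN : u ∈ NR R i := h.bt.cen_le_N i (UU_le_cen j hu)
    rw [← cj_mul] at e1
    have humC : ((⟨u, huN⟩ * m : NR R i) : G) ∈ centralizer (R i : Set G) :=
      mul_mem (cen_of_U h y (a := ⟨u, huN⟩) hu) (hP.cen hm)
    obtain ⟨c, hc⟩ := (line_iff h (x := x) (x' := ⟨u, huN⟩ * m) humC).1 e1.symm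
    refine ⟨⟨u, huN⟩, hu, c * β, ?_, ?_⟩
    · refine mul_ne_zero ?_ hβ
      rintro rfl
      rw [zero_smul] at hc
      have h3 : x⁻¹ • x • p (v 0 1) = x⁻¹ • (0 : M) := by rw [hc]
      rw [inv_smul_smul, smul_zero] at h3
      exact h.e_ne h3
    · rw [hc, mul_smul (⟨u, huN⟩ : NR R i) m, h1, h.lin_cen (cen_of_U h y (a := ⟨u, huN⟩) hu), smul_smul]
  swap := o.m

end Cfsg.Agent.Omega.Lie.Nodes
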