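import Cfsg.Agent.Omega.BTwo.Conj

/-!
# NODE LIE, residues `(0, j)`: the apartment of the quadrangle closes

`p₀ p₁ p₂ p₃` points, `W₀ .. W₃` with `[Wᵢ, Wᵢ] ≤ pᵢ`, lines `pᵢ pᵢ₊₁ ≤ Wᵢ ⊓ Wᵢ₊₁`.  `Λ = ⟨W₃ ⊓ W₀, W₁ ⊓ W₂⟩` and
`Λ' = ⟨W₀ ⊓ W₁, W₂ ⊓ W₃⟩` commute modulo `p₀ p₁ p₂ p₃`.  If `m` fixes `p₀, p₂` and swaps `p₁, p₃` and `n ∈ Λ` maps `p₀`
to `p₁` then `(nmnm)⁻¹ mnmn ∈ ⟨Λ, p₀ p₁ p₂ p₃⟩` fixes `p₀`.
-/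

set_option autoImplicit false

namespace Cfsg.Agent.Omega.Lie.Nodes

open Subgroup Cfsg.Agent.Omega.BTwo

universe u

variable {G : Type u} [Group G]

/-- `{a ∈ N(S) | [a, B] ≤ S}` -/
def cmod (S B : Subgroup G) : Subgroup G where
  carrier := {a | a ∈ normalizer (S : Set G) ∧ ∀ b ∈ B, a * b * a⁻¹ * b⁻¹ ∈ S}
  one_mem' := ⟨one_mem _, fun b _ => by
    rw [one_mul, inv_one, mul_one, mul_inv_cancel]; exact one_mem _⟩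
  mul_mem' := by
    rintro a a' ⟨h1, h2⟩ ⟨h3, h4⟩
    refine ⟨mul_mem h1 h3, fun b hb => ?_⟩
    have e : a * a' * b * (a * a')⁻¹ * b⁻¹ = (a * (a' * b * a'⁻¹ * b⁻¹) * a⁻¹) * (a * b * a⁻¹ * b⁻¹) := by group
    rw [e]
    exact mul_mem (conj_mem_of_normalizer h1 (h4 b hb)) (h2 b hb)
  inv_mem' := by
    rintro a ⟨h1, h2⟩
    refine ⟨inv_mem h1, fun b hb => ?_⟩
    have e : a⁻¹ * b * a⁻¹⁻¹ * b⁻¹ = a⁻¹ * (a * b * a⁻¹ * b⁻¹)⁻¹ * a := by group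
    rw [e]
    exact conj_inv_mem_of_normalizer h1 (inv_mem (h2 b hb))

theorem le_cmod {S B A : Subgroup G} (h : A ≤ normalizer (S : Set G))
    (h' : ∀ a ∈ A, ∀ b ∈ B, a * b * a⁻¹ * b⁻¹ ∈ S) : A ≤ cmod S B := fun a ha => ⟨h ha, h' a ha⟩

/-- `A₁ ⊔ A₂` and `B₁ ⊔ B₂` commute modulo `S` -/
theorem comm_sup_sup {S A1 A2 B1 B2 : Subgroup G} (hA1 : A1 ≤ normalizer (S : Set G))
    (hA2 : A2 ≤ normalizer (S : Set G)) (hB1 : B1 ≤ normalizer (S : Set G)) (hB2 : B2 ≤ normalizer (S : Set G))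
    (h11 : ∀ a ∈ A1, ∀ b ∈ B1, a * b * a⁻¹ * b⁻¹ ∈ S) (h12 : ∀ a ∈ A1, ∀ b ∈ B2, a * b * a⁻¹ * b⁻¹ ∈ S)
    (h21 : ∀ a ∈ A2, ∀ b ∈ B1, a * b * a⁻¹ * b⁻¹ ∈ S) (h22 : ∀ a ∈ A2, ∀ b ∈ B2, a * b * a⁻¹ * b⁻¹ ∈ S) :
    ∀ a ∈ A1 ⊔ A2, ∀ b ∈ B1 ⊔ B2, a * b * a⁻¹ * b⁻¹ ∈ S := by
  have sym : ∀ {a b : G}, a * b * a⁻¹ * b⁻¹ ∈ S → b * a * b⁻¹ * a⁻¹ ∈ S := by
    intro a b h
    have e : b * a * b⁻¹ * a⁻¹ = (a * b * a⁻¹ * b⁻¹)⁻¹ := by group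
    rw [e]; exact inv_mem h
  have h1 : A1 ⊔ A2 ≤ cmod S B1 := sup_le (le_cmod hA1 h11) (le_cmod hA2 h21)
  have h2 : A1 ⊔ A2 ≤ cmod S B2 := sup_le (le_cmod hA1 h12) (le_cmod hA2 h22)
  have h3 : B1 ⊔ B2 ≤ cmod S (A1 ⊔ A2) :=
    sup_le (le_cmod hB1 fun b hb a ha => sym ((h1 ha).2 b hb)) (le_cmod hB2 fun b hb a ha => sym ((h2 ha).2 b hb))
  exact fun a ha b hb => sym ((h3 hb).2 a ha)

/-- the four points of an apartment -/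
structure Apt (p0 p1 p2 p3 W0 W1 W2 W3 : Subgroup G) : Prop where
  w0 : ∀ x ∈ W0, ∀ y ∈ W0, x * y * x⁻¹ * y⁻¹ ∈ p0
  w1 : ∀ x ∈ W1, ∀ y ∈ W1, x * y * x⁻¹ * y⁻¹ ∈ p1
  w2 : ∀ x ∈ W2, ∀ y ∈ W2, x * y * x⁻¹ * y⁻¹ ∈ p2
  w3 : ∀ x ∈ W3, ∀ y ∈ W3, x * y * x⁻¹ * y⁻¹ ∈ p3
  p00 : p0 ≤ W0
  p01 : p0 ≤ W1
  p03 : p0 ≤ W3
  p11 : p1 ≤ W1
  p10 : p1 ≤ W0
  p12 : p1 ≤ W2
  p22 : p2 ≤ W2
  p21 : p2 ≤ W1
  p23 : p2 ≤ W3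
  p33 : p3 ≤ W3
  p32 : p3 ≤ W2
  p30 : p3 ≤ W0
  comm : ∀ x ∈ p0 ⊔ p1 ⊔ p2 ⊔ p3, ∀ y ∈ p0 ⊔ p1 ⊔ p2 ⊔ p3, x * y = y * x

theorem le_normalizer_of' {K S : Subgroup G} (h : ∀ k ∈ K, ∀ s ∈ S, k * s * k⁻¹ ∈ S) :
    K ≤ normalizer (S : Set G) := by
  intro k hk
  rw [mem_normalizer_iff]
  intro x
  refine ⟨fun hx => h k hk x hx, fun hx => ?_⟩
  have := h k⁻¹ (inv_mem hk) _ hx
  rwa [inv_inv, show k⁻¹ * (k * x * k⁻¹) * k = x by group] at this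

/-- the general step: `W ⊓ W'` normalises `S` -/
theorem norm_aux {W W' p p' S A A' : Subgroup G} (hw : ∀ x ∈ W, ∀ y ∈ W, x * y * x⁻¹ * y⁻¹ ∈ p)
    (hw' : ∀ x ∈ W', ∀ y ∈ W', x * y * x⁻¹ * y⁻¹ ∈ p') (hp : p ≤ S) (hp' : p' ≤ S) (hA : A ≤ W) (hA' : A' ≤ W')
    (hS : S = A ⊔ A') : W ⊓ W' ≤ normalizer (S : Set G) := by
  refine le_normalizer_of' fun d hd => ?_
  have h : A ⊔ A' ≤ S.comap (MulAut.conj d).toMonoidHom := by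
    refine sup_le (fun a ha => ?_) fun a ha => ?_
    · show d * a * d⁻¹ ∈ S
      have h1 := mul_mem (hp (hw d hd.1 a (hA ha))) (hS.ge ((le_sup_left : A ≤ _) ha))
      rwa [inv_mul_cancel_right] at h1
    · show d * a * d⁻¹ ∈ S
      have h1 := mul_mem (hp' (hw' d hd.2 a (hA' ha))) (hS.ge ((le_sup_right : A' ≤ _) ha))
      rwa [inv_mul_cancel_right] at h1
  intro s hs
  exact h (hS.le hs)

namespace Apt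

variable {p0 p1 p2 p3 W0 W1 W2 W3 : Subgroup G} (h : Apt p0 p1 p2 p3 W0 W1 W2 W3)
include h

theorem n0 : W0 ⊓ W1 ≤ normalizer ((p0 ⊔ p1 ⊔ p2 ⊔ p3 : Subgroup G) : Set G) := by
  refine norm_aux (A := p0 ⊔ p3) (A' := p1 ⊔ p2) h.w0 h.w1
    (le_sup_left.trans (le_sup_left.trans le_sup_left)) (le_sup_right.trans (le_sup_left.trans le_sup_left))
    (sup_le h.p00 h.p30) (sup_le h.p11 h.p21) ?_
  ac_rfl

theorem n1 : W1 ⊓ W2 ≤ normalizer ((p0 ⊔ p1 ⊔ p2 ⊔ p3 : Subgroup G) : Set G) := by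
  refine norm_aux (A := p1 ⊔ p0) (A' := p2 ⊔ p3) h.w1 h.w2
    (le_sup_right.trans (le_sup_left.trans le_sup_left)) (le_sup_right.trans le_sup_left)
    (sup_le h.p11 h.p01) (sup_le h.p22 h.p32) ?_
  ac_rfl

theorem n2 : W2 ⊓ W3 ≤ normalizer ((p0 ⊔ p1 ⊔ p2 ⊔ p3 : Subgroup G) : Set G) := by
  refine norm_aux (A := p2 ⊔ p1) (A' := p3 ⊔ p0) h.w2 h.w3
    (le_sup_right.trans le_sup_left) le_sup_right (sup_le h.p22 h.p12) (sup_le h.p33 h.p03) ?_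
  ac_rfl

theorem n3 : W3 ⊓ W0 ≤ normalizer ((p0 ⊔ p1 ⊔ p2 ⊔ p3 : Subgroup G) : Set G) := by
  refine norm_aux (A := p3 ⊔ p2) (A' := p0 ⊔ p1) h.w3 h.w0
    le_sup_right (le_sup_left.trans (le_sup_left.trans le_sup_left)) (sup_le h.p33 h.p23) (sup_le h.p00 h.p10) ?_
  ac_rfl

theorem s0 : p0 ≤ p0 ⊔ p1 ⊔ p2 ⊔ p3 := by
  have _ := h
  exact le_sup_left.trans (le_sup_left.trans le_sup_left)
theorem s1 : p1 ≤ p0 ⊔ p1 ⊔ p2 ⊔ p3 := by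
  have _ := h
  exact le_sup_right.trans (le_sup_left.trans le_sup_left)
theorem s2 : p2 ≤ p0 ⊔ p1 ⊔ p2 ⊔ p3 := by
  have _ := h
  exact le_sup_right.trans le_sup_left
theorem s3 : p3 ≤ p0 ⊔ p1 ⊔ p2 ⊔ p3 := by
  have _ := h
  exact le_sup_right

/-- `Λ` and `Λ'` commute modulo `p₀ p₁ p₂ p₃` -/
theorem comm_mod : ∀ a ∈ (W3 ⊓ W0) ⊔ (W1 ⊓ W2), ∀ b ∈ (W0 ⊓ W1) ⊔ (W2 ⊓ W3),
    a * b * a⁻¹ * b⁻¹ ∈ p0 ⊔ p1 ⊔ p2 ⊔ p3 :=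
  comm_sup_sup h.n3 h.n1 h.n0 h.n2 (fun a ha b hb => h.s0 (h.w0 a ha.2 b hb.1))
    (fun a ha b hb => h.s3 (h.w3 a ha.1 b hb.2)) (fun a ha b hb => h.s1 (h.w1 a ha.1 b hb.2))
    (fun a ha b hb => h.s2 (h.w2 a ha.2 b hb.1))

/-- **the apartment closes** -/
theorem swap {m n : G} (m0 : cj m W0 = W0) (m1 : cj m W1 = W3) (m2 : cj m W2 = W2) (m3 : cj m W3 = W1)
    (q0 : cj m p0 = p0) (q1 : cj m p1 = p3) (q2 : cj m p2 = p2) (q3 : cj m p3 = p1)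
    (hn : n ∈ (W3 ⊓ W0) ⊔ (W1 ⊓ W2)) (hn0 : cj n p0 = p1) :
    (n * m * n * m)⁻¹ * (m * n * m * n) ∈ ((W3 ⊓ W0) ⊔ (W1 ⊓ W2)) ⊔ (p0 ⊔ p1 ⊔ p2 ⊔ p3) ∧
      cj ((n * m * n * m)⁻¹ * (m * n * m * n)) p0 = p0 := by
  set A := (W3 ⊓ W0) ⊔ (W1 ⊓ W2) with hA
  set A' := (W0 ⊓ W1) ⊔ (W2 ⊓ W3) with hA'
  set S := p0 ⊔ p1 ⊔ p2 ⊔ p3 with hS
  have hmA : cj m A = A' := by
    rw [hA, cj_sup, cj_inf, cj_inf, m0, m1, m2, m3, inf_comm W1 W0, inf_comm W3 W2]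
  have hmA' : cj m A' = A := by
    rw [hA', cj_sup, cj_inf, cj_inf, m0, m1, m2, m3, inf_comm W0 W3, inf_comm W2 W1]
  have hmS : cj m S = S := by
    rw [hS, cj_sup, cj_sup, cj_sup, q0, q1, q2, q3]
    ac_rfl
  have hmm : cj (m * m) A = A := by rw [cj_mul, hmA, hmA']
  have hmmS : cj (m * m) S = S := by rw [cj_mul, hmS, hmS]
  have hmm' : (m * m)⁻¹ ∈ normalizer (A : Set G) := inv_mem (cj_eq_self_iff.1 hmm)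
  have hmmS' : (m * m)⁻¹ ∈ normalizer (S : Set G) := inv_mem (cj_eq_self_iff.1 hmmS)
  set n' := m * n * m⁻¹ with hn'
  have hn'A : n' ∈ A' := by rw [← hmA]; exact conj_mem_cj hn
  set s := n'⁻¹ * n⁻¹ * n' * n with hs
  have hsS : s ∈ S := by
    have h1 := h.comm_mod n⁻¹ (inv_mem hn) n'⁻¹ (inv_mem hn'A)
    have e : s = (n⁻¹ * n'⁻¹ * n⁻¹⁻¹ * n'⁻¹⁻¹)⁻¹ := by rw [hs]; group
    rw [e]
    exact inv_mem h1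
  have key : (n * m * n * m)⁻¹ * (m * n * m * n) =
      ((m * m)⁻¹ * s * (m * m)⁻¹⁻¹) * ((m * m)⁻¹ * n⁻¹ * (m * m)⁻¹⁻¹) * n := by
    rw [hs, hn']; group
  constructor
  · rw [key]
    refine mul_mem (mul_mem ?_ ?_) ((le_sup_left : A ≤ _) hn)
    · exact (le_sup_right : S ≤ _) (conj_mem_of_normalizer hmmS' hsS)
    · exact (le_sup_left : A ≤ _) (conj_mem_of_normalizer hmm' (inv_mem hn))
  · have e : (n * m * n * m)⁻¹ * (m * n * m * n) = (m * m)⁻¹ * (s * (n⁻¹ * (m * m * n))) := by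
      rw [hs, hn']; group
    have hm0 : cj (m * m) p0 = p0 := by rw [cj_mul, q0, q0]
    have hm1 : cj (m * m) p1 = p1 := by rw [cj_mul, q1, q3]
    have hs0 : cj s p0 = p0 := by
      rw [cj_eq_self_iff, mem_normalizer_iff]
      intro x
      constructor
      · intro hx
        rw [h.comm s hsS x (h.s0 hx), mul_inv_cancel_right]
        exact hx
      · intro hx
        have h1 := h.comm s hsS _ (h.s0 hx)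
        have h2 : s * x * s⁻¹ = x := by
          have h3 : s * (s * x * s⁻¹) = s * x := by rw [h1]; group
          exact mul_left_cancel h3
        rwa [h2] at hx
    have e3 : cj (n⁻¹ * (m * m * n)) p0 = p0 := by
      rw [cj_mul n⁻¹ (m * m * n), cj_mul (m * m) n, hn0, hm1, ← hn0, cj_inv_cj]
    rw [e, cj_mul (m * m)⁻¹ (s * (n⁻¹ * (m * m * n))), cj_mul s (n⁻¹ * (m * m * n)), e3, hs0]
    rw [cj_eq_iff, inv_inv, hm0]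

/-- the point opposite to `p₀` -/
theorem opp [Finite G] {l : Subgroup G} {x : G} (hx0 : cj x W0 = W1) (hxl : cj x l = l) (h3l : p3 ≤ l)
    (h2l : p2 ≤ l) (hl2 : l ≤ W3) (h03 : p0 ⊓ p3 = ⊥) (hcard : Nat.card p2 = Nat.card p3)
    (hd : ∀ v ∈ l, (∀ d ∈ W3 ⊓ W0, d * v = v * d) → v ∈ p3) : cj x p3 = p2 := by
  have h1 : l ⊓ W0 = p3 := by
    apply le_antisymm
    · rintro v ⟨hv, hv0⟩
      refine hd v hv fun d hd' => ?_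
      have h1 : d * v * d⁻¹ * v⁻¹ ∈ p0 ⊓ p3 := ⟨h.w0 d hd'.2 v hv0, h.w3 d hd'.1 v (hl2 hv)⟩
      rw [h03, mem_bot, mul_inv_eq_one, mul_inv_eq_iff_eq_mul] at h1
      exact h1
    · exact le_inf h3l h.p30
  have h2 : p2 ≤ cj x p3 := by
    rw [← h1, cj_inf, hxl, hx0]
    exact le_inf h2l h.p21
  symm
  refine eq_of_le_of_card_ge h2 ?_
  rw [card_cj, hcard]

end Apt

end Cfsg.Agent.Omega.Lie.Nodes
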