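import Cfsg.Agent.Omega.Lie.Nodes.Apt
import Cfsg.Agent.Omega.BTwo.Str

/-!
# NODE LIE, residues `(0, j)`: the apartment, from `m` and the opposite point

`BT V R`; `r ∈ X` swaps `R i, R j`; `m` fixes `R i`, `m² ` fixes `V` and `R j`; `p₂ = (R k)^{r m}` is fixed by `m`.
-/

set_option autoImplicit false
set_option linter.unusedSectionVars false

namespace Cfsg.Agent.Omega.Lie.Nodes

open Subgroup Cfsg.Agent.Omega.BTwo

universe u w

variable {G : Type u} [Group G] {ι : Type w} {V : Subgroup G} {R : ι → Subgroup G} (b : BT V R) {i j : ι}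

section

include b

/-- `W` of a point is well defined -/
theorem cj_WW_uniq {g g' : G} {k k' : ι} (h : cj g (R k) = cj g' (R k')) :
    cj g (WW V (R k)) = cj g' (WW V (R k')) := by
  have h1 : cj (g'⁻¹ * g) (R k) = R k' := by rw [cj_mul, h, cj_inv_cj]
  have h2 := b.cj_WW h1
  rw [cj_mul] at h2
  rw [← h2, cj_cj_inv]

theorem WW_cj_comm {g : G} {k : ι} : ∀ x ∈ cj g (WW V (R k)), ∀ y ∈ cj g (WW V (R k)),
    x * y * x⁻¹ * y⁻¹ ∈ cj g (R k) := by
  rintro _ ⟨x, hx, rfl⟩ _ ⟨y, hy, rfl⟩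
  have h := conj_mem_cj (g := g) (b.WW_comm k hx hy)
  have e : g * (x * y * x⁻¹ * y⁻¹) * g⁻¹ =
      g * x * g⁻¹ * (g * y * g⁻¹) * (g * x * g⁻¹)⁻¹ * (g * y * g⁻¹)⁻¹ := by group
  rw [e] at h
  exact h

theorem R_le_WW (k l : ι) : R k ≤ WW V (R l) := (b.R_le k).trans (V_le_WW V (R l))

theorem cj_DD {g : G} (hg : g ∈ normalizer (V : Set G)) : cj g (DD V R) = DD V R :=
  cj_eq_self_iff.2 (b.NV_le_ND hg)

end

/-- the data of an apartment -/
structure AptData (V : Subgroup G) (R : ι → Subgroup G) (i j k : ι) (r m : G) (S : Subgroup G) : Prop where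
  ne : i ≠ j
  r_mem : r ∈ XX V R
  ri : cj r (R i) = R j
  rj : cj r (R j) = R i
  mi : cj m (R i) = R i
  mV : cj m (cj m V) = V
  mj : cj m (cj m (R j)) = R j
  ki : k ≠ i
  m2 : cj m (cj (r * m) (R k)) = cj (r * m) (R k)
  comm : ∀ x ∈ S, ∀ y ∈ S, x * y = y * x
  VS : V ≤ S
  VS' : cj m V ≤ S
  pS : cj (r * m) (R k) ≤ S
  /-- `D` is transitive on the points `≠ R i` of the line `V^m` -/
  tr : ∀ l, l ≠ i → ∃ d ∈ DD V R, cj d (cj m (R j)) = cj m (R l)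
  fix : ∀ x ∈ cj m V, (∀ d ∈ DD V R, d * x = x * d) → x ∈ R i

namespace AptData

variable {k : ι} {r m : G} {S : Subgroup G} (a : AptData V R i j k r m S)
include a b

theorem rm : cj (r * m) (R i) = R j := by
  have _ := b
  rw [cj_mul, a.mi, a.ri]

theorem mWi : cj m (WW V (R i)) = WW V (R i) := b.cj_WW a.mi

theorem l1 : cj (r * m) V ≤ WW V (R j) := by
  rw [← b.cj_WW a.ri, cj_mul]
  apply cj_mono
  rw [← a.mWi b]
  exact cj_mono (V_le_WW V (R i))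

theorem l1' : cj (r * m) V ≤ cj (r * m) (WW V (R k)) := by
  have _ := b
  exact cj_mono (V_le_WW V (R k))

theorem m2W : cj m (cj (r * m) (WW V (R k))) = cj (r * m) (WW V (R k)) := by
  have h1 : cj (m * (r * m)) (R k) = cj (r * m) (R k) := by rw [cj_mul, a.m2]
  have h2 := cj_WW_uniq b h1
  rwa [cj_mul] at h2

theorem mWj : cj m (cj m (WW V (R j))) = WW V (R j) := by
  have h1 : cj (m * m) (R j) = R j := by rw [cj_mul, a.mj]
  have h2 := b.cj_WW h1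
  rwa [cj_mul] at h2

theorem apt : Apt (R i) (R j) (cj (r * m) (R k)) (cj m (R j)) (WW V (R i)) (WW V (R j))
    (cj (r * m) (WW V (R k))) (cj m (WW V (R j))) where
  w0 := fun _ hx _ hy => b.WW_comm i hx hy
  w1 := fun _ hx _ hy => b.WW_comm j hx hy
  w2 := WW_cj_comm b
  w3 := WW_cj_comm b
  p00 := R_le_WW b i i
  p01 := R_le_WW b i j
  p03 := by
    conv_lhs => rw [← a.mi]
    exact cj_mono (R_le_WW b i j)
  p11 := R_le_WW b j j
  p10 := R_le_WW b j i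
  p12 := by
    rw [← a.rm b]
    exact cj_mono (R_le_WW b i k)
  p22 := cj_mono (R_le_WW b k k)
  p21 := (cj_mono (b.R_le k)).trans (a.l1 b)
  p23 := by
    conv_lhs => rw [← a.m2]
    exact cj_mono ((cj_mono (b.R_le k)).trans (a.l1 b))
  p33 := cj_mono (R_le_WW b j j)
  p32 := by
    conv_rhs => rw [← a.m2W b]
    apply cj_mono
    rw [← a.rm b]
    exact cj_mono (R_le_WW b i k)
  p30 := by
    rw [← a.mWi b]
    exact cj_mono (R_le_WW b j i)
  comm := by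
    have h1 : R i ⊔ R j ⊔ cj (r * m) (R k) ⊔ cj m (R j) ≤ S :=
      sup_le (sup_le (sup_le ((b.R_le i).trans a.VS) ((b.R_le j).trans a.VS)) a.pS)
        ((cj_mono (b.R_le j)).trans a.VS')
    exact fun x hx y hy => a.comm x (h1 hx) y (h1 hy)

theorem mmV : m * m ∈ normalizer (V : Set G) := by
  have _ := b
  rw [← cj_eq_self_iff, cj_mul, a.mV]

/-- `D₃ = D^m` -/
theorem D3 : cj m (WW V (R j)) ⊓ WW V (R i) = cj m (DD V R) := by
  rw [b.D_eq' a.ne.symm, cj_inf, a.mWi b]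

/-- `D₁ = D^{r m}` -/
theorem D1 : WW V (R j) ⊓ cj (r * m) (WW V (R k)) = cj (r * m) (DD V R) := by
  rw [b.D_eq' a.ki.symm, cj_inf]
  congr 1
  rw [cj_mul, a.mWi b, b.cj_WW a.ri]

/-- `D₃` is transitive on the points `≠ R i` of `V` -/
theorem tr3 {l : ι} (hl : l ≠ i) : ∃ d ∈ cj m (DD V R), cj d (R j) = R l := by
  obtain ⟨l', hl'⟩ := b.perm_inv (a.mmV b) l
  have hne : l' ≠ i := by
    rintro rfl
    rw [cj_mul, a.mi, a.mi] at hl'
    exact hl (b.R_index hl').symm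
  obtain ⟨d, hd, e⟩ := a.tr l' hne
  refine ⟨m * d * m⁻¹, conj_mem_cj hd, ?_⟩
  conv_lhs => rw [← a.mj]
  rw [cj_mul, cj_mul, cj_inv_cj, e, ← cj_mul, hl']

/-- `D₁` is transitive on the points `≠ R j` of `V` -/
theorem tr1 {l : ι} (hl : l ≠ j) : ∃ d ∈ cj (r * m) (DD V R), cj d (R i) = R l := by
  obtain ⟨l', hl'⟩ := b.perm_inv (b.X_le_NV a.r_mem) l
  have hne : l' ≠ i := by
    rintro rfl
    rw [a.ri] at hl'
    exact hl (b.R_index hl').symm
  obtain ⟨d, hd, e⟩ := a.tr3 b hne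
  refine ⟨r * d * r⁻¹, ?_, ?_⟩
  · rw [cj_mul]
    exact conj_mem_cj hd
  · conv_lhs => rw [← a.rj]
    rw [cj_mul, cj_mul, cj_inv_cj, e, hl']

/-- **the apartment** -/
theorem exists_n [Finite G] : ∃ n ∈ XX V R, cj n (R i) = R j ∧
    (n * m * n * m)⁻¹ * (m * n * m * n) ∈ XX V R ∧
    cj ((n * m * n * m)⁻¹ * (m * n * m * n)) (R i) = R i ∧ cj (n * m * n) (R i) = cj (r * m) (R k) := by
  obtain ⟨l, hl1, hl2⟩ := b.third i j
  obtain ⟨d3, hd3, e3⟩ := a.tr3 b hl1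
  obtain ⟨d1, hd1, e1⟩ := a.tr1 b hl2
  have hap := a.apt b
  set n := d3⁻¹ * d1 with hn
  have hn0 : cj n (R i) = R j := by rw [hn, cj_mul, e1, ← e3, cj_inv_cj]
  have hnm : n ∈ (cj m (WW V (R j)) ⊓ WW V (R i)) ⊔ (WW V (R j) ⊓ cj (r * m) (WW V (R k))) := by
    rw [a.D3 b, a.D1 b]
    exact mul_mem ((le_sup_left : cj m (DD V R) ≤ _) (inv_mem hd3)) ((le_sup_right : cj (r * m) (DD V R) ≤ _) hd1)
  have hle : (cj m (WW V (R j)) ⊓ WW V (R i)) ⊔ (WW V (R j) ⊓ cj (r * m) (WW V (R k))) ≤ XX V R :=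
    sup_le (inf_le_right.trans (W_le_X V R i)) (inf_le_left.trans (W_le_X V R j))
  have hle2 : R i ⊔ R j ⊔ cj (r * m) (R k) ⊔ cj m (R j) ≤ XX V R :=
    sup_le (sup_le (sup_le (hap.p00.trans (W_le_X V R i)) (hap.p10.trans (W_le_X V R i)))
      (hap.p21.trans (W_le_X V R j))) (hap.p30.trans (W_le_X V R i))
  have hsw := hap.swap (a.mWi b) rfl (a.m2W b) (a.mWj b) a.mi rfl a.m2 a.mj hnm hn0
  refine ⟨n, hle hnm, hn0, (sup_le hle hle2) hsw.1, hsw.2, ?_⟩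
  -- the opposite point
  have h2V : cj m (cj (r * m) V) ≤ cj m (WW V (R j)) := cj_mono (a.l1 b)
  have h2V' : cj m (cj (r * m) V) ≤ cj (r * m) (WW V (R k)) := by
    rw [← a.m2W b]
    exact cj_mono (a.l1' b)
  have h3l : cj m (R j) ≤ cj m (cj (r * m) V) := by
    apply cj_mono
    rw [← a.rm b]
    exact cj_mono (b.R_le i)
  have h2l : cj (r * m) (R k) ≤ cj m (cj (r * m) V) := by
    conv_lhs => rw [← a.m2]
    exact cj_mono (cj_mono (b.R_le k))
  have hstab : ∀ {W p l : Subgroup G}, (∀ x ∈ W, ∀ y ∈ W, x * y * x⁻¹ * y⁻¹ ∈ p) → p ≤ l → l ≤ W →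
      W ≤ normalizer (l : Set G) := by
    intro W p l h1 h2 h3
    refine le_normalizer_of' fun x hx y hy => ?_
    have h4 := mul_mem (h2 (h1 x hx y (h3 hy))) hy
    rwa [inv_mul_cancel_right] at h4
  have hxl : cj n (cj m (cj (r * m) V)) = cj m (cj (r * m) V) := by
    rw [cj_eq_self_iff]
    exact sup_le (inf_le_left.trans (hstab hap.w3 h3l h2V)) (inf_le_right.trans (hstab hap.w2 h2l h2V')) hnm
  have hcard : ∀ k l : ι, Nat.card (R k) = Nat.card (R l) := by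
    intro k l
    obtain ⟨x, -, e⟩ := b.trans_X_one k l
    rw [← e, card_cj]
  have h03 : R i ⊓ cj m (R j) = ⊥ := by
    conv_lhs => rw [← a.mi]
    rw [← cj_inf, b.R_inf i j a.ne, cj_bot]
  have hop := hap.opp (x := n) (l := cj m (cj (r * m) V)) (b.cj_WW hn0) hxl h3l h2l h2V h03
    (by rw [card_cj, card_cj, hcard]) (by
      intro v hv hc
      rw [a.D3 b] at hc
      -- conjugate by `m⁻¹`, then by `r⁻¹`
      rw [mem_cj]
      have hv1 : m⁻¹ * v * m ∈ cj (r * m) V := mem_cj.1 hv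
      have hv2 : r⁻¹ * (m⁻¹ * v * m) * r ∈ cj m V := by
        rw [cj_mul] at hv1
        exact mem_cj.1 hv1
      have h1 := a.fix _ hv2 fun d hd => by
        have hd' : r * d * r⁻¹ ∈ DD V R := conj_mem_of_normalizer (b.NV_le_ND (b.X_le_NV a.r_mem)) hd
        have h2 := hc _ (conj_mem_cj (g := m) hd')
        calc d * (r⁻¹ * (m⁻¹ * v * m) * r) = r⁻¹ * m⁻¹ * (m * (r * d * r⁻¹) * m⁻¹ * v) * m * r := by group
          _ = r⁻¹ * m⁻¹ * (v * (m * (r * d * r⁻¹) * m⁻¹)) * m * r := by rw [h2]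
          _ = r⁻¹ * (m⁻¹ * v * m) * r * d := by group
      have h3 := conj_mem_cj (g := r) h1
      rw [a.ri] at h3
      rwa [show r * (r⁻¹ * (m⁻¹ * v * m) * r) * r⁻¹ = m⁻¹ * v * m by group] at h3)
  rw [cj_mul, cj_mul, hn0, hop]

end AptData

end Cfsg.Agent.Omega.Lie.Nodes
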