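import Cfsg.Agent.Omega.Lie.Nodes.AptEx
import Cfsg.Agent.Omega.Lie.End.Zero
import Cfsg.Agent.ParSys.QuadSig

/-!
# NODE LIE, residues `(0, j)`: counting for the quadrangle

* `card_PanS_zero` : at most `q` points `≠ R i` on `V`;
* `card_PanS_node` : at most `|Z_k| |Q_k|` lines `≠ V` on `R i`, `Q_k = {q l k | sf k l = 0}`;
* `card_opp` : `W i` has at least `q² |Z_k| |Q_k|` conjugates of a point opposite to `R i`.
-/

set_option autoImplicit false
set_option linter.unusedSectionVars false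

namespace Cfsg.Agent.Omega.Lie.Nodes

open Subgroup Cfsg.Agent.Omega.BTwo Cfsg.Agent.ParSys

universe u v w

/-- a lower bound for `relIndex` -/
theorem card_le_relIndex {G : Type*} [Group G] [Finite G] {H W : Subgroup G} {S : Type*} (f : S → G)
    (hf : ∀ s, f s ∈ W) (hinj : ∀ s s', (f s)⁻¹ * f s' ∈ H → s = s') : Nat.card S ≤ H.relIndex W := by
  rw [relIndex, index_eq_card]
  refine Nat.card_le_card_of_injective (fun s : S => (QuotientGroup.mk ⟨f s, hf s⟩ : W ⧸ H.subgroupOf W)) ?_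
  intro s s' e
  have h1 := QuotientGroup.eq.1 e
  exact hinj s s' (mem_subgroupOf.1 h1)

variable {G : Type u} [Group G] {ι : Type w} {V : Subgroup G} {R : ι → Subgroup G} {i j : ι} {F : Type v}
  [Field F] {v : F → F → G} {w1 w2 : F → G} {M B : Type u} [AddCommGroup M] [AddCommGroup B]
  [DistribMulAction (NR R i) M] [DistribMulAction (NR R i) B] [Module F M] {p : G → M} {r : G → B}
  {f : M →+ M →+ B} {φ : M →ₗ[F] M →ₗ[F] F} {s : NR R i → (F ≃+* F)} [CharP F 2]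
  [Finite G] [Finite F] {h : FMod V R i j v w1 w2 M B p r f φ s} {t : F → G} {τ : Lie.TorD V R i j v t}
  {N : Type u} [AddCommGroup N] [Module F N] {P1 P2 : G → N} {y : YPair V R i j w1 w2 N P1 P2}
  {n : N →ₗ[F] M} {sf : N →ₗ[F] N →ₗ[F] M} {q : N → N →ₗ[F] F}

section zero

/-- the points of `V` other than `R i` -/
theorem point_eq (h : FMod V R i j v w1 w2 M B p r f φ s) {l : ι} (hl : l ≠ i) :
    ∃ a : F, ∀ g, g ∈ R l ↔ ∃ c, v (a * c) c = g := by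
  obtain ⟨w, hw, e⟩ := h.bt.trans i h.co.ne.symm hl
  obtain ⟨x, hx⟩ := h.co.W1_act w hw
  refine ⟨x, fun g => ?_⟩
  rw [← e, mem_cj, h.co.mem_R2]
  constructor
  · rintro ⟨c, hc⟩
    refine ⟨c, ?_⟩
    have h1 := hx 0 c
    rw [zero_add] at h1
    rw [← h1, hc]; group
  · rintro ⟨c, rfl⟩
    refine ⟨c, ?_⟩
    have h1 := hx 0 c
    rw [zero_add] at h1
    rw [← h1]; group

theorem card_PanS_zero (h : FMod V R i j v w1 w2 M B p r f φ s) {B' U : Subgroup G}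
    (D : Zero.Dat V R i B' U) : (PanS B' (Zero.P0 V R B')).ncard ≤ Nat.card F := by
  have key : ∀ z ∈ PanS B' (Zero.P0 V R B'), ∃ a : F, ∃ x ∈ Zero.P0 V R B', (x : G ⧸ B') = z ∧
      ∀ g, g ∈ cj x (R i) ↔ ∃ c, v (a * c) c = g := by
    rintro z ⟨x, hx, hxB, rfl⟩
    obtain ⟨l, hl, el⟩ := (Zero.not_mem_B_iff h.bt D hx).1 hxB
    obtain ⟨a, ha⟩ := point_eq h hl
    exact ⟨a, x, hx, rfl, by rw [el]; exact ha⟩
  choose! a x hx hxz hxa using key
  rw [← Set.ncard_univ]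
  refine Set.ncard_le_ncard_of_injOn a (fun _ _ => Set.mem_univ _) ?_ (Set.toFinite _)
  intro z hz z' hz' e
  rw [← hxz z hz, ← hxz z' hz']
  refine QuotientGroup.eq.2 (Zero.mem_B h.bt D (mul_mem (inv_mem (hx z hz)) (hx z' hz')) ?_)
  have h1 : cj (x z) (R i) = cj (x z') (R i) := by
    ext g
    rw [hxa z hz, hxa z' hz']
    rw [show a z = a z' from e]
  rw [← cj_eq_self_iff, cj_mul, ← h1, cj_inv_cj]

end zero

section node

/-- the values `q l k` with `sf k l = 0` -/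
abbrev Qv (sf : N →ₗ[F] N →ₗ[F] M) (q : N → N →ₗ[F] F) (k : N) : Type v :=
  {a : F // ∃ l, sf k l = 0 ∧ q l k = a}

/-- the line `(V')^u` depends only on `sf k (P2 u)`, `q (P2 u) k` -/
theorem cj_VG_le (g : Eig h τ y n sf q) {k : N} {u u' : G} (hu : u ∈ UU V R j) (hu' : u' ∈ UU V R j)
    (e1 : sf k (P2 u) = sf k (P2 u')) (e2 : q (P2 u) k = q (P2 u') k) : cj u (VG g k) ≤ cj u' (VG g k) := by
  have hN : ∀ {a}, a ∈ UU V R j → a ∈ normalizer (R i : Set G) := fun ha => h.bt.cen_le_N i (UU_le_cen j ha)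
  have hW : ∀ {a}, a ∈ UU V R j → a ∈ normalizer (WW V (R i) : Set G) := fun ha =>
    h.bt.cen_le_NW i (UU_le_cen j ha)
  have hact : ∀ {a}, a ∈ UU V R j → ∀ {x} (c : F), x ∈ WW V (R i) → p x = c • n k →
      p (a * x * a⁻¹) = c • (n k + sf k (P2 a) + q (P2 a) k • p (v 0 1)) := by
    intro a ha x c hx hc
    have h1 := h.fr.p_act ⟨a, hN ha⟩ x hx
    rw [hc, act_smul h (g := ⟨a, hN ha⟩) (cen_of_U h y (a := ⟨a, hN ha⟩) ha), g.A_1 ⟨a, hN ha⟩ ha] at h1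
    exact h1.symm
  rintro _ ⟨x, hx, rfl⟩
  obtain ⟨hxW, c, hc⟩ := mem_VG.1 hx
  have h1 := hact hu c hxW hc
  have h2 := hact hu' c hxW hc
  rw [e1, e2, ← h2] at h1
  have hux := BTwo.conj_mem_of_normalizer (hW hu) hxW
  have hux' := BTwo.conj_mem_of_normalizer (hW hu') hxW
  have h3 := (h.fr.p_eq_iff hux hux').1 h1
  have h4 : R i ≤ cj u' (VG g k) := by
    rw [← cj_eq_self_iff.2 (hN hu')]
    exact cj_mono (R_le_VG g k)
  have h5 := mul_mem (h4 h3) (conj_mem_cj (g := u') hx)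
  rwa [inv_mul_cancel_right] at h5

theorem card_PanS_node (g : Eig h τ y n sf q) {k : N} {B' Pb : Subgroup G}
    (PV : Pb ⊓ normalizer (V : Set G) ≤ B')
    (tr : ∀ x ∈ Pb, x ∉ B' → ∃ u ∈ UU V R j, cj x V = cj u (VG g k)) :
    (PanS B' Pb).ncard ≤ Nat.card (ZK sf k) * Nat.card (Qv sf q k) := by
  have key : ∀ z ∈ PanS B' Pb, ∃ x ∈ Pb, (x : G ⧸ B') = z ∧ ∃ u ∈ UU V R j, cj x V = cj u (VG g k) := by
    rintro z ⟨x, hx, hxB, rfl⟩
    exact ⟨x, hx, rfl, tr x hx hxB⟩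
  choose! x hx hxz u hu hxu using key
  -- representatives
  let κ0 : N → N := fun κ => Function.invFun (sf k) (sf k κ)
  have hκ0 : ∀ κ, sf k (κ0 κ) = sf k κ := fun κ => Function.invFun_eq ⟨κ, rfl⟩
  have hq : ∀ κ, q κ k = q (κ0 κ) k + q (κ - κ0 κ) k ∧ sf k (κ - κ0 κ) = 0 := by
    intro κ
    have h0 : sf k (κ - κ0 κ) = 0 := by rw [map_sub, hκ0, sub_self]
    refine ⟨?_, h0⟩
    have h1 := g.q_add (κ0 κ) (κ - κ0 κ) k
    rw [h0, map_zero, LinearMap.zero_apply, add_zero, add_sub_cancel] at h1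
    exact h1
  let F1 : G ⧸ B' → ZK sf k × Qv sf q k := fun z =>
    (⟨sf k (P2 (u z)), s_mem_Zg _⟩, ⟨q (P2 (u z) - κ0 (P2 (u z))) k, _, (hq _).2, rfl⟩)
  have hfin : Finite (ZK sf k × Qv sf q k) := by
    have : Finite M := Finite.of_surjective (fun x : WW V (R i) => p x) fun m => by
      obtain ⟨x, hx, e1⟩ := h.fr.p_surj m
      exact ⟨⟨x, hx⟩, e1⟩
    infer_instance
  rw [← Nat.card_prod, ← Set.ncard_univ]
  refine Set.ncard_le_ncard_of_injOn F1 (fun _ _ => Set.mem_univ _) ?_ (Set.toFinite _)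
  intro z hz z' hz' e
  have e1 : sf k (P2 (u z)) = sf k (P2 (u z')) := congrArg (fun x : ZK sf k × Qv sf q k => (x.1 : M)) e
  have e2 : q (P2 (u z) - κ0 (P2 (u z))) k = q (P2 (u z') - κ0 (P2 (u z'))) k :=
    congrArg (fun x : ZK sf k × Qv sf q k => (x.2 : F)) e
  have e3 : κ0 (P2 (u z)) = κ0 (P2 (u z')) := by
    show Function.invFun (sf k) (sf k (P2 (u z))) = Function.invFun (sf k) (sf k (P2 (u z')))
    rw [e1]
  have e4 : q (P2 (u z)) k = q (P2 (u z')) k := by rw [(hq _).1, (hq (P2 (u z'))).1, e2, e3]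
  have e5 : cj (u z) (VG g k) = cj (u z') (VG g k) :=
    le_antisymm (cj_VG_le g (hu z hz) (hu z' hz') e1 e4) (cj_VG_le g (hu z' hz') (hu z hz) e1.symm e4.symm)
  rw [← hxz z hz, ← hxz z' hz']
  refine QuotientGroup.eq.2 (PV (mem_inf.2 ⟨mul_mem (inv_mem (hx z hz)) (hx z' hz'), ?_⟩))
  rw [← cj_eq_self_iff, cj_mul, hxu z' hz', ← e5, ← hxu z hz, cj_inv_cj]

end node

end Cfsg.Agent.Omega.Lie.Nodes
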