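import Cfsg.Agent.Omega.Lie.Nodes.AptPt

/-!
# NODE LIE, residues `(0, j)`: existence of the apartment

`NodeDat.exists_apt`: `m ∈ P` and `AptData V R i j l ρ m Σ`.
-/

set_option autoImplicit false
set_option linter.unusedSectionVars false

namespace Cfsg.Agent.Omega.Lie.Nodes

open Subgroup Cfsg.Agent.Omega.BTwo

universe u v w

section grp

variable {G : Type u} [Group G]

/-- the derived group of `C` centralises `Q` if `C` acts on `Q` modulo the central abelian group `A` -/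
theorem derived_cen {C A Q : Subgroup G} (hA : ∀ x ∈ A, ∀ z ∈ A, x * z = z * x) (hCA : C ≤ centralizer (A : Set G))
    (hC : ∀ c ∈ C, ∀ u ∈ Q, c * u * c⁻¹ * u⁻¹ ∈ A) : ⁅C, C⁆ ≤ centralizer (Q : Set G) := by
  have hcA : ∀ c ∈ C, ∀ x ∈ A, c * x * c⁻¹ = x := by
    intro c hc x hx
    rw [← mem_centralizer_iff.1 (hCA hc) x hx, mul_inv_cancel_right]
  -- conjugation of `x u` with `x ∈ A`, `u ∈ Q`
  have key : ∀ c ∈ C, ∀ x ∈ A, ∀ u ∈ Q, c * (x * u) * c⁻¹ = (c * u * c⁻¹ * u⁻¹) * x * u := by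
    intro c hc x hx u hu
    have e : c * (x * u) * c⁻¹ = (c * x * c⁻¹) * (c * u * c⁻¹ * u⁻¹) * u := by group
    rw [e, hcA c hc x hx, hA x hx _ (hC c hc u hu)]
  have hinv : ∀ c ∈ C, ∀ u ∈ Q, (c⁻¹ * u * c⁻¹⁻¹ * u⁻¹) * (c * u * c⁻¹ * u⁻¹) = 1 := by
    intro c hc u hu
    have hθ := hC c⁻¹ (inv_mem hc) u hu
    have h1 := key c hc _ hθ u hu
    have e : c * (c⁻¹ * u * c⁻¹⁻¹ * u⁻¹ * u) * c⁻¹ = u := by group
    rw [e] at h1
    have h2 := hA _ hθ _ (hC c hc u hu)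
    rw [h2]
    exact (mul_eq_right.1 h1.symm)
  rw [commutator_le]
  intro c hc c' hc'
  rw [commutatorElement_def, mem_centralizer_iff]
  intro u hu
  have h1 := hC c'⁻¹ (inv_mem hc') u hu
  have h2 := hC c⁻¹ (inv_mem hc) u hu
  have h3 := hC c' hc' u hu
  have h4 := hC c hc u hu
  set θ1 := c'⁻¹ * u * c'⁻¹⁻¹ * u⁻¹ with e1
  set θ2 := c⁻¹ * u * c⁻¹⁻¹ * u⁻¹ with e2
  set θ3 := c' * u * c'⁻¹ * u⁻¹ with e3
  set θ4 := c * u * c⁻¹ * u⁻¹ with e4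
  have s1 : c'⁻¹ * u * c'⁻¹⁻¹ = θ1 * u := by rw [e1]; group
  have s2 : c⁻¹ * (θ1 * u) * c⁻¹⁻¹ = θ2 * θ1 * u := key c⁻¹ (inv_mem hc) θ1 h1 u hu
  have s3 : c' * (θ2 * θ1 * u) * c'⁻¹ = θ3 * (θ2 * θ1) * u := key c' hc' _ (mul_mem h2 h1) u hu
  have s4 : c * (θ3 * (θ2 * θ1) * u) * c⁻¹ = θ4 * (θ3 * (θ2 * θ1)) * u :=
    key c hc _ (mul_mem h3 (mul_mem h2 h1)) u hu
  have i1 : θ1 * θ3 = 1 := hinv c' hc' u hu
  have i2 : θ2 * θ4 = 1 := hinv c hc u hu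
  have e5 : θ4 * (θ3 * (θ2 * θ1)) = 1 := by
    calc θ4 * (θ3 * (θ2 * θ1)) = θ4 * ((θ2 * θ1) * θ3) := by rw [hA _ h3 _ (mul_mem h2 h1)]
      _ = θ4 * θ2 * (θ1 * θ3) := by group
      _ = θ2 * θ4 := by rw [i1, mul_one, hA _ h4 _ h2]
      _ = 1 := i2
  have e6 : c * c' * c⁻¹ * c'⁻¹ * u * (c * c' * c⁻¹ * c'⁻¹)⁻¹ = u := by
    have e7 : c * c' * c⁻¹ * c'⁻¹ * u * (c * c' * c⁻¹ * c'⁻¹)⁻¹ =
        c * (c' * (c⁻¹ * (c'⁻¹ * u * c'⁻¹⁻¹) * c⁻¹⁻¹) * c'⁻¹) * c⁻¹ := by group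
    rw [e7, s1, s2, s3, s4, e5, one_mul]
  exact (mul_inv_eq_iff_eq_mul.1 e6).symm

/-- a fixed-point-free element on a finite group: every element is a commutator -/
theorem exists_comm_of_fpf [Finite G] {Q : Subgroup G} {x : G} (hx : x ∈ normalizer (Q : Set G))
    (h : ∀ u ∈ Q, x * u * x⁻¹ = u → u = 1) {u : G} (hu : u ∈ Q) : ∃ u' ∈ Q, x * u' * x⁻¹ * u'⁻¹ = u := by
  let f : Q → Q := fun u => ⟨x * u * x⁻¹ * (u : G)⁻¹, mul_mem (conj_mem_of_normalizer hx u.2) (inv_mem u.2)⟩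
  have hf : Function.Injective f := by
    intro a b e
    have e1 : x * (a : G) * x⁻¹ * (a : G)⁻¹ = x * b * x⁻¹ * (b : G)⁻¹ := congrArg Subtype.val e
    have e2 : x * ((b : G)⁻¹ * a) * x⁻¹ = (b : G)⁻¹ * a := by
      calc x * ((b : G)⁻¹ * a) * x⁻¹ = (x * b * x⁻¹)⁻¹ * (x * (a : G) * x⁻¹ * (a : G)⁻¹) * a := by group
        _ = (x * b * x⁻¹)⁻¹ * (x * b * x⁻¹ * (b : G)⁻¹) * a := by rw [e1]
        _ = (b : G)⁻¹ * a := by group
    have e3 := h _ (mul_mem (inv_mem b.2) a.2) e2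
    exact (Subtype.ext (inv_mul_eq_one.1 e3)).symm
  obtain ⟨u', hu'⟩ := (Finite.injective_iff_surjective.1 hf) ⟨u, hu⟩
  exact ⟨u', u'.2, congrArg Subtype.val hu'⟩

/-- conjugations by commuting elements commute -/
theorem conj_conj_of_comm {x m : G} (h : m * x = x * m) (w : G) :
    x * (m⁻¹ * w * m) * x⁻¹ = m⁻¹ * (x * w * x⁻¹) * m := by
  have h5 : x * m⁻¹ = m⁻¹ * x := by
    calc x * m⁻¹ = m⁻¹ * (m * x) * m⁻¹ := by group
      _ = m⁻¹ * (x * m) * m⁻¹ := by rw [h]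
      _ = m⁻¹ * x := by group
  have h6 : m * x⁻¹ = x⁻¹ * m := by
    calc m * x⁻¹ = x⁻¹ * (x * m) * x⁻¹ := by group
      _ = x⁻¹ * (m * x) * x⁻¹ := by rw [h]
      _ = x⁻¹ * m := by group
  calc x * (m⁻¹ * w * m) * x⁻¹ = (x * m⁻¹) * w * (m * x⁻¹) := by group
    _ = (m⁻¹ * x) * w * (x⁻¹ * m) := by rw [h5, h6]
    _ = _ := by group

end grp

variable {G : Type u} [Group G] {ι : Type w} {V : Subgroup G} {R : ι → Subgroup G} {i j : ι} {F : Type v}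
  [Field F] {v : F → F → G} {w1 w2 : F → G} {M B : Type u} [AddCommGroup M] [AddCommGroup B]
  [DistribMulAction (NR R i) M] [DistribMulAction (NR R i) B] [Module F M] {p : G → M} {r : G → B}
  {f : M →+ M →+ B} {φ : M →ₗ[F] M →ₗ[F] F} {s : NR R i → (F ≃+* F)} [CharP F 2]
  [Finite G] [Finite F] {h : FMod V R i j v w1 w2 M B p r f φ s} {t : F → G} {τ : Lie.TorD V R i j v t}
  {N : Type u} [AddCommGroup N] [Module F N] {P1 P2 : G → N} {y : YPair V R i j w1 w2 N P1 P2}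
  {n : N →ₗ[F] M} {sf : N →ₗ[F] N →ₗ[F] M} {q : N → N →ₗ[F] F}

namespace TauDat

variable {g : Eig h τ y n sf q} {k : N} {P O : Subgroup G} {a : Fˣ} {x : G} (D : TauDat g k P O a x)
  {ρ : G} (E : RDat V R i j v w1 w2 t a ρ)
include D E

/-- **the opposite point, fixed by `τ₁`** -/
theorem exists_pt (ha : (a : F) ≠ 1) (hk : k ≠ 0) {m : G} (hm : m ∈ centralizer (R i : Set G))
    (hmV : cj m V = VG g k) : ∃ l, l ≠ i ∧ cj x (cj (ρ * m) (R l)) = cj (ρ * m) (R l) := by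
  have hmi : cj m (R i) = R i := cj_eq_self_iff.2 (centralizer_le_normalizer _ hm)
  have hρmi : cj (ρ * m) (R i) = R j := by rw [cj_mul, hmi, E.ri]
  -- `τ₁` normalises `V₂'`
  have h1 : (ρ * m)⁻¹ * x * (ρ * m) ∈ normalizer (V : Set G) := by
    have h2 := cj_eq_self_iff.2 (D.norm_VG E ha hk)
    rw [← hmV] at h2
    rw [← cj_eq_self_iff]
    have e : (ρ * m)⁻¹ * x * (ρ * m) = m⁻¹ * (ρ⁻¹ * x * ρ * m) := by group
    rw [e, cj_mul, cj_mul, h2, cj_inv_cj]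
  obtain ⟨l1, hl1⟩ := h.bt.perm _ h1 j
  have hfixi : cj ((ρ * m)⁻¹ * x * (ρ * m)) (R i) = R i := by
    rw [cj_mul, cj_mul, hρmi, (D.Rj ha).1, ← hρmi, cj_inv_cj]
  have hl1i : l1 ≠ i := by
    rintro rfl
    exact h.co.ne.symm (h.bt.R_index (cj_injective (hl1.trans hfixi.symm)))
  have hx0 : cj x (cj (ρ * m) (R j)) = cj (ρ * m) (R l1) := by
    rw [← hl1, ← cj_mul, ← cj_mul]
    congr 1
    group
  -- `D`
  obtain ⟨d, hd, e1⟩ := trD g hk hm hmV h.co.ne.symm hl1i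
  have hρD : ρ ∈ normalizer (DD V R : Set G) := h.bt.NV_le_ND (h.bt.X_le_NV E.X)
  set d1 := ρ * d * ρ⁻¹ with hd1
  have hd1D : d1 ∈ DD V R := conj_mem_of_normalizer hρD hd
  have e2 : cj d1 (cj (ρ * m) (R j)) = cj (ρ * m) (R l1) := by
    rw [hd1, cj_mul, cj_mul, cj_mul, cj_inv_cj, e1, ← cj_mul]
  have hxD : x ∈ normalizer (DD V R : Set G) := h.bt.NV_le_ND D.NV
  set z := d1⁻¹ * x with hz
  have hzfix : cj z (cj (ρ * m) (R j)) = cj (ρ * m) (R j) := by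
    rw [hz, cj_mul, hx0, ← e2, cj_inv_cj]
  have hzD : x⁻¹ * z ∈ DD V R := by
    have e : x⁻¹ * z = x⁻¹ * d1⁻¹ * x := by rw [hz]; group
    rw [e]
    exact conj_inv_mem_of_normalizer hxD (inv_mem hd1D)
  have hD2 : IsPGroup 2 (DD V R) := (h.bt.W_isPGroup i).to_le (D_le_W V R i)
  obtain ⟨K, hK1, hK2⟩ := Apt.exists_odd_pow hxD D.odd hzD
  obtain ⟨d2, hd2, e3⟩ := Apt.conj_of_coset hD2 hxD D.odd hK1 hK2
  have hzK : cj (z ^ K) (cj (ρ * m) (R j)) = cj (ρ * m) (R j) :=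
    cj_eq_self_iff.2 (pow_mem (cj_eq_self_iff.1 hzfix) K)
  have hx1 : cj x (cj d2 (cj (ρ * m) (R j))) = cj d2 (cj (ρ * m) (R j)) := by
    rw [← e3, ← cj_mul, show d2 * z ^ K * d2⁻¹ * d2 = d2 * z ^ K by group, cj_mul, hzK]
  -- `d2 (ρ m) = (ρ m) d3`
  set d3 := (ρ * m)⁻¹ * d2 * (ρ * m) with hd3
  have hd3W : d3 ∈ WW V (R i) := by
    have e : d3 = m⁻¹ * (ρ⁻¹ * d2 * ρ) * m := by rw [hd3]; group
    rw [e]
    exact conj_inv_mem_of_normalizer (normalizer_le_WW V (R i) (centralizer_le_normalizer _ hm))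
      (D_le_W V R i (conj_inv_mem_of_normalizer hρD hd2))
  obtain ⟨l, hl⟩ := h.bt.perm _ (h.bt.W_le_NV i hd3W) j
  have hli : l ≠ i := by
    rintro rfl
    have h5 : cj d3 (R l) = R l := cj_eq_self_iff.2 (h.bt.W_le_N l hd3W)
    exact h.co.ne.symm (h.bt.R_index (cj_injective (hl.trans h5.symm)))
  refine ⟨l, hli, ?_⟩
  have e4 : cj (ρ * m) (R l) = cj d2 (cj (ρ * m) (R j)) := by
    rw [← hl, ← cj_mul, ← cj_mul]
    congr 1
    rw [hd3]; group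
  rw [e4, hx1]

end TauDat

namespace NodeDat

variable {g : Eig h τ y n sf q} {k : N} {P O : Subgroup G} (d : NodeDat g k P O)
include d

/-- **existence of the apartment data** -/
theorem exists_apt {m0 : NR R i} {β γ : F} (sw : SwapM h n sf k m0 β γ) (hm0 : (m0 : G) ∈ P) :
    ∃ (ρ m : G) (l : ι), AptData V R i j l ρ m (Sig g k) ∧ m ∈ P ∧ cj m V = VG g k ∧ cj m (VG g k) = V ∧
      (∀ b c, ρ * v b c * ρ⁻¹ = v c b) ∧ cj ρ ((gfr_of g).SG k) = cj (nn w1 w2 1) ((gfr_of g).SG k) := by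
  obtain ⟨a, ha⟩ := h.exists_unit
  obtain ⟨x, D⟩ := d.exists_tau sw hm0 a
  obtain ⟨ρ, e1, e2, e3, e4, e5, e6, e7⟩ := exists_r h τ y a
  have E : RDat V R i j v w1 w2 t a ρ := ⟨e1, e2, e3, e4, e5, e6, e7⟩
  obtain ⟨X, hX, dX⟩ := D.diag
  have hxR : x ∈ normalizer (R i : Set G) := D.NRi
  have hxS : x ∈ normalizer ((gfr_of g).SG k : Set G) := D.qm.nS
  have hxC : x ∈ cmod (R i) ((gfr_of g).SG k) := by
    rw [← hX]
    exact (mem_cmod_iff g (k := k)).2 fun m hm => dX.act hm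
  -- `m`
  obtain ⟨m, hmC, hmK⟩ := Apt.exists_m (K := O) (P := P) (τ := x) (m0 := m0) d.two d.PO d.OP D.odd
    D.nO (d.lift x D.nP D.nO fun u hu => by rw [← hX]; exact d.diag_comm dX hu) d.perf hm0
  set C := Apt.CP P x with hC
  have hCP : C ≤ P := fun c hc => (Apt.mem_CP.1 hc).1
  have hmP : m ∈ P := by
    have h1 : ⁅C, C⁆ ≤ P := by
      rw [commutator_le]
      intro u hu u' hu'
      rw [commutatorElement_def]
      exact mul_mem (mul_mem (mul_mem (hCP hu) (hCP hu')) (inv_mem (hCP hu))) (inv_mem (hCP hu'))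
    exact h1 hmC
  have hmx : m * x = x * m := by
    have h1 : ⁅C, C⁆ ≤ C := by
      rw [commutator_le]
      intro u hu u' hu'
      rw [commutatorElement_def]
      exact mul_mem (mul_mem (mul_mem hu hu') (inv_mem hu)) (inv_mem hu')
    exact (Apt.mem_CP.1 (h1 hmC)).2
  have hmCen := d.PR hmP
  have hmi : cj m (R i) = R i := cj_eq_self_iff.2 (centralizer_le_normalizer _ hmCen)
  -- `m` acts on the lines as `m₀`
  have hκ : ∀ L : Subgroup G, R i ≤ L → L ≤ (gfr_of g).SG k → cj m L = cj (m0 : G) L := by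
    intro L hRL hLS
    set κ := (m0 : G)⁻¹ * m with hκ
    have h1 : cj κ L = L := by
      rw [cj_eq_self_iff]
      apply mem_normalizer_of_conj
      intro u hu
      have h2 := mul_mem (hRL ((d.OK hmK).2 u (hLS hu))) hu
      rwa [inv_mul_cancel_right] at h2
    have e : m = m0 * κ := by rw [hκ]; group
    rw [e, cj_mul, h1]
  have hVS : V ≤ (gfr_of g).SG k := (gfr_of g).V_le_SG h.bt h.co.mem_V k
  have hmV : cj m V = VG g k := by rw [hκ V (h.bt.R_le i) hVS, sw.cj_V g]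
  have hmVG : cj m (VG g k) = V := by rw [hκ _ (R_le_VG g k) (VG_le_SG g k), sw.cj_VG g]
  have hcjS : cj ρ ((gfr_of g).SG k) = cj (nn w1 w2 1) ((gfr_of g).SG k) := by
    obtain ⟨y0, hy0, e⟩ := e1
    rw [e, cj_mul, cj_eq_self_iff.2 ((gfr_of g).Y_norm_SG h.bt h.co.ne k hy0)]
  -- the opposite point
  obtain ⟨l, hl, hfix⟩ := D.exists_pt E ha d.k0 hmCen hmV
  have hQl : cj (ρ * m) (R l) ≤ cj ρ (VG g k) := by
    rw [cj_mul, ← hmV]
    exact cj_mono (cj_mono (h.bt.R_le l))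
  have hQS : cj (ρ * m) (R l) ≤ Sig g k := by
    refine hQl.trans ((cj_mono (VG_le_SG g k)).trans ?_)
    rw [hcjS]
    exact le_sup_right
  have hfpf : ∀ u ∈ cj (ρ * m) (R l), x * u * x⁻¹ = u → u = 1 := by
    intro u hu he
    have h1 := D.fix_VG E ha d.k0 (hQl hu) he
    have h2 : R j = cj (ρ * m) (R i) := by rw [cj_mul, hmi, e3]
    rw [h2] at h1
    have h3 : u ∈ cj (ρ * m) (R l) ⊓ cj (ρ * m) (R i) := mem_inf.2 ⟨hu, h1⟩
    rw [← cj_inf, h.bt.R_inf l i hl, cj_bot] at h3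
    exact mem_bot.1 h3
  have hder : ⁅C, C⁆ ≤ centralizer ((cj (ρ * m) (R l) : Subgroup G) : Set G) := by
    refine derived_cen (A := R i) (fun u hu u' hu' => h.bt.V_comm u (h.bt.R_le i hu) u' (h.bt.R_le i hu'))
      (hCP.trans d.PR) fun c hc u hu => ?_
    obtain ⟨hcP, hcx⟩ := Apt.mem_CP.1 hc
    obtain ⟨u', hu', e⟩ := exists_comm_of_fpf (cj_eq_self_iff.1 hfix) hfpf hu
    set s' := c * u' * c⁻¹ * u'⁻¹ with hs'
    have hs'S : s' ∈ (gfr_of g).SG k := d.triv hcP (hQS hu')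
    have hcx' : c * x * c⁻¹ = x := by rw [hcx, mul_inv_cancel_right]
    have h1 : c * u * c⁻¹ = x * s' * x⁻¹ * u * s'⁻¹ := by
      calc c * u * c⁻¹ = (c * x * c⁻¹) * (c * u' * c⁻¹) * (c * x * c⁻¹)⁻¹ * (c * u' * c⁻¹)⁻¹ := by
            rw [← e]; group
        _ = x * (s' * u') * x⁻¹ * (s' * u')⁻¹ := by rw [hcx', hs']; group
        _ = x * s' * x⁻¹ * (x * u' * x⁻¹ * u'⁻¹) * s'⁻¹ := by group
        _ = _ := by rw [e]
    have hs'T : s' ∈ Sig g k := (le_sup_left : (gfr_of g).SG k ≤ _) hs'S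
    have h2 : u * s'⁻¹ = s'⁻¹ * u := d.com u (hQS hu) _ (inv_mem hs'T)
    have h3 : c * u * c⁻¹ * u⁻¹ = x * s' * x⁻¹ * s'⁻¹ := by
      rw [h1, mul_assoc (x * s' * x⁻¹), h2]; group
    rw [h3]
    exact hxC.2 s' hs'S
  have hm2 : cj m (cj (ρ * m) (R l)) = cj (ρ * m) (R l) :=
    cj_eq_self_iff.2 (centralizer_le_normalizer _ (hder hmC))
  -- `m²` fixes `R j`
  have hmmV : cj m (cj m V) = V := by rw [hmV, hmVG]
  have hmj : cj m (cj m (R j)) = R j := by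
    have hVV : ∀ u, u ∈ V ↔ m⁻¹ * (m⁻¹ * u * m) * m ∈ V := by
      intro u
      conv_lhs => rw [← hmmV]
      rw [mem_cj, mem_cj]
    ext u
    rw [mem_cj, mem_cj]
    have h4 : x * (m⁻¹ * (m⁻¹ * u * m) * m) * x⁻¹ = m⁻¹ * (m⁻¹ * (x * u * x⁻¹) * m) * m := by
      rw [conj_conj_of_comm hmx, conj_conj_of_comm hmx]
    constructor
    · intro hu
      have h1 := h.bt.R_le j hu
      have h2 := (D.cenV ha h1).2 hu
      have h3 : u ∈ V := (hVV u).2 h1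
      rw [← D.cenV ha h3]
      rw [h4] at h2
      exact mul_left_cancel (mul_right_cancel (mul_left_cancel (mul_right_cancel h2)))
    · intro hu
      have h3 := h.bt.R_le j hu
      have h1 := (hVV u).1 h3
      rw [← D.cenV ha h1]
      rw [h4, (D.cenV ha h3).2 hu]
  refine ⟨ρ, m, l, ⟨h.co.ne, e2, e3, e4, hmi, hmmV, hmj, hl, hm2, d.com, hVS.trans le_sup_left, ?_, hQS, ?_, ?_⟩,
    hmP, hmV, hmVG, e6, hcjS⟩
  · rw [hmV]
    exact (VG_le_SG g k).trans le_sup_left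
  · exact fun l' hl' => trD g d.k0 hmCen hmV h.co.ne.symm hl'
  · intro u hu hc
    rw [hmV] at hu
    exact fixD g d.k0 hu hc

end NodeDat

end Cfsg.Agent.Omega.Lie.Nodes
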