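import Cfsg.Agent.Omega.Lie.Nodes.AptLin
import Cfsg.Agent.Omega.Lie.Nodes.AptBT

/-!
# NODE LIE, residues `(0, j)`: the element `τ₁` of odd order, trivial on the node

`Diag`: elements acting diagonally on `N_k`.  `NodeDat`: the data of a node of type `x = n k`.
-/

set_option autoImplicit false
set_option linter.unusedSectionVars false

namespace Cfsg.Agent.Omega.Lie.Nodes

open Subgroup Cfsg.Agent.Omega.BTwo

universe u v w

/-! ### groups -/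

section grp

variable {G : Type u} [Group G]

theorem mem_cmod {S B : Subgroup G} {x : G} : x ∈ cmod S B ↔ x ∈ normalizer (S : Set G) ∧
    ∀ b ∈ B, x * b * x⁻¹ * b⁻¹ ∈ S := Iff.rfl

theorem norm_cmod {S B : Subgroup G} {g : G} (hS : g ∈ normalizer (S : Set G)) (hB : g ∈ normalizer (B : Set G)) :
    g ∈ normalizer (cmod S B : Set G) := by
  have key : ∀ g : G, g ∈ normalizer (S : Set G) → g ∈ normalizer (B : Set G) → ∀ x ∈ cmod S B,
      g * x * g⁻¹ ∈ cmod S B := by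
    intro g hS hB x hx
    refine ⟨mul_mem (mul_mem hS hx.1) (inv_mem hS), fun b hb => ?_⟩
    have h1 := conj_mem_of_normalizer hS (hx.2 _ (conj_inv_mem_of_normalizer hB hb))
    have e : g * (x * (g⁻¹ * b * g) * x⁻¹ * (g⁻¹ * b * g)⁻¹) * g⁻¹ =
        g * x * g⁻¹ * b * (g * x * g⁻¹)⁻¹ * b⁻¹ := by group
    rwa [e] at h1
  rw [mem_normalizer_iff]
  intro x
  refine ⟨key g hS hB x, fun hx => ?_⟩
  have h1 := key g⁻¹ (inv_mem hS) (inv_mem hB) _ hx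
  rwa [inv_inv, show g⁻¹ * (g * x * g⁻¹) * g = x by group] at h1

theorem norm_inf {A B : Subgroup G} {g : G} (hA : g ∈ normalizer (A : Set G)) (hB : g ∈ normalizer (B : Set G)) :
    g ∈ normalizer ((A ⊓ B : Subgroup G) : Set G) := by
  rw [← cj_eq_self_iff, cj_inf, cj_eq_self_iff.2 hA, cj_eq_self_iff.2 hB]

/-- `x` acts on `T / S` as `x₀` -/
structure Qm (S T : Subgroup G) (x x0 : G) : Prop where
  nS : x ∈ normalizer (S : Set G)
  nT : x0 ∈ normalizer (T : Set G)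
  eq : ∀ w ∈ T, x * w * x⁻¹ * (x0 * w * x0⁻¹)⁻¹ ∈ S

theorem Qm.mul {S T : Subgroup G} {x x0 z z0 : G} (h : Qm S T x x0) (h' : Qm S T z z0) :
    Qm S T (x * z) (x0 * z0) where
  nS := mul_mem h.nS h'.nS
  nT := mul_mem h.nT h'.nT
  eq := fun w hw => by
    have h1 := conj_mem_of_normalizer h.nS (h'.eq w hw)
    have h2 := h.eq _ (conj_mem_of_normalizer h'.nT hw)
    have e : x * z * w * (x * z)⁻¹ * (x0 * z0 * w * (x0 * z0)⁻¹)⁻¹ =
        (x * (z * w * z⁻¹ * (z0 * w * z0⁻¹)⁻¹) * x⁻¹) *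
          (x * (z0 * w * z0⁻¹) * x⁻¹ * (x0 * (z0 * w * z0⁻¹) * x0⁻¹)⁻¹) := by group
    rw [e]
    exact mul_mem h1 h2

theorem Qm.self {S T : Subgroup G} {x : G} (hS : x ∈ normalizer (S : Set G)) (hT : x ∈ normalizer (T : Set G)) :
    Qm S T x x where
  nS := hS
  nT := hT
  eq := fun w _ => by rw [mul_inv_cancel]; exact one_mem _

theorem Qm.one {S T : Subgroup G} {x : G} (hS : x ∈ normalizer (S : Set G))
    (h : ∀ w ∈ T, x * w * x⁻¹ * w⁻¹ ∈ S) : Qm S T x 1 where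
  nS := hS
  nT := one_mem _
  eq := fun w hw => by
    rw [one_mul, inv_one, mul_one]
    exact h w hw

end grp

variable {G : Type u} [Group G] {ι : Type w} {V : Subgroup G} {R : ι → Subgroup G} {i j : ι} {F : Type v}
  [Field F] {v : F → F → G} {w1 w2 : F → G} {M B : Type u} [AddCommGroup M] [AddCommGroup B]
  [DistribMulAction (NR R i) M] [DistribMulAction (NR R i) B] [Module F M] {p : G → M} {r : G → B}
  {f : M →+ M →+ B} {φ : M →ₗ[F] M →ₗ[F] F} {s : NR R i → (F ≃+* F)} [CharP F 2]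
  [Finite G] [Finite F] {h : FMod V R i j v w1 w2 M B p r f φ s} {t : F → G} {τ : Lie.TorD V R i j v t}
  {N : Type u} [AddCommGroup N] [Module F N] {P1 P2 : G → N} {y : YPair V R i j w1 w2 N P1 P2}
  {n : N →ₗ[F] M} {sf : N →ₗ[F] N →ₗ[F] M} {q : N → N →ₗ[F] F}

/-! ### diagonal elements -/

/-- `x` acts diagonally on `N_k` -/
structure Diag (v : F → F → G) (p : G → M) (n : N →ₗ[F] M) (sf : N →ₗ[F] N →ₗ[F] M) (k : N) (x : NR R i)
    (c ρ : F) : Prop where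
  lin : ∀ (l : F) (m : M), x • (l • m) = l • (x • m)
  e : x • p (v 0 1) = c • p (v 0 1)
  z : ∀ d ∈ ZK sf k, x • d = d
  n : x • n k = ρ • n k

namespace Diag

variable {k : N}

theorem mul {x x' : NR R i} {c c' ρ ρ' : F} (a : Diag v p n sf k x c ρ) (a' : Diag v p n sf k x' c' ρ') :
    Diag v p n sf k (x * x') (c * c') (ρ * ρ') where
  lin := fun l m => by rw [mul_smul, mul_smul, a'.lin, a.lin]
  e := by rw [mul_smul, a'.e, a.lin, a.e, smul_smul, mul_comm]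
  z := fun d hd => by rw [mul_smul, a'.z d hd, a.z d hd]
  n := by rw [mul_smul, a'.n, a.lin, a.n, smul_smul, mul_comm]

theorem inv {x : NR R i} {c ρ : F} (a : Diag v p n sf k x c ρ) (hc : c ≠ 0) (hρ : ρ ≠ 0) :
    Diag v p n sf k x⁻¹ c⁻¹ ρ⁻¹ := by
  have hl : ∀ (l : F) (m : M), x⁻¹ • (l • m) = l • (x⁻¹ • m) := by
    intro l m
    rw [inv_smul_eq_iff, a.lin, smul_inv_smul]
  refine ⟨hl, ?_, fun d hd => ?_, ?_⟩
  · rw [inv_smul_eq_iff, a.lin, a.e, smul_smul, inv_mul_cancel₀ hc, one_smul]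
  · rw [inv_smul_eq_iff, a.z d hd]
  · rw [inv_smul_eq_iff, a.lin, a.n, smul_smul, inv_mul_cancel₀ hρ, one_smul]

theorem act {x : NR R i} (a : Diag v p n sf k x 1 1) {m : M} (hm : m ∈ NK p v n sf k) : x • m = m := by
  obtain ⟨c, z, hz, ρ, rfl⟩ := mem_NK.1 hm
  rw [smul_add, smul_add, a.lin, a.lin, a.e, a.z z hz, a.n, one_smul, one_smul]

end Diag

theorem mem_SG_iff (g : Eig h τ y n sf q) {k : N} {x : G} :
    x ∈ (gfr_of g).SG k ↔ x ∈ WW V (R i) ∧ p x ∈ NK p v n sf k := Iff.rfl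

/-- `x ∈ cmod (R i) (SG k)` iff `x` is trivial on `N_k` -/
theorem mem_cmod_iff (g : Eig h τ y n sf q) {k : N} {x : NR R i} :
    (x : G) ∈ cmod (R i) ((gfr_of g).SG k) ↔ ∀ m ∈ NK p v n sf k, x • m = m := by
  have hW : ∀ w ∈ WW V (R i), (x : G) * w * (x : G)⁻¹ ∈ WW V (R i) := fun w hw =>
    conj_mem_of_normalizer (normalizer_le_WW V (R i) x.2) hw
  constructor
  · rintro ⟨-, hx⟩ m hm
    obtain ⟨w, hw, rfl⟩ := h.fr.p_surj m
    rw [h.fr.p_act x w hw]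
    exact (h.fr.p_eq_iff (hW w hw) hw).2 (hx w ⟨hw, hm⟩)
  · intro hx
    refine ⟨x.2, fun w hw => ?_⟩
    have h1 := hx _ hw.2
    rw [h.fr.p_act x w hw.1] at h1
    exact (h.fr.p_eq_iff (hW w hw.1) hw.1).1 h1

theorem norm_SG (g : Eig h τ y n sf q) {k : N} {x : NR R i}
    (hx : ∀ m ∈ NK p v n sf k, x • m ∈ NK p v n sf k) : (x : G) ∈ normalizer ((gfr_of g).SG k : Set G) := by
  apply mem_normalizer_of_conj
  intro w hw
  refine ⟨conj_mem_of_normalizer (normalizer_le_WW V (R i) x.2) hw.1, ?_⟩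
  show p ((x : G) * w * (x : G)⁻¹) ∈ _
  rw [← h.fr.p_act x w hw.1]
  exact hx _ hw.2

theorem Diag.pres {k : N} {x : NR R i} {c ρ : F} (a : Diag v p n sf k x c ρ) {m : M}
    (hm : m ∈ NK p v n sf k) : x • m ∈ NK p v n sf k := by
  obtain ⟨c', z, hz, ρ', rfl⟩ := mem_NK.1 hm
  rw [smul_add, smul_add, a.lin, a.lin, a.e, a.z z hz, a.n, smul_smul, smul_smul]
  exact mem_NK.2 ⟨_, z, hz, _, rfl⟩

theorem diag_t (g : Eig h τ y n sf q) (k : N) (a : Fˣ) : Diag v p n sf k (tT τ a) (a : F)⁻¹ a where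
  lin := h.T_lin τ a
  e := h.T_e τ a
  z := fun _ hd => ZK_le g hd a
  n := g.n_mem k a

theorem SwapM.diag {k : N} {m : NR R i} {β γ : F} (sw : SwapM h n sf k m β γ) (g : Eig h τ y n sf q)
    (hk : k ≠ 0) (a : Fˣ) : Diag v p n sf k (m * tT τ a * m⁻¹) a (a : F)⁻¹ where
  lin := fun l x => by
    rw [mul_smul, mul_smul, mul_smul, mul_smul, act_smul h sw.cen', h.T_lin τ, act_smul h sw.cen]
  e := sw.conj_e g a
  z := fun _ hd => sw.conj_Z g hk a hd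
  n := sw.conj_n g a

/-! ### the node data -/

/-- the data of a node of type `x = n k`; `O` is a normal 2-subgroup of `P` with `[P, c] ≤ O` for `[P, c] ≤ C(N_k)` -/
structure NodeDat (g : Eig h τ y n sf q) (k : N) (P O : Subgroup G) : Prop where
  k0 : k ≠ 0
  PR : P ≤ centralizer (R i : Set G)
  PN : ∀ x : NR R i, (x : G) ∈ P → ∀ m ∈ NK p v n sf k, x • m ∈ NK p v n sf k
  PT : ∀ a : F, a ≠ 0 → t a ∈ normalizer (P : Set G)
  OP : O ≤ P
  OK : O ≤ cmod (R i) ((gfr_of g).SG k)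
  PO : P ≤ normalizer (O : Set G)
  OT : ∀ a : F, a ≠ 0 → t a ∈ normalizer (O : Set G)
  two : IsPGroup 2 O
  perf : P ≤ ⁅P, P⁆ ⊔ O
  lift : ∀ c : G, c ∈ normalizer (P : Set G) → c ∈ normalizer (O : Set G) →
    (∀ x ∈ P, c * x * c⁻¹ * x⁻¹ ∈ cmod (R i) ((gfr_of g).SG k)) → ∀ x ∈ P, c * x * c⁻¹ * x⁻¹ ∈ O
  XS : XX V R ≤ normalizer (((gfr_of g).SG k ⊔ cj (nn w1 w2 1) ((gfr_of g).SG k) : Subgroup G) : Set G)
  PS : P ≤ normalizer (((gfr_of g).SG k ⊔ cj (nn w1 w2 1) ((gfr_of g).SG k) : Subgroup G) : Set G)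
  com : ∀ x ∈ (gfr_of g).SG k ⊔ cj (nn w1 w2 1) ((gfr_of g).SG k),
    ∀ z ∈ (gfr_of g).SG k ⊔ cj (nn w1 w2 1) ((gfr_of g).SG k), x * z = z * x
  low : ∀ x ∈ P, ∀ z ∈ cj (nn w1 w2 1) ((gfr_of g).SG k), x * z * x⁻¹ * z⁻¹ ∈ WW V (R i)

section sg

variable (g : Eig h τ y n sf q) (k : N)

/-- `D ⊓ SG k = DZ k` -/
theorem DD_inf_SG {x : G} (hx : x ∈ DD V R) (hS : x ∈ (gfr_of g).SG k) (hk : k ≠ 0) : x ∈ (gfr_of g).DZ k := by
  refine ⟨hS.1, ?_⟩
  obtain ⟨c, z, hz, ρ, e⟩ := mem_NK.1 hS.2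
  have h1 : p x ∈ h.fr.sb (DD V R) := h.fr.p_mem hS.1 hx
  obtain ⟨γ, d, hd, e'⟩ := (g.mem_D _).1 h1
  have h2 : (c - γ) • p (v 0 1) + (z - d) + n (ρ • k) = 0 := by
    rw [sub_smul, map_smul]
    have : c • p (v 0 1) - γ • p (v 0 1) + (z - d) + ρ • n k =
      (c • p (v 0 1) + z + ρ • n k) - (γ • p (v 0 1) + d) := by abel
    rw [this, ← e, ← e', sub_self]
  obtain ⟨-, -, h3⟩ := g.indep _ _ _ ((h.M0 τ).sub_mem (ZK_le g hz) hd) h2
  have h4 : ρ = 0 := (smul_eq_zero.1 h3).resolve_right hk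
  show p x ∈ eZ F (p (v 0 1)) (fun a b => sf a b) k
  rw [e, h4, zero_smul, add_zero]
  exact mem_eZ.2 ⟨c, z, hz, rfl⟩

theorem X_DZ : XX V R ≤ normalizer ((gfr_of g).DZ k : Set G) := (gfr_of g).X_norm_DZ h.bt h.co.mem_V y k

/-- `cj n (SG k) ≤ W j` -/
theorem cj_SG_le {x : G} (hx : cj x (R i) = R j) : cj x ((gfr_of g).SG k) ≤ WW V (R j) := by
  rw [← h.bt.cj_WW hx]
  exact cj_mono ((gfr_of g).SG_le_W k)

/-- `Σ ⊓ W i ≤ SG k` -/
theorem sigma_inf (hk : k ≠ 0) {x : G} (hx : x ∈ (gfr_of g).SG k ⊔ cj (nn w1 w2 1) ((gfr_of g).SG k))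
    (hxW : x ∈ WW V (R i)) (hc : ∀ x ∈ (gfr_of g).SG k, ∀ z ∈ cj (nn w1 w2 1) ((gfr_of g).SG k), x * z = z * x) :
    x ∈ (gfr_of g).SG k := by
  have hn : cj (nn w1 w2 1) ((gfr_of g).SG k) ≤ normalizer ((gfr_of g).SG k : Set G) := by
    refine le_normalizer_of' fun a ha b hb => ?_
    rw [← hc b hb a ha, mul_inv_cancel_right]
    exact hb
  have h1 : x ∈ (((gfr_of g).SG k ⊔ cj (nn w1 w2 1) ((gfr_of g).SG k) : Subgroup G) : Set G) := hx
  rw [coe_mul_of_right_le_normalizer_left _ _ hn] at h1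
  obtain ⟨a, ha, c, hc', e⟩ := h1
  have e' : a * c = x := e
  have hcD : c ∈ DD V R := by
    rw [h.bt.D_eq' h.co.ne]
    refine ⟨?_, cj_SG_le g k (h.co.nn_R1 h.bt one_ne_zero) hc'⟩
    have : c = a⁻¹ * x := by rw [← e']; group
    rw [this]
    exact (WW V (R i)).mul_mem ((WW V (R i)).inv_mem ha.1) hxW
  have h2 : c ∈ (gfr_of g).DZ k := by
    have h3 := mem_cj.1 hc'
    have hX := h.co.nn_mem_X h.bt 1
    have h4 : (nn w1 w2 1)⁻¹ * c * nn w1 w2 1 ∈ DD V R :=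
      conj_inv_mem_of_normalizer (h.bt.NV_le_ND (h.bt.X_le_NV hX)) hcD
    have h5 := conj_mem_of_normalizer (X_DZ g k hX) (DD_inf_SG g k h4 h3 hk)
    rwa [show nn w1 w2 1 * ((nn w1 w2 1)⁻¹ * c * nn w1 w2 1) * (nn w1 w2 1)⁻¹ = c by group] at h5
  rw [← e']
  exact mul_mem ha ((gfr_of g).DZ_le_SG k h2)

end sg

namespace NodeDat

variable {g : Eig h τ y n sf q} {k : N} {P O : Subgroup G} (d : NodeDat g k P O)
include d

theorem PNR : P ≤ normalizer (R i : Set G) := d.PR.trans (centralizer_le_normalizer _)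

theorem PSG : P ≤ normalizer ((gfr_of g).SG k : Set G) := fun x hx =>
  norm_SG g (x := ⟨x, d.PNR hx⟩) (d.PN ⟨x, d.PNR hx⟩ hx)

/-- `[X, P]` is trivial on `N_k` if `X` is -/
theorem diag_comm {X : NR R i} (dX : Diag v p n sf k X 1 1) {u : G} (hu : u ∈ P) :
    (X : G) * u * (X : G)⁻¹ * u⁻¹ ∈ cmod (R i) ((gfr_of g).SG k) := by
  have h1 : ((X * ⟨u, d.PNR hu⟩ * X⁻¹ * (⟨u, d.PNR hu⟩ : NR R i)⁻¹ : NR R i) : G) ∈
      cmod (R i) ((gfr_of g).SG k) := by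
    refine (mem_cmod_iff g (k := k)).2 fun m' hm' => ?_
    have h2 : (⟨u, d.PNR hu⟩ : NR R i)⁻¹ • m' ∈ NK p v n sf k := d.PN _ (inv_mem hu) m' hm'
    have h3 : X⁻¹ • ((⟨u, d.PNR hu⟩ : NR R i)⁻¹ • m') = (⟨u, d.PNR hu⟩ : NR R i)⁻¹ • m' := by
      rw [inv_smul_eq_iff]
      exact (dX.act h2).symm
    rw [mul_smul, mul_smul, mul_smul, h3, smul_inv_smul]
    exact dX.act hm'
  exact h1

/-- `P` is trivial on `Σ / SG k` -/
theorem triv {x : G} (hx : x ∈ P) {z : G}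
    (hz : z ∈ (gfr_of g).SG k ⊔ cj (nn w1 w2 1) ((gfr_of g).SG k)) : x * z * x⁻¹ * z⁻¹ ∈ (gfr_of g).SG k := by
  set S := (gfr_of g).SG k with hS
  set T := S ⊔ cj (nn w1 w2 1) S with hT
  have hST : S ≤ T := le_sup_left
  have hx1 : x ∈ normalizer (S : Set G) := d.PSG hx
  have hx2 : x ∈ normalizer (T : Set G) := d.PS hx
  -- elements with the property
  let H : Subgroup G :=
    { carrier := {z | z ∈ T ∧ x * z * x⁻¹ * z⁻¹ ∈ S}
      one_mem' := ⟨one_mem _, by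
        rw [mul_one, mul_inv_cancel, one_mul, inv_one]; exact one_mem _⟩
      mul_mem' := by
        rintro a b ⟨ha, ha'⟩ ⟨hb, hb'⟩
        refine ⟨mul_mem ha hb, ?_⟩
        have hxa := conj_mem_of_normalizer hx2 ha
        have e : x * (a * b) * x⁻¹ * (a * b)⁻¹ = (x * a * x⁻¹) * (x * b * x⁻¹ * b⁻¹) * a⁻¹ := by group
        rw [e, d.com _ hxa _ (hST hb'), mul_assoc]
        exact mul_mem hb' ha'
      inv_mem' := by
        rintro a ⟨ha, ha'⟩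
        refine ⟨inv_mem ha, ?_⟩
        have hxa := conj_mem_of_normalizer hx2 ha
        have e : x * a⁻¹ * x⁻¹ * a⁻¹⁻¹ = (x * a * x⁻¹)⁻¹ * a := by group
        have e2 : x * a * x⁻¹ * a⁻¹ = a⁻¹ * (x * a * x⁻¹) := d.com _ hxa _ (inv_mem ha)
        rw [e]
        have h1 := inv_mem ha'
        rw [e2, mul_inv_rev, inv_inv] at h1
        exact h1 }
  have hH : T ≤ H := by
    refine sup_le (fun a ha => ⟨hST ha, mul_mem (conj_mem_of_normalizer hx1 ha) (inv_mem ha)⟩) fun a ha => ?_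
    have haT : a ∈ T := (le_sup_right : cj (nn w1 w2 1) S ≤ T) ha
    refine ⟨haT, ?_⟩
    exact sigma_inf g k d.k0 (mul_mem (conj_mem_of_normalizer hx2 haT) (inv_mem haT)) (d.low x hx a ha)
      fun a ha b hb => d.com a (hST ha) b ((le_sup_right : cj (nn w1 w2 1) S ≤ T) hb)
  exact (hH hz).2

end NodeDat

end Cfsg.Agent.Omega.Lie.Nodes
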