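import Cfsg.Agent.Omega.Lie.Nodes.Key

/-!
# NODE LIE, TEXT NODES (#14331): `KEY` in the language of `FMod`, `Eig`

`eig_beta` / `eig_sigma`: `k#(l) = 0` for `l ∈ K_k` in types (beta), (sigma); `eig_key`: `[M, A_k] ≤ N_k`.
-/

set_option autoImplicit false
set_option linter.unusedSectionVars false

namespace Cfsg.Agent.Omega.Lie.Nodes

open Subgroup Cfsg.Agent.Omega.BTwo

universe u v w

section

variable {G : Type u} [Group G] {ι : Type w} {V : Subgroup G} {R : ι → Subgroup G} {i j : ι} {F : Type v}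
    [Field F] {v : F → F → G} {M E : Type u} [AddCommGroup M] [Module F M] [AddCommGroup E] [Module F E]
    {P1 P2 : G → E} {q : G → M} {f : M →ₗ[F] M →ₗ[F] F} {e : M} {M0 : Submodule F M} {n : E →ₗ[F] M}
    {s : E → E → M} {sh : E → E → F} {α : E → M →ₗ[F] M} (h : GFr V R i j v P1 P2 q f e M0 n s sh α)
    [Finite M] [Finite F]
include h

/-- `g# = 0` on `K_g` implies `[M, A_g] ≤ N_g` -/
theorem GFr.key_of {g : E} (hK : ∀ k, s g k = 0 → sh g k = 0)
    (hks : ∀ k, s g k = 0 → ∀ r : F, s k (r • g) = 0) (hsq : ∀ (r : F) (k : E), sh (r • g) k = r * r * sh g k) :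
    Key e n s α g := by
  intro r m
  apply h.lin.perp_perp
  intro m' hm'
  obtain ⟨c, d, hd, k, rfl, hdg, hsk⟩ := h.lin.mem_perp hm'
  set m' := c • e + d + n k with hm'd
  have h1 : α (r • g) m' = m' := by
    have h2 : f d (n (r • g)) = 0 := by rw [map_smul, map_smul, hdg, smul_zero]
    rw [hm'd, map_add, map_add, map_smul, h.α_e, h.α_M0 _ d hd, h.α_n, h2, hks k hsk, hsq, hK k hsk, mul_zero]
    module
  have h2 := h.α_f (r • g) m m'
  rw [h1] at h2
  rw [map_sub, LinearMap.sub_apply, h2, sub_self]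

end

section

variable {G : Type u} [Group G] {ι : Type w} {V : Subgroup G} {R : ι → Subgroup G} {i j : ι} {F : Type v}
  [Field F] {v : F → F → G} {w1 w2 : F → G} {M B : Type u} [AddCommGroup M] [AddCommGroup B]
  [DistribMulAction (NR R i) M] [DistribMulAction (NR R i) B] [Module F M] {p : G → M} {r : G → B}
  {f : M →+ M →+ B} {φ : M →ₗ[F] M →ₗ[F] F} {s : NR R i → (F ≃+* F)} [CharP F 2]
  [Finite G] [Finite F] {h : FMod V R i j v w1 w2 M B p r f φ s} {t : F → G} {τ : Lie.TorD V R i j v t}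
  {N : Type u} [AddCommGroup N] [Module F N] {P1 P2 : G → N} {y : YPair V R i j w1 w2 N P1 P2}
  {n : N →ₗ[F] M} {sf : N →ₗ[F] N →ₗ[F] M} {q : N → N →ₗ[F] F} (g : Eig h τ y n sf q)
include g

theorem Eig_symm (k l : N) : sf k l = sf l k := by
  have h1 : sf k l - sf l k = 0 := by
    refine g.inj _ ((h.M0 τ).sub_mem (g.sf_mem k l) (g.sf_mem l k)) fun b => ?_
    rw [map_sub, LinearMap.sub_apply, g.T_13 k l b, g.T_23 b l k, g.T_13 b k l, sub_self]
  exact sub_eq_zero.1 h1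

theorem Eig_ks {k l : N} (hkl : sf k l = 0) (a : F) : sf l (a • k) = 0 := by
  rw [map_smul, Eig_symm g, hkl, smul_zero]

/-- the parametrised point over `n k` -/
theorem exists_z {k : N} {x0 : NR R i} (hx0 : (x0 : G) ∈ centralizer (R i : Set G)) {a : F} (ha : a ≠ 0)
    (h0 : x0 • p (v 0 1) = a • n k) :
    ∃ z : F → G, FP R i v z ∧ (∀ r, z r ∈ WW V (R i)) ∧ ∀ r, p (z r) = r • n k := by
  refine (gfr_of g).exists_pt h.bt h.co y hx0 ha (A := actL h hx0) (fun x hx => ?_) h0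
  exact (h.fr.p_act ⟨x0, centralizer_le_normalizer _ hx0⟩ x hx).symm

/-- **`KEY`, type (beta)** (and the first half of type (sigma)) -/
theorem eig_first {k l : N} (hkl : sf k l = 0) (hq : q l k = 0)
    {x0 : NR R i} (hx0 : (x0 : G) ∈ centralizer (R i : Set G)) {a : F} (ha : a ≠ 0)
    (h0 : x0 • p (v 0 1) = a • n k) : q k l = 0 := by
  obtain ⟨z, hz1, hz2, hz3⟩ := exists_z g hx0 ha h0
  obtain ⟨ζ, hζ, hζ1⟩ := h.four
  exact (gfr_of g).key_first h.bt h.co y (g := k) (k := l) hkl (fun r => Eig_ks g hkl r)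
    (fun r => sh_sq g r k l) hq hζ hζ1 hz1 hz2 hz3

/-- **`KEY`, type (sigma)** -/
theorem eig_sigma {k : N} (hZ : ∀ l, sf k l = 0) {l0 : N} (hl0 : q l0 k ≠ 0)
    {x0 : NR R i} (hx0 : (x0 : G) ∈ centralizer (R i : Set G)) {a : F} (ha : a ≠ 0)
    (h0 : x0 • p (v 0 1) = a • n k) {m : NR R i} (hm : (m : G) ∈ centralizer (R i : Set G)) {β γ : F}
    (hβ : β ≠ 0) (hγ : γ ≠ 0) (hme : m • p (v 0 1) = β • n k) (hmn : m • n k = γ • p (v 0 1)) (l : N) :
    q k l = 0 := by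
  obtain ⟨z, hz1, hz2, hz3⟩ := exists_z g hx0 ha h0
  obtain ⟨ζ, hζ, hζ1⟩ := h.four
  refine (gfr_of g).key_sigma h.bt h.co y (g := k) hZ (fun l r => Eig_ks g (hZ l) r)
    (fun r k l => sh_sq g r k l) (fun k' l' => ?_) (fun r l => ?_) (fun k' l' => map_add _ _ _)
    hl0 hζ hζ1 hz1 hz2 hz3 hm (A := actL h hm) (fun x hx => ?_) hβ hγ hme hmn l
  · show q (k' + l') k = q k' k + q l' k
    rw [g.q_add, hZ, map_zero, LinearMap.zero_apply, add_zero]
  · show q k (r • l) = r * q k l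
    rw [map_smul, smul_eq_mul]
  · exact (h.fr.p_act ⟨m, centralizer_le_normalizer _ hm⟩ x hx).symm

/-- **`KEY`**: `[M, A_k] ≤ N_k`, the hypothesis of `sigma_main` -/
theorem eig_key {k : N} (hK : ∀ l, sf k l = 0 → q k l = 0) :
    ∀ a : NR R i, (a : G) ∈ UU V R j → (∃ c : F, P2 (a : G) = c • k) → ∀ m, a • m - m ∈
      Ng (p (v 0 1)) n (fun a b => sf a b) k := by
  rintro a ha ⟨c, hc⟩ m
  have : Finite M := Finite.of_surjective (fun x : WW V (R i) => p x) fun m => by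
    obtain ⟨x, hx, e1⟩ := h.fr.p_surj m
    exact ⟨⟨x, hx⟩, e1⟩
  have h1 := (gfr_of g).key_of (g := k) hK (fun l hl r => Eig_ks g hl r) (fun r l => sh_sq g r k l) c m
  rwa [← hc, alp_apply h y ha] at h1

end

end Cfsg.Agent.Omega.Lie.Nodes
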