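import Cfsg.Agent.Omega.Lie.Nodes.AptCnt
import Cfsg.Agent.Omega.Lie.Nodes.KeyInst

/-!
# NODE LIE, residues `(0, j)`: the conjugates of a point opposite to `R i`

`x = u ∈ (V')^ρ`, `u ∉ R j`: `u` acts on `M` as `A_k`, `[M, u] = N_k`, `W i` has at least `q² |Z_k| |Q_k|` conjugates
of `u`.
-/

set_option autoImplicit false
set_option linter.unusedSectionVars false

namespace Cfsg.Agent.Omega.Lie.Nodes

open Subgroup Cfsg.Agent.Omega.BTwo

universe u v w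

variable {G : Type u} [Group G] {ι : Type w} {V : Subgroup G} {R : ι → Subgroup G} {i j : ι} {F : Type v}
  [Field F] {v : F → F → G} {w1 w2 : F → G} {M B : Type u} [AddCommGroup M] [AddCommGroup B]
  [DistribMulAction (NR R i) M] [DistribMulAction (NR R i) B] [Module F M] {p : G → M} {r : G → B}
  {f : M →+ M →+ B} {φ : M →ₗ[F] M →ₗ[F] F} {s : NR R i → (F ≃+* F)} [CharP F 2]
  [Finite G] [Finite F] {h : FMod V R i j v w1 w2 M B p r f φ s} {t : F → G} {τ : Lie.TorD V R i j v t}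
  {N : Type u} [AddCommGroup N] [Module F N] {P1 P2 : G → N} {y : YPair V R i j w1 w2 N P1 P2}
  {n : N →ₗ[F] M} {sf : N →ₗ[F] N →ₗ[F] M} {q : N → N →ₗ[F] F}

variable (V R i j v p P2 n sf) in
/-- `KEY` -/
abbrev KeyH (k : N) : Prop :=
  ∀ a : NR R i, (a : G) ∈ UU V R j → (∃ c : F, P2 (a : G) = c • k) → ∀ m, a • m - m ∈ NK p v n sf k

theorem key_of (_g : Eig h τ y n sf q) {k : N} (key : KeyH V R i j v p P2 n sf k) :
    Key (p (v 0 1)) n (fun a b => sf a b) (alp h y) k := by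
  intro c m
  obtain ⟨a, ha, hak⟩ := exists_ak h y (c • k)
  rw [← hak, alp_apply h y ha]
  exact key a ha ⟨c, hak⟩ m

/-- `N_k ≤ [M, A_k]` -/
theorem exists_range (g : Eig h τ y n sf q) {k : N} (hk : k ≠ 0) (key : KeyH V R i j v p P2 n sf k) {a : NR R i}
    (ha : (a : G) ∈ UU V R j) {c : F} (hc : c ≠ 0) (hac : P2 (a : G) = c • k) {m : M}
    (hm : m ∈ NK p v n sf k) : ∃ m', a • m' - m' = m := by
  have hcen := cen_of_U h y ha
  let T : M →ₗ[F] M :=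
    { toFun := fun x => a • x - x
      map_add' := fun x z => by rw [smul_add]; abel
      map_smul' := fun l x => by rw [act_smul h hcen, RingHom.id_apply, smul_sub] }
  have hT : ∀ x, T x = a • x - x := fun _ => rfl
  -- `e`
  have he : p (v 0 1) ∈ LinearMap.range T := by
    obtain ⟨d, hd, hne⟩ := exists_d0 g hk
    have h1 : T d = (c * φ d (n k)) • p (v 0 1) := by
      rw [hT, g.A_0 a ha d hd, hac, map_smul, map_smul, smul_eq_mul, add_sub_cancel_left]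
    have h2 : p (v 0 1) = (c * φ d (n k))⁻¹ • T d := by
      rw [h1, smul_smul, inv_mul_cancel₀ (mul_ne_zero hc hne), one_smul]
    rw [h2]
    exact Submodule.smul_mem _ _ ⟨d, rfl⟩
  -- `Z`
  have hz : ZK sf k ≤ LinearMap.range T := by
    refine Submodule.span_le.2 ?_
    rintro _ ⟨l, rfl⟩
    have h1 : T (n l) = c • sf k l + q (P2 (a : G)) l • p (v 0 1) := by
      rw [hT, g.A_1 a ha l, hac, map_smul, Eig_symm g l k]; abel
    have h2 : sf k l = c⁻¹ • (T (n l) - q (P2 (a : G)) l • p (v 0 1)) := by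
      rw [h1, add_sub_cancel_right, smul_smul, inv_mul_cancel₀ hc, one_smul]
    show sf k l ∈ _
    rw [h2]
    exact Submodule.smul_mem _ _ (Submodule.sub_mem _ ⟨_, rfl⟩ (Submodule.smul_mem _ _ he))
  -- `n k`
  have hn : n k ∈ LinearMap.range T := by
    set m0 := p (w1 1) with hm0
    have h1 := g.A_top a ha m0
    rw [h.phi_w1 1, one_smul, hac, map_smul] at h1
    obtain ⟨c1, z1, hz1, r1, e1⟩ := mem_NK.1 (key a ha ⟨c, hac⟩ m0)
    rw [e1] at h1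
    obtain ⟨γ, d, hd, e2⟩ := (g.mem_D _).1 h1
    have h3 : (c1 - γ) • p (v 0 1) + (z1 - d) + n ((r1 - c) • k) = 0 := by
      rw [sub_smul, map_smul, sub_smul]
      have : c1 • p (v 0 1) - γ • p (v 0 1) + (z1 - d) + (r1 • n k - c • n k) =
        (c1 • p (v 0 1) + z1 + r1 • n k - c • n k) - (γ • p (v 0 1) + d) := by abel
      rw [this, e2, sub_self]
    obtain ⟨-, -, h4⟩ := g.indep _ _ _ ((h.M0 τ).sub_mem (ZK_le g hz1) hd) h3
    have h5 : r1 = c := sub_eq_zero.1 ((smul_eq_zero.1 h4).resolve_right hk)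
    have h6 : n k = c⁻¹ • (T m0 - c1 • p (v 0 1) - z1) := by
      have h7 : T m0 - c1 • p (v 0 1) - z1 = c • n k := by
        rw [hT, e1, h5]; abel
      rw [h7, smul_smul, inv_mul_cancel₀ hc, one_smul]
    rw [h6]
    exact Submodule.smul_mem _ _ (Submodule.sub_mem _ (Submodule.sub_mem _ ⟨_, rfl⟩ (Submodule.smul_mem _ _ he))
      (hz hz1))
  obtain ⟨c', z, hz', ρ', rfl⟩ := mem_NK.1 hm
  obtain ⟨m', hm'⟩ := Submodule.add_mem _ (Submodule.add_mem _ (Submodule.smul_mem _ c' he) (hz hz'))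
    (Submodule.smul_mem _ ρ' hn)
  exact ⟨m', hm'⟩

/-- `V' ⊓ DZ ≤ R i` -/
theorem VG_inf_DZ (g : Eig h τ y n sf q) {k : N} (hk : k ≠ 0) {x : G} (hx : x ∈ VG g k) (hx' : x ∈ (gfr_of g).DZ k) :
    x ∈ R i := by
  obtain ⟨hW, c, hc⟩ := mem_VG.1 hx
  obtain ⟨c', z, hz, e⟩ := mem_eZ.1 hx'.2
  rw [hc] at e
  have h1 : c' • p (v 0 1) + z + n ((-c) • k) = 0 := by
    rw [map_smul, neg_smul, e]; abel
  obtain ⟨-, -, h2⟩ := g.indep _ _ _ (ZK_le g hz) h1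
  have h3 : c = 0 := neg_eq_zero.1 ((smul_eq_zero.1 h2).resolve_right hk)
  rw [← h.fr.p_ker x hW, hc, h3, zero_smul]

/-- the elements of `W i` over `n l`, `sf k l = 0` -/
theorem exists_Q (g : Eig h τ y n sf q) {k : N} (hk : k ≠ 0) (key : KeyH V R i j v p P2 n sf k) {u : G}
    (hu : u ∈ cj (nn w1 w2 1) ((gfr_of g).SG k)) {c : F} (hc : P2 u = c • k) (a : Qv sf q k) :
    ∃ w ∈ WW V (R i), w * u * w⁻¹ * u⁻¹ = v (c * a) 0 := by
  obtain ⟨a, l, hl, hla⟩ := a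
  obtain ⟨w, hw, hpw⟩ := h.fr.p_surj (n l)
  refine ⟨w, hw, ?_⟩
  have h1 := (gfr_of g).comm_formula h.btc y h.co (key_of g key) hu hw fun z hz => by
    refine ((gfr_of g).fr.comm_iff hw hz.1).2 ?_
    obtain ⟨c', z', hz', ρ', e⟩ := mem_NK.1 (show p z ∈ NK p v n sf k from hz.2)
    rw [hpw, e, map_add, map_add, map_smul, map_smul, g.phi_e1, g.phi_11, smul_zero, smul_zero, zero_add,
      add_zero, h.phi_symm]
    refine Submodule.span_induction (p := fun z _ => φ z (n l) = 0) ?_ ?_ ?_ ?_ hz'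
    · rintro _ ⟨l', rfl⟩
      show φ (sf k l') (n l) = 0
      rw [g.T_23, hl, map_zero, LinearMap.zero_apply]
    · rw [map_zero, LinearMap.zero_apply]
    · intro z z' _ _ hz hz'
      rw [map_add, LinearMap.add_apply, hz, hz', add_zero]
    · intro a' z _ hz
      rw [map_smul, LinearMap.smul_apply, hz, smul_zero]
  have h2 : rco F k (P2 u) = c := by
    have h3 := rco_spec (F := F) (g := k) (x := P2 u) ⟨c, hc⟩
    rw [hc] at h3
    have h4 : (c - rco F k (c • k)) • k = 0 := by rw [sub_smul, ← h3, sub_self]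
    rw [hc]
    exact (sub_eq_zero.1 ((smul_eq_zero.1 h4).resolve_right hk)).symm
  have h3 : nco (p (v 0 1)) (h.M0 τ) n (p w) = l := by
    have h4 := (nfr_of g).nco_eq (c := 0) (d := 0) (h.M0 τ).zero_mem l
    rw [zero_smul, zero_add, zero_add] at h4
    rw [hpw, h4]
  rw [h1, h2, h3]
  show v (c * q l k) 0 = v (c * a) 0
  rw [hla]

/-- **the conjugates of `u`** -/
theorem card_opp (g : Eig h τ y n sf q) {k : N} (hk : k ≠ 0) (key : KeyH V R i j v p P2 n sf k) {u : G}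
    (hu : u ∈ cj (nn w1 w2 1) ((gfr_of g).SG k)) (hu0 : P2 u ≠ 0) {H : Subgroup G}
    (hH : ∀ w ∈ WW V (R i), w ∈ H → w * u = u * w) :
    Nat.card F * ((Nat.card (ZK sf k) * Nat.card (Qv sf q k)) * Nat.card F) ≤ H.relIndex (WW V (R i)) := by
  obtain ⟨huU, c, hc⟩ := (gfr_of g).mem_cj_SG h.bt y h.co hu
  have hc0 : c ≠ 0 := by
    rintro rfl
    exact hu0 (by rw [hc, zero_smul])
  have hN : u ∈ normalizer (R i : Set G) := h.bt.cen_le_N i (UU_le_cen j huU)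
  have hWn := normalizer_le_WW V (R i) hN
  have hw1 : ∀ x : (F × ZK sf k) × F, ∃ w ∈ WW V (R i),
      (⟨u, hN⟩ : NR R i) • p w - p w = x.1.1 • p (v 0 1) + x.1.2 + x.2 • n k := by
    intro x
    obtain ⟨m', hm'⟩ := exists_range g hk key (a := ⟨u, hN⟩) huU hc0 hc
      (mem_NK.2 ⟨x.1.1, x.1.2, x.1.2.2, x.2, rfl⟩)
    obtain ⟨w, hw, rfl⟩ := h.fr.p_surj m'
    exact ⟨w, hw, hm'⟩
  choose f1 hf1 hf1' using hw1
  choose f2 hf2 hf2' using fun a : Qv sf q k => exists_Q g hk key hu hc a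
  have hcard : Nat.card (((F × ZK sf k) × F) × Qv sf q k) =
      Nat.card F * ((Nat.card (ZK sf k) * Nat.card (Qv sf q k)) * Nat.card F) := by
    rw [Nat.card_prod, Nat.card_prod, Nat.card_prod]; ring
  rw [← hcard]
  refine card_le_relIndex (fun x => f1 x.1 * f2 x.2) (fun x => mul_mem (hf1 _) (hf2 _)) fun x x' hx => ?_
  have hxW : (f1 x.1 * f2 x.2)⁻¹ * (f1 x'.1 * f2 x'.2) ∈ WW V (R i) :=
    mul_mem (inv_mem (mul_mem (hf1 _) (hf2 _))) (mul_mem (hf1 _) (hf2 _))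
  have h1 := hH _ hxW hx
  have h2 : (f1 x.1 * f2 x.2) * u * (f1 x.1 * f2 x.2)⁻¹ = (f1 x'.1 * f2 x'.2) * u * (f1 x'.1 * f2 x'.2)⁻¹ := by
    calc (f1 x.1 * f2 x.2) * u * (f1 x.1 * f2 x.2)⁻¹
        = (f1 x.1 * f2 x.2) * (u * ((f1 x.1 * f2 x.2)⁻¹ * (f1 x'.1 * f2 x'.2))) *
          (f1 x'.1 * f2 x'.2)⁻¹ := by group
      _ = (f1 x.1 * f2 x.2) * ((f1 x.1 * f2 x.2)⁻¹ * (f1 x'.1 * f2 x'.2) * u) *
          (f1 x'.1 * f2 x'.2)⁻¹ := by rw [h1]
      _ = _ := by group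
  have hWR : ∀ w ∈ WW V (R i), ∀ β, w * v β 0 * w⁻¹ = v β 0 := fun w hw β => by
    rw [h.bt.QR i w (h.bt.W_le_Q i hw) _ ((h.co.mem_R1 _).2 ⟨β, rfl⟩), mul_inv_cancel_right]
  have h3 : ∀ x : ((F × ZK sf k) × F) × Qv sf q k, (f1 x.1 * f2 x.2) * u * (f1 x.1 * f2 x.2)⁻¹ =
      v (c * x.2) 0 * (f1 x.1 * u * (f1 x.1)⁻¹ * u⁻¹) * u := by
    intro x
    calc (f1 x.1 * f2 x.2) * u * (f1 x.1 * f2 x.2)⁻¹
        = (f1 x.1 * (f2 x.2 * u * (f2 x.2)⁻¹ * u⁻¹) * (f1 x.1)⁻¹) * (f1 x.1 * u * (f1 x.1)⁻¹ * u⁻¹) * u := by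
          group
      _ = _ := by rw [hf2', hWR _ (hf1 _)]
  rw [h3, h3] at h2
  have h4 := mul_right_cancel h2
  -- apply `p`
  have h5 : ∀ x : (F × ZK sf k) × F, f1 x * u * (f1 x)⁻¹ * u⁻¹ ∈ WW V (R i) ∧
      p (f1 x * u * (f1 x)⁻¹ * u⁻¹) = -(x.1.1 • p (v 0 1) + x.1.2 + x.2 • n k) := by
    intro x
    have hx1 := BTwo.conj_mem_of_normalizer hWn (hf1 x)
    have e1 : f1 x * u * (f1 x)⁻¹ * u⁻¹ = f1 x * (u * f1 x * u⁻¹)⁻¹ := by group
    refine ⟨by rw [e1]; exact mul_mem (hf1 x) (inv_mem hx1), ?_⟩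
    rw [(gfr_of g).fr.q_comm (hf1 x) hx1, ← h.fr.p_act ⟨u, hN⟩ _ (hf1 x), ← hf1' x, neg_sub]
  have h6 : ∀ β, v β 0 ∈ WW V (R i) := fun β => V_le_WW V (R i) (h.co.v_mem β 0)
  have h7 := congrArg p h4
  have hp0 : ∀ β, p (v β 0) = 0 := fun β => by rw [h.p_v, zero_smul]
  rw [h.fr.p_mul _ (h6 _) _ (h5 _).1, h.fr.p_mul _ (h6 _) _ (h5 _).1, hp0, hp0, zero_add, zero_add,
    (h5 _).2, (h5 _).2, neg_inj] at h7
  obtain ⟨h8, h9, h10⟩ := NK_uniq g hk x.1.1.2.2 x'.1.1.2.2 h7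
  have h11 : x.1 = x'.1 := Prod.ext (Prod.ext h8 (Subtype.ext h9)) h10
  rw [h11] at h4
  have h12 := (h.co.v_inj (mul_right_cancel h4)).1
  exact Prod.ext h11 (Subtype.ext (mul_left_cancel₀ hc0 h12))

end Cfsg.Agent.Omega.Lie.Nodes
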