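import Cfsg.Agent.Omega.Lie.Nodes.AptR

/-!
# NODE LIE, residues `(0, j)`: the opposite point and the apartment

`NodeDat.exists_apt`: the apartment data `AptData` from a node of type `x = n k`.
-/

set_option autoImplicit false
set_option linter.unusedSectionVars false

namespace Cfsg.Agent.Omega.Lie.Nodes

open Subgroup Cfsg.Agent.Omega.BTwo

universe u v w

variable {G : Type u} [Group G] {ι : Type w} {V : Subgroup G} {R : ι → Subgroup G} {i j : ι} {F : Type v}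
  [Field F] {v : F → F → G} {w1 w2 : F → G} {M B : Type u} [AddCommGroup M] [AddCommGroup B]
  [DistribMulAction (NR R i) M] [DistribMulAction (NR R i) B] [Module F M] {p : G → M} {r : G → B}
  {f : M →+ M →+ B} {φ : M →ₗ[F] M →ₗ[F] F} {s : NR R i → (F ≃+* F)} [CharP F 2]
  [Finite G] [Finite F] {h : FMod V R i j v w1 w2 M B p r f φ s} {t : F → G} {τ : Lie.TorD V R i j v t}
  {N : Type u} [AddCommGroup N] [Module F N] {P1 P2 : G → N} {y : YPair V R i j w1 w2 N P1 P2}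
  {n : N →ₗ[F] M} {sf : N →ₗ[F] N →ₗ[F] M} {q : N → N →ₗ[F] F}

/-- the properties of the swap -/
structure RDat (V : Subgroup G) (R : ι → Subgroup G) (i j : ι) (v : F → F → G) (w1 w2 t : F → G) (a : Fˣ)
    (x : G) : Prop where
  y0 : ∃ y0 ∈ YY V R, x = nn w1 w2 1 * y0
  X : x ∈ XX V R
  ri : cj x (R i) = R j
  rj : cj x (R j) = R i
  inv : x⁻¹ * t a * x = (t a)⁻¹
  act : ∀ b c, x * v b c * x⁻¹ = v c b
  V : cj x V = V

section D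

/-- `D` does not centralise `n k` -/
theorem exists_d0 (g : Eig h τ y n sf q) {k : N} (hk : k ≠ 0) : ∃ d ∈ h.M0 τ, φ d (n k) ≠ 0 := by
  by_contra hcon
  push Not at hcon
  have h1 : n k ∈ Submodule.span F {p (v 0 1)} := by
    have : Finite M := Finite.of_surjective (fun x : WW V (R i) => p x) fun m => by
      obtain ⟨x, hx, e1⟩ := h.fr.p_surj m
      exact ⟨⟨x, hx⟩, e1⟩
    refine (nfr_of g).perp_perp _ _ fun m' hm' => ?_
    have h2 := hm' _ (Submodule.mem_span_singleton_self _)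
    obtain ⟨γ, d, hd, l, rfl⟩ := (g.mem_U m').1 h2
    rw [map_add, map_add, map_smul, g.phi_e1, g.phi_11, h.phi_symm, hcon d hd, smul_zero, add_zero, add_zero]
  obtain ⟨c, hc⟩ := Submodule.mem_span_singleton.1 h1
  have h2 : (-c) • p (v 0 1) + 0 + n k = 0 := by rw [← hc, neg_smul]; abel
  exact hk (g.indep _ _ _ (h.M0 τ).zero_mem h2).2.2

theorem exists_d (g : Eig h τ y n sf q) {k : N} (hk : k ≠ 0) (c : F) : ∃ d ∈ DD V R, φ (p d) (n k) = c := by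
  obtain ⟨d0, hd0, hne⟩ := exists_d0 g hk
  have h1 : (c * (φ d0 (n k))⁻¹) • d0 ∈ h.M0 τ := (h.M0 τ).smul_mem _ hd0
  obtain ⟨d, hd, hdW, e⟩ := h.M0_le τ y h1
  refine ⟨d, hd, ?_⟩
  rw [e, map_smul, LinearMap.smul_apply, smul_eq_mul, mul_assoc, inv_mul_cancel₀ hne, mul_one]

/-- conjugation of `V'` by elements of `W i` -/
theorem conj_VG {g : Eig h τ y n sf q} {k : N} {d d' : G} (hd : d ∈ WW V (R i)) (hd' : d' ∈ WW V (R i))
    (he : φ (p d) (n k) = φ (p d') (n k)) {x : G} (hx : x ∈ VG g k) : d * x * d⁻¹ = d' * x * d'⁻¹ := by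
  obtain ⟨hW, c, hc⟩ := mem_VG.1 hx
  have h1 := h.comm_eq hd hW
  have h2 := h.comm_eq hd' hW
  rw [hc, map_smul, he, ← map_smul, ← hc, ← h2] at h1
  exact mul_right_cancel h1

/-- `D` is transitive on the points `≠ R i` of `V'` -/
theorem trD (g : Eig h τ y n sf q) {k : N} (hk : k ≠ 0) {m : G} (hm : m ∈ centralizer (R i : Set G))
    (hmV : cj m V = VG g k) {l l' : ι} (hl : l ≠ i) (hl' : l' ≠ i) :
    ∃ d ∈ DD V R, cj d (cj m (R l)) = cj m (R l') := by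
  obtain ⟨w, hw, e⟩ := h.bt.trans i hl hl'
  have hw' : m * w * m⁻¹ ∈ WW V (R i) :=
    conj_mem_of_normalizer (normalizer_le_WW V (R i) (centralizer_le_normalizer _ hm)) hw
  obtain ⟨d, hd, e1⟩ := exists_d g hk (φ (p (m * w * m⁻¹)) (n k))
  refine ⟨d, hd, ?_⟩
  have h1 : cj (m * w * m⁻¹) (cj m (R l)) = cj m (R l') := by
    rw [← cj_mul, inv_mul_cancel_right, cj_mul, e]
  rw [← h1]
  ext x
  have hle : cj m (R l) ≤ VG g k := by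
    rw [← hmV]
    exact cj_mono (h.bt.R_le l)
  have hdW := D_le_W V R i hd
  have key : ∀ u ∈ cj m (R l), d * u * d⁻¹ = m * w * m⁻¹ * u * (m * w * m⁻¹)⁻¹ := fun u hu =>
    conj_VG hdW hw' e1 (hle hu)
  constructor
  · rintro ⟨u, hu, rfl⟩
    exact ⟨u, hu, (key u hu).symm⟩
  · rintro ⟨u, hu, rfl⟩
    exact ⟨u, hu, key u hu⟩

/-- `C_{V'}(D) = R i` -/
theorem fixD (g : Eig h τ y n sf q) {k : N} (hk : k ≠ 0) {x : G} (hx : x ∈ VG g k)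
    (hc : ∀ d ∈ DD V R, d * x = x * d) : x ∈ R i := by
  obtain ⟨hW, c, e⟩ := mem_VG.1 hx
  obtain ⟨d, hd, e1⟩ := exists_d g hk 1
  have h1 := h.comm_eq (D_le_W V R i hd) hW
  rw [e, map_smul, e1, hc d hd] at h1
  have h2 : x * d * d⁻¹ * x⁻¹ = 1 := by group
  rw [h2, smul_eq_mul, mul_one] at h1
  have h3 := (h.co.v_one _ _ h1.symm).1
  rw [← h.fr.p_ker x hW, e, h3, zero_smul]

end D

namespace TauDat

variable {g : Eig h τ y n sf q} {k : N} {P O : Subgroup G} {a : Fˣ} {x : G} (D : TauDat g k P O a x)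
  {ρ : G} (E : RDat V R i j v w1 w2 t a ρ)
include D E

theorem conj_cen (ha : (a : F) ≠ 1) : ρ⁻¹ * x * ρ ∈ centralizer (R i : Set G) := by
  rw [mem_centralizer_iff]
  intro u hu
  obtain ⟨β, rfl⟩ := (h.co.mem_R1 u).1 hu
  have h1 : ρ⁻¹ * x * ρ * v β 0 * (ρ⁻¹ * x * ρ)⁻¹ = ρ⁻¹ * (x * (ρ * v β 0 * ρ⁻¹) * x⁻¹) * ρ := by group
  rw [E.act, (D.Rj ha).2, ← E.act β 0] at h1
  have h2 : ρ⁻¹ * (ρ * v β 0 * ρ⁻¹) * ρ = v β 0 := by group
  rw [h2, mul_inv_eq_iff_eq_mul] at h1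
  exact h1.symm

/-- **`τ₁` on the line `V₂' = (V')^ρ`** -/
theorem act_VG (ha : (a : F) ≠ 1) (hk : k ≠ 0) {w : G} (hw : w ∈ VG g k) :
    p (ρ⁻¹ * x * ρ * w * (ρ⁻¹ * x * ρ)⁻¹) = ((a : F)⁻¹ * (a : F)⁻¹) • p w := by
  set S := (gfr_of g).SG k with hS
  obtain ⟨hwW, c, hc⟩ := mem_VG.1 hw
  set T := ρ⁻¹ * x * ρ with hT
  have hTC : T ∈ centralizer (R i : Set G) := D.conj_cen E ha
  have hTR : T ∈ normalizer (R i : Set G) := centralizer_le_normalizer _ hTC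
  have hTW : T * w * T⁻¹ ∈ WW V (R i) := conj_mem_of_normalizer (normalizer_le_WW V (R i) hTR) hwW
  -- `T` commutes with `t a`
  have hTt : T * t a = t a * T := by
    have e1 : t a = ρ⁻¹ * (t a)⁻¹ * ρ := by
      have e2 : ρ⁻¹ * (t a)⁻¹ * ρ = (ρ⁻¹ * t a * ρ)⁻¹ := by group
      rw [e2, E.inv, inv_inv]
    have e3 : x * (t a)⁻¹ = (t a)⁻¹ * x := by
      have := D.comm
      calc x * (t a)⁻¹ = (t a)⁻¹ * (t a * x) * (t a)⁻¹ := by group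
        _ = (t a)⁻¹ * (x * t a) * (t a)⁻¹ := by rw [this]
        _ = (t a)⁻¹ * x := by group
    calc T * t a = ρ⁻¹ * x * ρ * (ρ⁻¹ * (t a)⁻¹ * ρ) := by rw [← e1]
      _ = ρ⁻¹ * (x * (t a)⁻¹) * ρ := by group
      _ = ρ⁻¹ * ((t a)⁻¹ * x) * ρ := by rw [e3]
      _ = (ρ⁻¹ * (t a)⁻¹ * ρ) * T := by rw [hT]; group
      _ = t a * T := by rw [← e1]
  -- `y = w^ρ ∈ Σ`
  set u := ρ * w * ρ⁻¹ with hu
  have hcjS : cj ρ S = cj (nn w1 w2 1) S := by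
    obtain ⟨y0, hy0, e⟩ := E.y0
    rw [e, cj_mul, cj_eq_self_iff.2 ((gfr_of g).Y_norm_SG h.bt h.co.ne k hy0)]
  have huS : u ∈ cj (nn w1 w2 1) S := by
    rw [← hcjS]
    exact conj_mem_cj (VG_le_SG g k hw)
  have huT : u ∈ Sig g k := (le_sup_right : cj (nn w1 w2 1) S ≤ _) huS
  have huW : u ∈ WW V (R j) := cj_SG_le g k (h.co.nn_R1 h.bt one_ne_zero) huS
  have hxj : x ∈ normalizer (WW V (R j) : Set G) :=
    normalizer_le_WW V (R j) (cj_eq_self_iff.1 (D.Rj ha).1)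
  have htj : t a * t a ∈ normalizer (WW V (R j) : Set G) :=
    mul_mem (normalizer_le_WW V (R j) (τ.normR' a.ne_zero)) (normalizer_le_WW V (R j) (τ.normR' a.ne_zero))
  -- the difference
  set z := x * u * x⁻¹ * (t a * t a * u * (t a * t a)⁻¹)⁻¹ with hz
  have hzS : z ∈ S := D.qm.eq u huT
  have hzD : z ∈ DD V R := by
    rw [h.bt.D_eq' h.co.ne]
    exact mem_inf.2 ⟨hzS.1, mul_mem (conj_mem_of_normalizer hxj huW) (inv_mem (conj_mem_of_normalizer htj huW))⟩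
  have hzZ : ρ⁻¹ * z * ρ ∈ (gfr_of g).DZ k :=
    conj_inv_mem_of_normalizer (X_DZ g k E.X) (DD_inf_SG g k hzD hzS hk)
  -- `t a` inverse action
  have htt : ρ⁻¹ * (t a * t a * u * (t a * t a)⁻¹) * ρ = (t a)⁻¹ * ((t a)⁻¹ * w * (t a)⁻¹⁻¹) * (t a)⁻¹⁻¹ := by
    rw [← E.inv, hu]; group
  have e1 : T * w * T⁻¹ = (ρ⁻¹ * z * ρ) * ((t a)⁻¹ * ((t a)⁻¹ * w * (t a)⁻¹⁻¹) * (t a)⁻¹⁻¹) := by
    rw [← htt, hz, hT, hu]; group
  have htiR : (t a)⁻¹ ∈ normalizer (WW V (R i) : Set G) :=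
    inv_mem (normalizer_le_WW V (R i) (τ.normR a.ne_zero))
  have hw1 : (t a)⁻¹ * w * (t a)⁻¹⁻¹ ∈ WW V (R i) := conj_mem_of_normalizer htiR hwW
  have hw2 : (t a)⁻¹ * ((t a)⁻¹ * w * (t a)⁻¹⁻¹) * (t a)⁻¹⁻¹ ∈ WW V (R i) := conj_mem_of_normalizer htiR hw1
  have hp1 : ∀ c' : F, ∀ w' ∈ WW V (R i), p w' = c' • n k → p ((t a)⁻¹ * w' * (t a)⁻¹⁻¹) = (c' * (a : F)⁻¹) • n k := by
    intro c' w' hw' e
    have h1 := h.fr.p_act (tT τ a)⁻¹ w' hw'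
    have h2 : (((tT τ a)⁻¹ : NR R i) : G) = (t a)⁻¹ := rfl
    rw [h2] at h1
    rw [← h1, e, inv_smul_eq_iff, h.T_lin τ, g.n_mem k a, smul_smul, mul_assoc, inv_mul_cancel₀ a.ne_zero,
      mul_one]
  have hp2 := hp1 _ _ hw1 (hp1 _ _ hwW hc)
  have e2 : p (T * w * T⁻¹) = p (ρ⁻¹ * z * ρ) + (c * (a : F)⁻¹ * (a : F)⁻¹) • n k := by
    rw [e1, h.fr.p_mul _ hzZ.1 _ hw2, hp2]
  obtain ⟨γ, d, hd, e3⟩ := mem_eZ.1 hzZ.2
  have e4 : p (ρ⁻¹ * z * ρ) = γ • p (v 0 1) + d := e3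
  -- eigenvector
  have e5 : p (T * w * T⁻¹) = (⟨T, hTR⟩ : NR R i) • p w := (h.fr.p_act ⟨T, hTR⟩ w hwW).symm
  have hcm : (⟨T, hTR⟩ : NR R i) * tT τ a = tT τ a * ⟨T, hTR⟩ := Subtype.ext hTt
  have e6 : tT τ a • p (T * w * T⁻¹) = (a : F) • p (T * w * T⁻¹) := by
    rw [e5, ← mul_smul, ← hcm, mul_smul, hc, h.T_lin τ, g.n_mem k a]
    rw [act_smul h (g := ⟨T, hTR⟩) hTC, act_smul h (g := ⟨T, hTR⟩) hTC, act_smul h (g := ⟨T, hTR⟩) hTC,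
      smul_comm]
  obtain ⟨l, hl⟩ := eig_a g ha e6
  rw [e4] at e2
  have h5 : γ • p (v 0 1) + d + n ((c * (a : F)⁻¹ * (a : F)⁻¹) • k - l) = 0 := by
    rw [map_sub, map_smul, ← hl, e2]; abel
  obtain ⟨h6, h7, -⟩ := g.indep _ _ _ (ZK_le g hd) h5
  rw [e2, h6, h7, zero_smul, zero_add, zero_add, hc, smul_smul]
  congr 1
  ring

/-- `τ₁` normalises `V₂'` -/
theorem norm_VG (ha : (a : F) ≠ 1) (hk : k ≠ 0) : ρ⁻¹ * x * ρ ∈ normalizer (VG g k : Set G) := by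
  apply mem_normalizer_of_conj
  intro w hw
  obtain ⟨hwW, c, hc⟩ := mem_VG.1 hw
  refine mem_VG.2 ⟨conj_mem_of_normalizer (normalizer_le_WW V (R i)
    (centralizer_le_normalizer _ (D.conj_cen E ha))) hwW, ((a : F)⁻¹ * (a : F)⁻¹) * c, ?_⟩
  rw [D.act_VG E ha hk hw, hc, smul_smul]

/-- no fixed points outside `R j` on `V₂'` -/
theorem fix_VG (ha : (a : F) ≠ 1) (hk : k ≠ 0) {u : G} (hu : u ∈ cj ρ (VG g k)) (hx : x * u * x⁻¹ = u) :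
    u ∈ R j := by
  have hw := mem_cj.1 hu
  set w := ρ⁻¹ * u * ρ with hw'
  obtain ⟨hwW, c, hc⟩ := mem_VG.1 hw
  have h1 := D.act_VG E ha hk hw
  have e1 : ρ⁻¹ * x * ρ * w * (ρ⁻¹ * x * ρ)⁻¹ = w := by
    calc ρ⁻¹ * x * ρ * w * (ρ⁻¹ * x * ρ)⁻¹ = ρ⁻¹ * (x * u * x⁻¹) * ρ := by rw [hw']; group
      _ = w := by rw [hx]
  rw [e1, hc, smul_smul] at h1
  have h2 : ((1 - (a : F)⁻¹ * (a : F)⁻¹) * c) • n k = 0 := by
    rw [sub_mul, one_mul, sub_smul, ← h1, sub_self]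
  have h3 : n (((1 - (a : F)⁻¹ * (a : F)⁻¹) * c) • k) = 0 := by rw [map_smul, h2]
  have h4 : (0 : F) • p (v 0 1) + 0 + n (((1 - (a : F)⁻¹ * (a : F)⁻¹) * c) • k) = 0 := by
    rw [h3, zero_smul, add_zero, add_zero]
  have h5 := (smul_eq_zero.1 (g.indep _ _ _ (h.M0 τ).zero_mem h4).2.2).resolve_right hk
  have h6 : 1 - (a : F)⁻¹ * (a : F)⁻¹ ≠ 0 := by
    intro h7
    apply h.sub_inv_ne a.ne_zero ha
    have h8 : (a : F) * (1 - (a : F)⁻¹ * (a : F)⁻¹) = a - (a : F)⁻¹ := by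
      rw [mul_sub, mul_one, ← mul_assoc, mul_inv_cancel₀ a.ne_zero, one_mul]
    rw [← h8, h7, mul_zero]
  have h7 : c = 0 := (mul_eq_zero.1 h5).resolve_left h6
  have h8 : w ∈ R i := by rw [← h.fr.p_ker w hwW, hc, h7, zero_smul]
  have h9 := conj_mem_cj (g := ρ) h8
  rw [E.ri] at h9
  rwa [hw', show ρ * (ρ⁻¹ * u * ρ) * ρ⁻¹ = u by group] at h9

end TauDat

end Cfsg.Agent.Omega.Lie.Nodes
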