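import Cfsg.Agent.Omega.Lie.Nodes.AptOpp

/-!
# NODE LIE, residues `(0, j)`: the quadrangle `QuadN` for the types `(sigma)` and `(beta)`

* `ParDat` : the parabolic `Pb` of the node, `B ≤ Pb`;
* `NodeDat.quadN` : `QuadN B (X B) Pb (R i) V (SG k) (W i) ..`.
-/

set_option autoImplicit false
set_option linter.unusedSectionVars false

namespace Cfsg.Agent.Omega.Lie.Nodes

open Subgroup Cfsg.Agent.Omega.BTwo
open scoped Pointwise

universe u v w

variable {G : Type u} [Group G] {ι : Type w} {V : Subgroup G} {R : ι → Subgroup G} {i j : ι} {F : Type v}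
  [Field F] {v : F → F → G} {w1 w2 : F → G} {M B : Type u} [AddCommGroup M] [AddCommGroup B]
  [DistribMulAction (NR R i) M] [DistribMulAction (NR R i) B] [Module F M] {p : G → M} {r : G → B}
  {f : M →+ M →+ B} {φ : M →ₗ[F] M →ₗ[F] F} {s : NR R i → (F ≃+* F)} [CharP F 2]
  [Finite G] [Finite F] {h : FMod V R i j v w1 w2 M B p r f φ s} {t : F → G} {τ : Lie.TorD V R i j v t}
  {N : Type u} [AddCommGroup N] [Module F N] {P1 P2 : G → N} {y : YPair V R i j w1 w2 N P1 P2}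
  {n : N →ₗ[F] M} {sf : N →ₗ[F] N →ₗ[F] M} {q : N → N →ₗ[F] F}

/-- the hypotheses on the parabolic `Pb` of the node -/
structure ParDat (g : Eig h τ y n sf q) (k : N) (P Bo U Pb : Subgroup G) : Prop where
  zero : Zero.Dat V R i Bo U
  le : Bo ≤ Pb
  PP : P ≤ Pb
  PR : Pb ≤ normalizer (R i : Set G)
  PS : Pb ≤ normalizer ((gfr_of g).SG k : Set G)
  PV : Pb ⊓ normalizer (V : Set G) ≤ Bo
  tr : ∀ x ∈ Pb, x ∉ Bo → ∃ u ∈ UU V R j, cj x V = cj u (VG g k)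

namespace ParDat

variable {g : Eig h τ y n sf q} {k : N} {P Bo U Pb : Subgroup G} (D : ParDat g k P Bo U Pb)
include D

/-- **there are no triangles** -/
theorem bV (hk : k ≠ 0) {x : G} (hx : x ∈ Pb) (hxB : x ∉ Bo) {z : G} (hz : z ∈ Zero.P0 V R Bo) (hzB : z ∉ Bo)
    {a : G} (ha : a ∈ V) {w : G} (hw : w ∈ (gfr_of g).SG k) (e : x * a * x⁻¹ = z * w * z⁻¹) :
    x * a * x⁻¹ ∈ R i := by
  obtain ⟨u, hu, hxu⟩ := D.tr x hx hxB
  have hX : x * a * x⁻¹ ∈ cj u (VG g k) := by rw [← hxu]; exact conj_mem_cj ha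
  have huY := UU_le_YY j hu
  have huS := cj_eq_self_iff.2 ((gfr_of g).Y_norm_SG h.bt h.co.ne k huY)
  have hXS : x * a * x⁻¹ ∈ (gfr_of g).SG k := by
    rw [← huS]
    exact cj_mono (VG_le_SG g k) hX
  -- `x a x⁻¹ ∈ W l`
  obtain ⟨l, hl, el⟩ := (Zero.not_mem_B_iff h.bt D.zero hz).1 hzB
  have h1 : x * a * x⁻¹ ∈ WW V (R l) := by
    rw [e, ← h.bt.cj_WW el]
    exact conj_mem_cj hw.1
  have h2 : x * a * x⁻¹ ∈ DD V R := by
    rw [h.bt.D_eq' hl.symm]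
    exact mem_inf.2 ⟨hXS.1, h1⟩
  have h3 : x * a * x⁻¹ ∈ (gfr_of g).DZ k := DD_inf_SG g k h2 hXS hk
  have h4 : u⁻¹ * (x * a * x⁻¹) * u ∈ (gfr_of g).DZ k :=
    conj_inv_mem_of_normalizer (X_DZ g k (YY_le_XX huY)) h3
  have h5 := VG_inf_DZ g hk (mem_cj.1 hX) h4
  have h6 := conj_mem_of_normalizer (h.bt.cen_le_N i (UU_le_cen j hu)) h5
  rwa [show u * (u⁻¹ * (x * a * x⁻¹) * u) * u⁻¹ = x * a * x⁻¹ by group] at h6

theorem quad (hk : k ≠ 0) : ParSys.Quad Bo (Zero.P0 V R Bo) Pb (R i) V ((gfr_of g).SG k) where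
  leA := le_sup_right
  leB := D.le
  inf := fun x hx => Zero.mem_B h.bt D.zero (mem_inf.1 hx).1 (D.PR (mem_inf.1 hx).2)
  aV := fun x hx a ha => conj_mem_of_normalizer (Zero.P0_le h.bt D.zero hx) ha
  bR := fun x hx a ha => conj_mem_of_normalizer (D.PR hx) ha
  bW := fun x hx a ha => conj_mem_of_normalizer (D.PS hx) ha
  RV := h.bt.R_le i
  VW := (gfr_of g).V_le_SG h.bt h.co.mem_V k
  ne := ⟨v 1 0, (h.co.mem_R1 _).2 ⟨1, rfl⟩, fun e => one_ne_zero (h.co.v_one _ _ e).1⟩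
  aR := fun x hx hxB a ha he => by
    obtain ⟨l, hl, el⟩ := (Zero.not_mem_B_iff h.bt D.zero hx).1 hxB
    have h1 : x * a * x⁻¹ ∈ R l := by rw [← el]; exact conj_mem_cj ha
    have h2 : x * a * x⁻¹ = 1 := h.bt.eq_one hl h1 he
    rwa [mul_inv_eq_one, mul_eq_left] at h2
  bV := fun x hx hxB z hz hzB a ha w hw e => D.bV hk hx hxB hz hzB ha hw e

end ParDat

namespace NodeDat

variable {g : Eig h τ y n sf q} {k : N} {P O Bo U Pb : Subgroup G} (d : NodeDat g k P O)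
include d

/-- **The quadrangle of a node of type `(sigma)` or `(beta)`.** -/
theorem quadN {m0 : NR R i} {β γ : F} (sw : SwapM h n sf k m0 β γ) (hm0 : (m0 : G) ∈ P)
    (key : KeyH V R i j v p P2 n sf k) (D : ParDat g k P Bo U Pb) :
    ∃ n0 m : G, n0 ∈ XX V R ∧ cj n0 (R i) = R j ∧ m ∈ P ∧ cj m V = VG g k ∧
      ParSys.QuadN Bo (Zero.P0 V R Bo) Pb (R i) V ((gfr_of g).SG k) (WW V (R i)) n0 m m m n0 m n0 := by
  obtain ⟨ρ, m, l, A, hmP, hmV, hmVG, hact, hcjS⟩ := d.exists_apt sw hm0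
  obtain ⟨n0, hn0X, hn0, hsw1, hsw2, hopp⟩ := A.exists_n h.bt
  have hk := d.k0
  have hq := D.quad hk
  have hn0P : n0 ∈ Zero.P0 V R Bo := (le_sup_left : XX V R ≤ _) hn0X
  have hn0B : n0 ∉ Bo := (Zero.not_mem_B_iff h.bt D.zero hn0P).2 ⟨j, h.co.ne.symm, hn0⟩
  have hmPb : m ∈ Pb := D.PP hmP
  have hVV : V ≠ VG g k := by
    intro e
    have h1 : VG g k ≤ DD V R := by rw [← e]; exact V_le_D V R
    -- `n k ∈ D̄`
    obtain ⟨w, hw, hpw⟩ := h.fr.p_surj (n k)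
    have h2 : w ∈ VG g k := mem_VG.2 ⟨hw, 1, by rw [one_smul, hpw]⟩
    have h3 : (1 : F) • n k ∈ h.fr.sb (DD V R) := by
      rw [one_smul, ← hpw]
      exact h.fr.p_mem hw (h1 h2)
    exact one_ne_zero (n_notMem_D g hk h3)
  have hmB : m ∉ Bo := fun hB => hVV (by rw [← hmV, cj_eq_self_iff.2 (D.zero.BV hB)])
  refine ⟨n0, m, hn0X, hn0, hmP, hmV, ?_⟩
  -- the opposite point
  have hmi : cj m (R i) = R i := cj_eq_self_iff.2 (centralizer_le_normalizer _ (d.PR hmP))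
  set p2 := cj (ρ * m) (R l) with hp2
  have hp2V : p2 ≤ cj ρ (VG g k) := by
    rw [hp2, cj_mul, ← hmV]
    exact cj_mono (cj_mono (h.bt.R_le l))
  have hp2S : p2 ≤ cj (nn w1 w2 1) ((gfr_of g).SG k) := by
    refine hp2V.trans ?_
    rw [← hcjS]
    exact cj_mono (VG_le_SG g k)
  have hp2D : ∀ x ∈ p2, x ∈ DD V R → x = 1 := by
    intro x hx hxD
    have h1 := mem_cj.1 (hp2V hx)
    have h2 : ρ⁻¹ * x * ρ ∈ DD V R := conj_inv_mem_of_normalizer (h.bt.NV_le_ND (h.bt.X_le_NV A.r_mem)) hxD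
    have h3 := VG_inf_DZ g hk h1 (DD_inf_SG g k h2 (VG_le_SG g k h1) hk)
    have h4 : x ∈ R j := by
      rw [← A.ri, mem_cj]
      exact h3
    have h5 : x ∈ cj (ρ * m) (R i) := by rw [A.rm h.bt]; exact h4
    have h6 : x ∈ p2 ⊓ cj (ρ * m) (R i) := mem_inf.2 ⟨hx, h5⟩
    rw [hp2, ← cj_inf, h.bt.R_inf l i A.ki, cj_bot] at h6
    exact mem_bot.1 h6
  have hp2ne : ∃ u ∈ p2, u ≠ 1 := by
    obtain ⟨z, hz, e1⟩ := h.bt.trans_X_one i l
    refine ⟨ρ * m * (z * v 1 0 * z⁻¹) * (ρ * m)⁻¹, ?_, fun e => ?_⟩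
    · rw [hp2, ← e1]
      exact conj_mem_cj (conj_mem_cj ((h.co.mem_R1 _).2 ⟨1, rfl⟩))
    · rw [mul_inv_eq_one, mul_eq_left, mul_inv_eq_one, mul_eq_left] at e
      exact one_ne_zero (h.co.v_one _ _ e).1
  obtain ⟨u, hu, hu1⟩ := hp2ne
  have huU := ((gfr_of g).mem_cj_SG h.bt y h.co (hp2S hu)).1
  have hu0 : P2 u ≠ 0 := by
    intro e
    have hY := UU_le_YY j huU
    exact hu1 (hp2D u hu ((y.mem_D u hY).2 ⟨(y.mem_U2 u hY).1 huU, e⟩))
  have hH : ∀ w ∈ WW V (R i), w ∈ (MulAut.conj (n0 * m * n0) • Pb : Subgroup G) → w * u = u * w := by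
    intro w hw hwP
    rw [mem_pointwise_smul_iff_inv_smul_mem, MulAut.smul_def, MulAut.conj_inv_apply] at hwP
    have h1 : cj w p2 = p2 := by
      rw [← hopp, ← cj_mul]
      have e : w * (n0 * m * n0) = (n0 * m * n0) * ((n0 * m * n0)⁻¹ * w * (n0 * m * n0)) := by group
      rw [e, cj_mul, cj_eq_self_iff.2 (D.PR hwP)]
    have h2 : w * u * w⁻¹ * u⁻¹ ∈ p2 :=
      mul_mem (conj_mem_of_normalizer (cj_eq_self_iff.1 h1) hu) (inv_mem hu)
    have h3 : w * u * w⁻¹ * u⁻¹ ∈ (gfr_of g).SG k :=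
      (gfr_of g).key_W h.bt y h.co (key_of g key) hw (hp2S hu)
    have h4 : w * u * w⁻¹ * u⁻¹ ∈ DD V R := by
      rw [h.bt.D_eq' h.co.ne]
      exact mem_inf.2 ⟨h3.1, cj_SG_le g k (h.co.nn_R1 h.bt one_ne_zero) (hp2S h2)⟩
    have h5 := hp2D _ h2 h4
    rwa [mul_inv_eq_one, mul_inv_eq_iff_eq_mul] at h5
  have hcnt := card_opp g hk key (hp2S hu) hu0 hH
  exact
    { hq with
      m'_mem := hmPb
      m'_not := hmB
      m1 := ⟨hmPb, hmB⟩
      m2 := ⟨hn0P, hn0B⟩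
      m3 := ⟨hmPb, hmB⟩
      m4 := ⟨hn0P, hn0B⟩
      eq := D.zero.XB (mem_inf.2 ⟨hsw1, cj_eq_self_iff.1 hsw2⟩)
      n_mem := hn0P
      n_not := hn0B
      m_mem := hmPb
      m_not := hmB
      tb := fun x hx hxB => by
        obtain ⟨u', hu', e⟩ := D.tr x hx hxB
        have hu'B : u' ∈ Bo := Zero.Y_le_B h.bt D.zero (UU_le_YY j hu')
        refine ⟨u', hu'B, D.PV (mem_inf.2 ⟨mul_mem (inv_mem (mul_mem (D.le hu'B) hmPb)) hx, ?_⟩)⟩
        rw [← cj_eq_self_iff, cj_mul, e, ← hmV, ← cj_mul u' m, cj_inv_cj]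
      O_le := D.zero.WU.trans D.zero.UB
      O_triv := fun o ho x hx => (D.zero.WU.trans D.zero.UB)
        (conj_inv_mem_of_normalizer (normalizer_le_WW V (R i) (D.PR hx)) ho)
      cnt := by
        refine le_trans ?_ hcnt
        have h1 := card_PanS_zero h D.zero
        have h2 := card_PanS_node g D.PV D.tr
        exact Nat.mul_le_mul h1 (Nat.mul_le_mul h2 h1) }

end NodeDat

end Cfsg.Agent.Omega.Lie.Nodes
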