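import Cfsg.Agent.Omega.Lie.Nodes.AptTau

/-!
# NODE LIE, residues `(0, j)`: the swap `r ∈ X` inverting the torus element, `τ₁` on `V` and on the line `V₂'`
-/

set_option autoImplicit false
set_option linter.unusedSectionVars false

namespace Cfsg.Agent.Omega.Lie.Nodes

open Subgroup Cfsg.Agent.Omega.BTwo

universe u v w

variable {G : Type u} [Group G] {ι : Type w} {V : Subgroup G} {R : ι → Subgroup G} {i j : ι} {F : Type v}
  [Field F] {v : F → F → G} {w1 w2 : F → G} {M B : Type u} [AddCommGroup M] [AddCommGroup B]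
  [DistribMulAction (NR R i) M] [DistribMulAction (NR R i) B] [Module F M] {p : G → M} {r : G → B}
  {f : M →+ M →+ B} {φ : M →ₗ[F] M →ₗ[F] F} {s : NR R i → (F ≃+* F)} [CharP F 2]
  [Finite G] [Finite F] {h : FMod V R i j v w1 w2 M B p r f φ s} {t : F → G} {τ : Lie.TorD V R i j v t}
  {N : Type u} [AddCommGroup N] [Module F N] {P1 P2 : G → N} {y : YPair V R i j w1 w2 N P1 P2}
  {n : N →ₗ[F] M} {sf : N →ₗ[F] N →ₗ[F] M} {q : N → N →ₗ[F] F}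

/-- the preimage of `⟨n k⟩` -/
noncomputable abbrev VG (g : Eig h τ y n sf q) (k : N) : Subgroup G := pre (gfr_of g).fr (Submodule.span F {n k})

theorem mem_VG {g : Eig h τ y n sf q} {k : N} {x : G} :
    x ∈ VG g k ↔ x ∈ WW V (R i) ∧ ∃ c : F, p x = c • n k := by
  show x ∈ WW V (R i) ∧ p x ∈ Submodule.span F {n k} ↔ _
  rw [Submodule.mem_span_singleton]
  exact and_congr_right fun _ => ⟨fun ⟨c, e⟩ => ⟨c, e.symm⟩, fun ⟨c, e⟩ => ⟨c, e.symm⟩⟩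

theorem VG_le_SG (g : Eig h τ y n sf q) (k : N) : VG g k ≤ (gfr_of g).SG k := fun x hx => by
  obtain ⟨hW, c, e⟩ := mem_VG.1 hx
  refine ⟨hW, ?_⟩
  show p x ∈ NK p v n sf k
  rw [e]
  exact Submodule.smul_mem _ _ n_mem_Ng

theorem R_le_VG (g : Eig h τ y n sf q) (k : N) : R i ≤ VG g k := fun x hx => by
  have hW : x ∈ WW V (R i) := V_le_WW V (R i) (h.bt.R_le i hx)
  exact mem_VG.2 ⟨hW, 0, by rw [zero_smul]; exact (h.fr.p_ker x hW).2 hx⟩

/-- `cj m V = VG` -/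
theorem SwapM.cj_V {k : N} {m : NR R i} {β γ : F} (sw : SwapM h n sf k m β γ) (g : Eig h τ y n sf q) :
    cj (m : G) V = VG g k := by
  ext x
  rw [mem_cj, mem_VG]
  have hWn := normalizer_le_WW V (R i) m.2
  constructor
  · intro hx
    have hxW := V_le_WW V (R i) hx
    have e1 : x = m * ((m : G)⁻¹ * x * m) * (m : G)⁻¹ := by group
    have hx' : x ∈ WW V (R i) := by rw [e1]; exact conj_mem_of_normalizer hWn hxW
    refine ⟨hx', ?_⟩
    obtain ⟨c, hc⟩ := (p_mem_V_iff h hxW).1 hx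
    refine ⟨c * β, ?_⟩
    rw [e1, ← h.fr.p_act m _ hxW, hc, act_smul h sw.cen, sw.me, smul_smul]
  · rintro ⟨hx, c, hc⟩
    have hx' : (m : G)⁻¹ * x * m ∈ WW V (R i) := conj_inv_mem_of_normalizer hWn hx
    rw [p_mem_V_iff h hx']
    refine ⟨c * β⁻¹, ?_⟩
    have h1 := h.fr.p_act m⁻¹ x hx
    rw [coe_inv, inv_inv] at h1
    rw [← h1, hc, act_smul h sw.cen', sw.me', smul_smul]

theorem SwapM.cj_VG {k : N} {m : NR R i} {β γ : F} (sw : SwapM h n sf k m β γ) (g : Eig h τ y n sf q) :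
    cj (m : G) (VG g k) = V := by
  rw [cj_eq_iff, ← sw.inv.cj_V g, coe_inv]

/-- **`r ∈ X` swaps `R i`, `R j` and inverts `t a`** -/
theorem exists_r (h : FMod V R i j v w1 w2 M B p r f φ s) (τ : Lie.TorD V R i j v t)
    (y : YPair V R i j w1 w2 N P1 P2) (a : Fˣ) : ∃ x, (∃ y0 ∈ YY V R, x = nn w1 w2 1 * y0) ∧ x ∈ XX V R ∧
      cj x (R i) = R j ∧ cj x (R j) = R i ∧ x⁻¹ * t a * x = (t a)⁻¹ ∧
      (∀ b c, x * v b c * x⁻¹ = v c b) ∧ cj x V = V := by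
  set n0 := nn w1 w2 1 with hn0
  have hX : n0 ∈ XX V R := h.co.nn_mem_X h.bt 1
  have hzX : t a ∈ XX V R := τ.memX a a.ne_zero
  have hact : ∀ b c, n0 * v b c * n0⁻¹ = v c b := by
    intro b c
    have h1 := h.co.nn_act one_ne_zero b c
    rw [inv_one, one_mul, one_mul] at h1
    exact h1
  have hact' : ∀ b c, n0⁻¹ * v b c * n0 = v c b := by
    intro b c
    rw [← hact c b]; group
  have hYC := y.cen_X_V h.co h.btc
  have hzY : t a ∈ normalizer (YY V R : Set G) := h.bt.NV_le_NY (h.bt.X_le_NV hzX)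
  have hYp : IsPGroup 2 (YY V R) := by
    rw [← hYC]
    exact y.cen_X_V_isPGroup h.co h.btc
  have h1 : (t a)⁻¹ * (n0⁻¹ * (t a)⁻¹ * n0) ∈ YY V R := by
    rw [← hYC]
    refine mem_inf.2 ⟨mul_mem (inv_mem hzX) (mul_mem (mul_mem (inv_mem hX) (inv_mem hzX)) hX), ?_⟩
    rw [mem_centralizer_iff]
    intro x hx
    obtain ⟨b, c, rfl⟩ := (h.co.mem_V x).1 hx
    have hinv : ∀ b c, (t a)⁻¹ * v b c * t a = v ((a : F)⁻¹ * b) (a * c) := by
      intro b c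
      have h2 := τ.act (a : F)⁻¹ b c (inv_ne_zero a.ne_zero)
      rw [τ.inv a.ne_zero, inv_inv, inv_inv] at h2
      exact h2
    have e : (t a)⁻¹ * (n0⁻¹ * (t a)⁻¹ * n0) * v b c * ((t a)⁻¹ * (n0⁻¹ * (t a)⁻¹ * n0))⁻¹ =
        (t a)⁻¹ * (n0⁻¹ * ((t a)⁻¹ * (n0 * v b c * n0⁻¹) * t a) * n0) * t a := by group
    rw [hact, hinv, hact', hinv] at e
    rw [← mul_assoc (a : F)⁻¹, ← mul_assoc (a : F), inv_mul_cancel₀ a.ne_zero, mul_inv_cancel₀ a.ne_zero, one_mul,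
      one_mul, mul_inv_eq_iff_eq_mul] at e
    exact e.symm
  have ho : Odd (orderOf (n0⁻¹ * (t a)⁻¹ * n0)) := by
    have h2 := odd_conj (m := n0⁻¹) (z := (t a)⁻¹) (by rw [orderOf_inv]; exact τ.odd a a.ne_zero)
    rwa [inv_inv] at h2
  obtain ⟨y0, hy0, e1⟩ := Apt.conj_of_coset hYp hzY (τ.odd a a.ne_zero) h1 ho
  have hyX : y0⁻¹ ∈ XX V R := YY_le_XX (inv_mem hy0)
  have hyR : ∀ l, cj y0⁻¹ (R l) = R l := fun l =>
    cj_eq_self_iff.2 (h.bt.cen_le_N l (YY_le_cen (inv_mem hy0)))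
  have hyv : ∀ b c, y0⁻¹ * v b c * y0⁻¹⁻¹ = v b c := by
    intro b c
    rw [← mem_centralizer_iff.1 (YY_le_cen (inv_mem hy0)) _ (h.co.v_mem b c), mul_inv_cancel_right]
  refine ⟨n0 * y0⁻¹, ⟨y0⁻¹, inv_mem hy0, rfl⟩, mul_mem hX hyX, ?_, ?_, ?_, fun b c => ?_, ?_⟩
  · rw [cj_mul, hyR, h.co.nn_R1 h.bt one_ne_zero]
  · rw [cj_mul, hyR, h.co.nn_R2 h.bt one_ne_zero]
  · have e2 : (n0 * y0⁻¹)⁻¹ * t a * (n0 * y0⁻¹) = (y0 * (n0⁻¹ * (t a)⁻¹ * n0) * y0⁻¹)⁻¹ := by group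
    rw [e2, e1]
  · have e2 : n0 * y0⁻¹ * v b c * (n0 * y0⁻¹)⁻¹ = n0 * (y0⁻¹ * v b c * y0⁻¹⁻¹) * n0⁻¹ := by group
    rw [e2, hyv, hact]
  · exact cj_eq_self_iff.2 (h.bt.X_le_NV (mul_mem hX hyX))

/-- the torus element fixes only the points `R i`, `R j` -/
theorem tor_fix (h : FMod V R i j v w1 w2 M B p r f φ s) (τ : Lie.TorD V R i j v t) {a : Fˣ} (ha : (a : F) ≠ 1)
    {l : ι} (hl : l ≠ i) (hfix : cj (t a) (R l) = R l) : l = j := by
  by_contra hlj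
  obtain ⟨w, hw, e⟩ := h.bt.trans i h.co.ne.symm hl
  obtain ⟨x, hx⟩ := h.co.W1_act w hw
  have hR : ∀ g, g ∈ R l ↔ ∃ c, v (x * c) c = g := by
    intro g
    rw [← e, mem_cj, h.co.mem_R2]
    constructor
    · rintro ⟨c, hc⟩
      refine ⟨c, ?_⟩
      have h1 := hx 0 c
      rw [zero_add] at h1
      rw [← h1, hc]; group
    · rintro ⟨c, rfl⟩
      refine ⟨c, ?_⟩
      have h1 := hx 0 c
      rw [zero_add] at h1
      rw [← h1]; group
  have h1 : v x 1 ∈ R l := (hR _).2 ⟨1, by rw [mul_one]⟩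
  have h2 : t a * v x 1 * (t a)⁻¹ ∈ R l := by
    rw [← hfix]
    exact conj_mem_cj h1
  rw [τ.act a x 1 a.ne_zero, mul_one, hR] at h2
  obtain ⟨c, hc⟩ := h2
  obtain ⟨h3, h4⟩ := h.co.v_inj hc
  rw [h4] at h3
  have h5 : x * ((a : F) - (a : F)⁻¹) = 0 := by linear_combination -h3
  have h6 : x = 0 := (mul_eq_zero.1 h5).resolve_right (h.sub_inv_ne a.ne_zero ha)
  rw [h6] at h1
  have h7 : v 0 1 ∈ R j := (h.co.mem_R2 _).2 ⟨1, rfl⟩
  have h8 := h.bt.eq_one hlj h1 h7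
  exact one_ne_zero (h.co.v_one 0 1 h8).2

namespace TauDat

variable {g : Eig h τ y n sf q} {k : N} {P O : Subgroup G} {a : Fˣ} {x : G} (D : TauDat g k P O a x)
include D

theorem NRi : x ∈ normalizer (R i : Set G) := by
  obtain ⟨X, rfl, -⟩ := D.diag
  exact X.2

theorem NV : x ∈ normalizer (V : Set G) := by
  obtain ⟨X, rfl, dX⟩ := D.diag
  exact norm_V h dX.e

/-- `τ₁` centralises `R j` -/
theorem Rj (ha : (a : F) ≠ 1) : cj x (R j) = R j ∧ ∀ β, x * v 0 β * x⁻¹ = v 0 β := by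
  obtain ⟨l, hl⟩ := h.bt.perm x D.NV j
  have hli : l ≠ i := by
    rintro rfl
    have h1 : cj x (R j) = cj x (R l) := by rw [hl, cj_eq_self_iff.2 D.NRi]
    exact h.co.ne.symm (h.bt.R_index (cj_injective h1))
  have hzj : cj (t a) (R j) = R j := cj_eq_self_iff.2 (τ.normR' a.ne_zero)
  have hlj : l = j := by
    refine tor_fix h τ ha hli ?_
    rw [← hl, ← cj_mul, ← D.comm, cj_mul, hzj]
  rw [hlj] at hl
  refine ⟨hl, fun β => ?_⟩
  obtain ⟨X, hX, dX⟩ := D.diag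
  -- `τ₁ v 0 β τ₁⁻¹ ∈ R j` and `≡ v 0 β` modulo `R i`
  have h1 : x * v 0 β * x⁻¹ ∈ R j := by
    rw [← hl]
    exact conj_mem_cj ((h.co.mem_R2 _).2 ⟨β, rfl⟩)
  obtain ⟨c, hc⟩ := (h.co.mem_R2 _).1 h1
  have hvW : ∀ b c, v b c ∈ WW V (R i) := fun b c => V_le_WW V (R i) (h.co.v_mem b c)
  have h2 := h.fr.p_act X _ (hvW 0 β)
  rw [hX, ← hc, h.p_v 0 β, h.p_v 0 c, dX.lin, dX.e, one_smul] at h2
  have h3 : (β - c) • p (v 0 1) = 0 := by rw [sub_smul, h2, sub_self]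
  rw [← hc, sub_eq_zero.1 (h.e_smul_eq_zero h3)]

/-- the fixed points of `τ₁` on `V` -/
theorem cenV (ha : (a : F) ≠ 1) {u : G} (hu : u ∈ V) : x * u * x⁻¹ = u ↔ u ∈ R j := by
  obtain ⟨b, c, rfl⟩ := (h.co.mem_V u).1 hu
  have e : x * v b c * x⁻¹ = v (a * a * b) c := by
    have e1 : v b c = v b 0 * v 0 c := by rw [← h.co.v_add, add_zero, zero_add]
    have e2 : x * (v b 0 * v 0 c) * x⁻¹ = (x * v b 0 * x⁻¹) * (x * v 0 c * x⁻¹) := by group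
    rw [e1, e2, D.Ri, (D.Rj ha).2, ← h.co.v_add, add_zero, zero_add]
  rw [e, h.co.mem_R2]
  constructor
  · intro h1
    have h2 := (h.co.v_inj h1).1
    have h3 : ((a : F) * (a - (a : F)⁻¹)) * b = 0 := by
      rw [mul_sub, mul_inv_cancel₀ a.ne_zero]
      linear_combination h2
    have h4 : b = 0 := (mul_eq_zero.1 h3).resolve_left (mul_ne_zero a.ne_zero (h.sub_inv_ne a.ne_zero ha))
    exact ⟨c, by rw [h4]⟩
  · rintro ⟨c', hc'⟩
    obtain ⟨h2, h3⟩ := h.co.v_inj hc'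
    rw [← h2, mul_zero]

end TauDat

end Cfsg.Agent.Omega.Lie.Nodes
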