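import Cfsg.Agent.Omega.Lie.Nodes.SigInst

/-!
# NODE LIE, TEXT NODES (#14331): `KEY`, `g# = 0` on `K_g`, elementary

`FP a`: parametrised far point `a r = x v(0, ρ r) x⁻¹`, `x ∈ C(R i)`, `ρ ≠ 0`.
`FP.lin`: two far points in one line on `R i` differ by a linear map.
`GFr.formula`: `u y_r u⁻¹ = y_r v(r² g#(k), r k#(g))`, `u = n⁻¹ w n`, `p w = n k`, `k ∈ K_g`.
`GFr.key_first`: `k ∈ K_g`, `k#(g) = 0` ⇒ `g#(k) = 0`.
`GFr.key_sigma`: type (sigma): `s g = 0`, `k#(g) ≠ 0` for some `k`, some `m` swaps `e` and `⟨n g⟩` ⇒ `g# = 0`.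
-/

set_option autoImplicit false
set_option linter.unusedSectionVars false

namespace Cfsg.Agent.Omega.Lie.Nodes

open Subgroup Cfsg.Agent.Omega.BTwo

universe u v w

variable {G : Type u} [Group G] {ι : Type w} {F : Type v} [Field F]

/-- a parametrised far point -/
def FP (R : ι → Subgroup G) (i : ι) (v : F → F → G) (a : F → G) : Prop :=
  ∃ x ∈ centralizer (R i : Set G), ∃ ρ : F, ρ ≠ 0 ∧ ∀ r, a r = x * v 0 (ρ * r) * x⁻¹

theorem mem_normalizer_of_le [Finite G] {H : Subgroup G} {z : G} (h : ∀ x ∈ H, z * x * z⁻¹ ∈ H) :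
    z ∈ normalizer (H : Set G) := by
  have h1 : cj z H ≤ H := by
    intro x hx
    have := h _ (mem_cj.1 hx)
    rwa [show z * (z⁻¹ * x * z) * z⁻¹ = x by group] at this
  have h2 : cj z H = H := by
    refine Subgroup.eq_of_le_of_card_ge h1 ?_
    exact (Nat.card_congr (Subgroup.equivMapOfInjective _ _ (MulAut.conj z).injective).toEquiv).le
  exact cj_eq_self_iff.1 h2

section FP

variable {V : Subgroup G} {R : ι → Subgroup G} {i j : ι} {v : F → F → G} {w1 w2 : F → G}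

theorem FP.conj {a : F → G} (h : FP R i v a) {g : G} (hg : g ∈ centralizer (R i : Set G)) :
    FP R i v (fun r => g * a r * g⁻¹) := by
  obtain ⟨x, hx, ρ, hρ, ha⟩ := h
  refine ⟨g * x, mul_mem hg hx, ρ, hρ, fun r => ?_⟩
  show g * a r * g⁻¹ = _
  rw [ha]; group

theorem FP.scale {a : F → G} (h : FP R i v a) {l : F} (hl : l ≠ 0) : FP R i v (fun r => a (l * r)) := by
  obtain ⟨x, hx, ρ, hρ, ha⟩ := h
  refine ⟨x, hx, ρ * l, mul_ne_zero hρ hl, fun r => ?_⟩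
  show a (l * r) = _
  rw [ha, mul_assoc ρ]

theorem FP.std : FP R i v (v 0) := ⟨1, one_mem _, 1, one_ne_zero, fun r => by rw [one_mul]; group⟩

theorem FP.congr {a a' : F → G} (h : FP R i v a) (e : ∀ r, a' r = a r) : FP R i v a' := by
  rwa [show a' = a from funext e]

/-- **two far points in one line on `R i` differ by a linear map** -/
theorem FP.lin [Finite G] (b : BT V R) (c : Coord V R i j v w1 w2) {a a' : F → G} (h : FP R i v a)
    (h' : FP R i v a') {θ : F → F} (e : ∀ r, a' r = a r * v (θ r) 0) : ∃ κ, ∀ r, θ r = κ * r := by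
  obtain ⟨x, hx, ρ, hρ, ha⟩ := h
  obtain ⟨x', hx', ρ', hρ', ha'⟩ := h'
  set z := x⁻¹ * x' with hz
  have hzC : z ∈ centralizer (R i : Set G) := mul_mem (inv_mem hx) hx'
  have hR : ∀ z ∈ centralizer (R i : Set G), ∀ β, z * v β 0 * z⁻¹ = v β 0 := by
    intro z hz β
    rw [← mem_centralizer_iff.1 hz _ ((c.mem_R1 _).2 ⟨β, rfl⟩), mul_inv_cancel_right]
  have h1 : ∀ r, z * v 0 (ρ' * r) * z⁻¹ = v (θ r) (ρ * r) := by
    intro r
    have h2 : z * v 0 (ρ' * r) * z⁻¹ = x⁻¹ * a' r * x := by rw [ha', hz]; group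
    have h3 : x⁻¹ * v (θ r) 0 * x = v (θ r) 0 := by
      have := hR x⁻¹ (inv_mem hx) (θ r)
      rwa [inv_inv] at this
    have h4 : x⁻¹ * (a r * v (θ r) 0) * x = (x⁻¹ * a r * x) * (x⁻¹ * v (θ r) 0 * x) := by group
    have h5 : x⁻¹ * a r * x = v 0 (ρ * r) := by rw [ha]; group
    rw [h2, e, h4, h3, h5, ← c.v_add, zero_add, add_zero]
  have hzV : z ∈ normalizer (V : Set G) := by
    apply mem_normalizer_of_le
    intro g hg
    obtain ⟨β, γ, rfl⟩ := (c.mem_V g).1 hg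
    have h2 : v β γ = v β 0 * v 0 (ρ' * (ρ'⁻¹ * γ)) := by
      rw [← c.v_add, add_zero, zero_add, ← mul_assoc, mul_inv_cancel₀ hρ', one_mul]
    have h3 : z * v β γ * z⁻¹ = (z * v β 0 * z⁻¹) * (z * v 0 (ρ' * (ρ'⁻¹ * γ)) * z⁻¹) := by
      rw [h2]; group
    rw [h3, hR z hzC, h1, ← c.v_add]
    exact (c.mem_V _).2 ⟨_, _, rfl⟩
  obtain ⟨k, hk⟩ := b.perm z hzV j
  have hki : k ≠ i := by
    rintro rfl
    have h2 : cj z (R k) = R k := cj_eq_self_iff.2 (centralizer_le_normalizer _ hzC)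
    have h3 : cj z⁻¹ (cj z (R j)) = cj z⁻¹ (cj z (R k)) := by rw [hk, h2]
    rw [cj_inv_cj, cj_inv_cj] at h3
    have h4 := b.R_inf k j c.ne
    rw [h3, inf_idem] at h4
    exact b.R_ne k h4
  obtain ⟨w, hw, hwk⟩ := b.trans i (Ne.symm c.ne) hki
  obtain ⟨β, hβ⟩ := c.W1_act w hw
  refine ⟨β * ρ, fun r => ?_⟩
  have h2 : v (θ r) (ρ * r) ∈ R k := by
    rw [← hk, ← h1]
    exact conj_mem_cj ((c.mem_R2 _).2 ⟨_, rfl⟩)
  rw [← hwk, mem_cj, c.mem_R2] at h2
  obtain ⟨γ, hγ⟩ := h2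
  have h3 : w * v 0 γ * w⁻¹ = v (θ r) (ρ * r) := by rw [hγ]; group
  rw [hβ, zero_add] at h3
  obtain ⟨h4, h5⟩ := c.v_inj h3
  rw [← h4, h5, mul_assoc]

end FP

/-- `A r² = B r` for all `r`, `q ≥ 4` -/
theorem quad_lin {A B : F} (h : ∀ r : F, r * r * A = B * r) {ζ : F} (h0 : ζ ≠ 0) (h1 : ζ ≠ 1) : A = 0 := by
  have e1 := h 1
  have e2 := h ζ
  rw [one_mul, one_mul, mul_one] at e1
  rw [← e1] at e2
  have e3 : ζ * (ζ - 1) * A = 0 := by linear_combination e2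
  exact (mul_eq_zero.1 e3).resolve_left (mul_ne_zero h0 (sub_ne_zero.2 h1))

namespace GFr

variable {V : Subgroup G} {R : ι → Subgroup G} {i j : ι} {v : F → F → G}
    {M E : Type u} [AddCommGroup M] [Module F M] [AddCommGroup E] [Module F E] {P1 P2 : G → E}
    {q : G → M} {f : M →ₗ[F] M →ₗ[F] F} {e : M} {M0 : Submodule F M} {n : E →ₗ[F] M} {s : E → E → M}
    {sh : E → E → F} {α : E → M →ₗ[F] M} (h : GFr V R i j v P1 P2 q f e M0 n s sh α) (b : BT V R)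
    {w1 w2 : F → G} (c : Coord V R i j v w1 w2)
include h b c

theorem e_ne : e ≠ 0 := by
  intro h0
  have h9 : q (v 0 1) = 0 := by rw [h.q_V, h0, smul_zero]
  rw [h.fr.zero _ (V_le_WW V (R i) (c.v_mem 0 1)), c.mem_R1] at h9
  obtain ⟨b', hb'⟩ := h9
  exact zero_ne_one (c.v_inj hb').2

theorem smul_e_inj {a a' : F} (hh : a • e = a' • e) : a = a' := by
  by_contra hne
  apply h.e_ne b c
  have h10 : (a - a') • e = 0 := by rw [sub_smul, hh, sub_self]
  exact (smul_eq_zero.1 h10).resolve_left (sub_ne_zero.2 hne)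

/-- elements of `W i` with the same image -/
theorem exists_R {x x' : G} (hx : x ∈ WW V (R i)) (hx' : x' ∈ WW V (R i)) (hh : q x = q x') :
    ∃ β, x = x' * v β 0 := by
  have h1 : x'⁻¹ * x ∈ R i := by
    rw [← h.fr.zero _ (mul_mem (inv_mem hx') hx), h.fr.mul _ (inv_mem hx') _ hx, h.fr.q_inv hx', hh,
      neg_add_cancel]
  obtain ⟨β, hβ⟩ := (c.mem_R1 _).1 h1
  exact ⟨β, by rw [hβ]; group⟩

variable (y : YPair V R i j w1 w2 E P1 P2) [CharP F 2]
include y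

/-- the parametrised point `y` -/
theorem exists_pt {g : E} {x0 : G} (hx0 : x0 ∈ centralizer (R i : Set G)) {a : F} (ha : a ≠ 0)
    {A : M →ₗ[F] M} (hA : ∀ x ∈ WW V (R i), q (x0 * x * x0⁻¹) = A (q x)) (hAe : A e = a • n g) :
    ∃ z : F → G, FP R i v z ∧ (∀ r, z r ∈ WW V (R i)) ∧ ∀ r, q (z r) = r • n g := by
  have _ := y
  refine ⟨fun r => x0 * v 0 (a⁻¹ * r) * x0⁻¹, ⟨x0, hx0, a⁻¹, inv_ne_zero ha, fun r => rfl⟩, fun r => ?_,
    fun r => ?_⟩
  · exact conj_mem_of_normalizer (normalizer_le_WW V (R i) (centralizer_le_normalizer _ hx0))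
      (V_le_WW V (R i) (c.v_mem _ _))
  · rw [hA _ (V_le_WW V (R i) (c.v_mem _ _)), h.q_V, map_smul, hAe, smul_smul]
    congr 1
    field_simp

/-- **the formula** -/
theorem formula {g k : E} (hk : s g k = 0) (hks : ∀ r : F, s k (r • g) = 0)
    (hsq : ∀ r : F, sh (r • g) k = r * r * sh g k)
    {z : F → G} (hzW : ∀ r, z r ∈ WW V (R i)) (hz : ∀ r, q (z r) = r • n g) :
    ∃ u ∈ centralizer (R i : Set G), ∀ r, u * z r * u⁻¹ = z r * v (r * r * sh g k) (r * sh k g) := by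
  obtain ⟨w, hw, hqw⟩ := h.fr.surj (n k)
  have hwU : w ∈ UU V R i := h.mem_U w hw (by rw [hqw]; exact h.lin.f_e_n k)
  have hP1 : P1 w = k := by
    obtain ⟨c', d', hd', e2⟩ := h.q_U w hwU
    refine h.n_unique (c := c') (c' := 0) hd' M0.zero_mem ?_
    rw [← e2, hqw, zero_smul, zero_add, zero_add]
  set m := nn w1 w2 1 with hm
  have hX := c.nn_mem_X b 1
  set u := m⁻¹ * w * m with hu
  have eu : m * u * m⁻¹ = w := by rw [hu]; group
  have huU : u ∈ UU V R j := by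
    have h1 : cj m (UU V R j) = UU V R i := b.cj_UU (b.X_le_NV hX) (c.nn_R2 b one_ne_zero)
    rw [← h1, mem_cj] at hwU
    exact hwU
  have hP2 : P2 u = k := by
    have h2 := (y.nn1 b c one_ne_zero (UU_le_YY j huU)).1
    rw [one_smul] at h2
    rw [← h2, ← hP1, ← hm, eu]
  have huC : u ∈ centralizer (R i : Set G) := by
    rw [mem_centralizer_iff]
    exact fun t ht => mem_centralizer_iff.1 (UU_le_cen j huU) t (b.R_le i ht)
  refine ⟨u, huC, fun r => ?_⟩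
  -- step (a)
  have hzr := hzW r
  have hzU : z r ∈ UU V R i := h.mem_U _ hzr (by rw [hz, map_smul, h.lin.f_e_n, smul_zero])
  have hcz : u * z r * u⁻¹ ∈ WW V (R i) := conj_mem_of_normalizer (b.cen_le_NW i (UU_le_cen j huU)) hzr
  have h1 : q (u * z r * u⁻¹) = r • n g + (r * sh k g) • e := by
    rw [h.act u huU _ hzr, hP2, hz, map_smul, h.α_n, hk]
    module
  have hvW : v 0 (r * sh k g) ∈ WW V (R i) := V_le_WW V (R i) (c.v_mem _ _)
  obtain ⟨θ, hθ⟩ := h.exists_R b c hcz (mul_mem hzr hvW) (by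
    rw [h1, h.fr.mul _ hzr _ hvW, hz, h.q_V])
  have h2 : u * z r * u⁻¹ = z r * v θ (r * sh k g) := by
    rw [hθ, mul_assoc, ← c.v_add, zero_add, add_zero]
  -- step (b)
  have hcm : ∀ x ∈ V, z r * x = x * z r := fun x hx => (mem_centralizer_iff.1 (UU_le_cen i hzU) x hx).symm
  have h3 : u * z r * u⁻¹ * (z r)⁻¹ = v θ (r * sh k g) := by
    rw [h2, hcm _ (c.v_mem _ _), mul_inv_cancel_right]
  set x := m * z r * m⁻¹ with hx
  have hxU : x ∈ UU V R j := by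
    rw [← b.cj_UU (b.X_le_NV hX) (c.nn_R1 b one_ne_zero)]
    exact conj_mem_cj hzU
  have hP1z : P1 (z r) = r • g := by
    obtain ⟨c', d', hd', e2⟩ := h.q_U _ hzU
    refine h.n_unique (c := c') (c' := 0) hd' M0.zero_mem ?_
    rw [← e2, hz, zero_smul, zero_add, zero_add, map_smul]
  have hP2x : P2 x = r • g := by
    have h4 := (y.nn1 b c one_ne_zero (UU_le_YY i hzU)).2
    rw [inv_one, one_smul] at h4
    rw [hx, hm, h4, hP1z]
  have hxw : x * w * x⁻¹ ∈ WW V (R i) := conj_mem_of_normalizer (b.cen_le_NW i (UU_le_cen j hxU)) hw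
  have h4 : w * x * w⁻¹ * x⁻¹ = v (r * sh k g) θ := by
    have h5 : w * x * w⁻¹ * x⁻¹ = m * (u * z r * u⁻¹ * (z r)⁻¹) * m⁻¹ := by rw [hx, hu]; group
    rw [h5, h3, hm, c.nn_act one_ne_zero, inv_one, one_mul, one_mul]
  have h5 := h.fr.q_comm hw hxw
  rw [h4, h.q_V, h.act x hxU w hw, hP2x, hqw, h.α_n, hks, hsq, add_zero] at h5
  have h6 : θ • e = (r * r * sh g k) • e := by
    rw [h5, sub_add_cancel_left, ← neg_smul, CharTwo.neg_eq]
  rw [h2, h.smul_e_inj b c h6]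

variable [Finite G]

/-- **`KEY`, first half**: `k ∈ K_g`, `k#(g) = 0` ⇒ `g#(k) = 0` -/
theorem key_first {g k : E} (hk : s g k = 0) (hks : ∀ r : F, s k (r • g) = 0)
    (hsq : ∀ r : F, sh (r • g) k = r * r * sh g k) (h0 : sh k g = 0)
    {ζ : F} (hζ : ζ ≠ 0) (hζ1 : ζ ≠ 1)
    {z : F → G} (hzF : FP R i v z) (hzW : ∀ r, z r ∈ WW V (R i)) (hz : ∀ r, q (z r) = r • n g) :
    sh g k = 0 := by
  obtain ⟨u, hu, h1⟩ := h.formula b c y hk hks hsq hzW hz
  obtain ⟨κ, hκ⟩ := FP.lin b c hzF (hzF.conj hu) (θ := fun r => r * r * sh g k) fun r => by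
    rw [h1, h0, mul_zero]
  exact quad_lin hκ hζ hζ1

/-- **`KEY`, type (sigma)** -/
theorem key_sigma [Finite F] {g : E} (hZ : ∀ k, s g k = 0) (hks : ∀ (k : E) (r : F), s k (r • g) = 0)
    (hsq : ∀ (r : F) (k l : E), sh (r • k) l = r * r * sh k l)
    (hadd : ∀ k l, sh (k + l) g = sh k g + sh l g)
    (hlin : ∀ (r : F) (k : E), sh g (r • k) = r * sh g k) (hlin' : ∀ k l : E, sh g (k + l) = sh g k + sh g l)
    {h0 : E} (hh0 : sh h0 g ≠ 0) {ζ : F} (hζ : ζ ≠ 0) (hζ1 : ζ ≠ 1)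
    {z : F → G} (hzF : FP R i v z) (hzW : ∀ r, z r ∈ WW V (R i)) (hz : ∀ r, q (z r) = r • n g)
    {m : G} (hm : m ∈ centralizer (R i : Set G)) {A : M →ₗ[F] M}
    (hA : ∀ x ∈ WW V (R i), q (m * x * m⁻¹) = A (q x)) {β γ : F} (hβ : β ≠ 0) (hγ : γ ≠ 0)
    (hAe : A e = β • n g) (hAn : A (n g) = γ • e) (k : E) : sh g k = 0 := by
  have hsqrt : ∀ a : F, ∃ r, r * r = a := by
    intro a
    have hinj : Function.Injective (fun r : F => r * r) := by
      intro r r' hr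
      have hr' : r * r = r' * r' := hr
      have h1 : (r - r') * (r - r') = 0 := by
        have h2 : r * r' + r * r' = 0 := CharTwo.add_self_eq_zero _
        linear_combination hr' - h2 + (CharTwo.add_self_eq_zero (r' * r'))
      exact sub_eq_zero.1 ((mul_self_eq_zero).1 h1)
    exact (Finite.injective_iff_surjective.1 hinj) a
  -- normalise `h0`
  obtain ⟨l, hl⟩ := hsqrt (sh h0 g)⁻¹
  obtain ⟨h1, hh1⟩ : ∃ h1 : E, sh h1 g = 1 := ⟨l • h0, by rw [hsq, hl, inv_mul_cancel₀ hh0]⟩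
  set c0 := sh g h1 with hc0
  -- the far points `Q_μ`
  have hQ : ∀ μ : F, FP R i v (fun r => z r * v (r * r * (μ * c0)) (r * (μ * μ))) := by
    intro μ
    obtain ⟨u, hu, h2⟩ := h.formula b c y (hZ (μ • h1)) (hks (μ • h1)) (fun r => hsq r g _) hzW hz
    refine (hzF.conj hu).congr fun r => ?_
    rw [h2, hsq, hlin, hh1, mul_one]
  have hzV : ∀ r, ∀ x ∈ V, z r * x = x * z r := by
    intro r x hx
    have hzU : z r ∈ UU V R i := h.mem_U _ (hzW r) (by rw [hz, map_smul, h.lin.f_e_n, smul_zero])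
    exact (mem_centralizer_iff.1 (UU_le_cen i hzU) x hx).symm
  have hmW : ∀ x ∈ WW V (R i), m * x * m⁻¹ ∈ WW V (R i) := fun x hx =>
    conj_mem_of_normalizer (normalizer_le_WW V (R i) (centralizer_le_normalizer _ hm)) hx
  have hvW : ∀ a a', v a a' ∈ WW V (R i) := fun a a' => V_le_WW V (R i) (c.v_mem _ _)
  -- (i)
  obtain ⟨κ1, hκ1⟩ : ∃ κ1, ∀ r, m * v 0 r * m⁻¹ = z (β * r) * v (κ1 * r) 0 := by
    have h2 : ∀ r, ∃ θ, m * v 0 r * m⁻¹ = z (β * r) * v θ 0 := fun r =>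
      h.exists_R b c (hmW _ (hvW _ _)) (hzW _) (by
        rw [hA _ (hvW _ _), h.q_V, map_smul, hAe, hz, smul_smul, mul_comm])
    choose θ hθ using h2
    obtain ⟨κ, hκ⟩ := FP.lin b c (hzF.scale hβ) ((FP.std (R := R) (i := i) (v := v)).conj hm) hθ
    exact ⟨κ, fun r => by rw [hθ, hκ]⟩
  -- (ii)
  obtain ⟨κ2, hκ2⟩ : ∃ κ2, ∀ r, m * z r * m⁻¹ = v (κ2 * r) (γ * r) := by
    have h2 : ∀ r, ∃ θ, m * z r * m⁻¹ = v 0 (γ * r) * v θ 0 := fun r =>
      h.exists_R b c (hmW _ (hzW _)) (hvW _ _) (by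
        rw [hA _ (hzW _), hz, map_smul, hAn, h.q_V, smul_smul, mul_comm])
    choose θ hθ using h2
    obtain ⟨κ, hκ⟩ := FP.lin b c ((FP.std (R := R) (i := i) (v := v)).scale hγ) (hzF.conj hm) hθ
    exact ⟨κ, fun r => by rw [hθ, hκ, ← c.v_add, zero_add, add_zero]⟩
  have hmR : ∀ a, m * v a 0 * m⁻¹ = v a 0 := by
    intro a
    rw [← mem_centralizer_iff.1 hm _ ((c.mem_R1 _).2 ⟨a, rfl⟩), mul_inv_cancel_right]
  -- the image of `Q_μ`
  have hmQ : ∀ μ r : F, m * (z r * v (r * r * (μ * c0)) (r * (μ * μ))) * m⁻¹ =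
      z (β * (r * (μ * μ))) * v (r * r * (μ * c0) + (κ1 * (μ * μ) + κ2) * r) (γ * r) := by
    intro μ r
    have e1 : v (r * r * (μ * c0)) (r * (μ * μ)) = v (r * r * (μ * c0)) 0 * v 0 (r * (μ * μ)) := by
      rw [← c.v_add, zero_add, add_zero]
    have e2 : m * (z r * v (r * r * (μ * c0)) (r * (μ * μ))) * m⁻¹ =
        (m * z r * m⁻¹) * (m * v (r * r * (μ * c0)) 0 * m⁻¹) * (m * v 0 (r * (μ * μ)) * m⁻¹) := by
      rw [e1]; group
    rw [e2, hκ2, hmR, hκ1, ← c.v_add, ← mul_assoc, ← hzV _ _ (c.v_mem _ _), mul_assoc, ← c.v_add]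
    congr 2
    · ring
    · ring
  -- the contradiction
  have hc00 : c0 = 0 := by
    by_contra hc
    have hmu : ∀ μ : F, μ ≠ 0 → γ * (β * β * β) * (μ * μ * (μ * μ)) = 1 := by
      intro μ hμ
      have hβμ : β * (μ * μ) ≠ 0 := mul_ne_zero hβ (mul_ne_zero hμ hμ)
      obtain ⟨ν, hν⟩ := hsqrt (γ * (β * (μ * μ))⁻¹)
      -- the rescaled image of `Q_μ`
      have h2 : FP R i v (fun r => z r *
          v ((β * (μ * μ))⁻¹ * r * ((β * (μ * μ))⁻¹ * r) * (μ * c0) +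
            (κ1 * (μ * μ) + κ2) * ((β * (μ * μ))⁻¹ * r)) (r * (ν * ν))) := by
        refine (((hQ μ).conj hm).scale (inv_ne_zero hβμ)).congr fun r => ?_
        have e3 := hmQ μ ((β * (μ * μ))⁻¹ * r)
        rw [e3]
        have e4 : β * ((β * (μ * μ))⁻¹ * r * (μ * μ)) = r := by field_simp
        have e5 : γ * ((β * (μ * μ))⁻¹ * r) = r * (ν * ν) := by rw [hν]; ring
        rw [e4, e5]
      obtain ⟨κ, hκ⟩ := FP.lin b c (hQ ν) h2 (θ := fun r =>
        (β * (μ * μ))⁻¹ * r * ((β * (μ * μ))⁻¹ * r) * (μ * c0) +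
            (κ1 * (μ * μ) + κ2) * ((β * (μ * μ))⁻¹ * r) - r * r * (ν * c0)) (fun r => by
          rw [mul_assoc (z r), ← c.v_add]
          congr 2
          · ring
          · ring)
      have h3 : (β * (μ * μ))⁻¹ * (β * (μ * μ))⁻¹ * (μ * c0) - ν * c0 = 0 := by
        refine quad_lin (B := κ - (κ1 * (μ * μ) + κ2) * (β * (μ * μ))⁻¹) (fun r => ?_) hζ hζ1
        have := hκ r
        linear_combination this
      have h4 : (β * (μ * μ))⁻¹ * (β * (μ * μ))⁻¹ * μ = ν := by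
        have h5 : ((β * (μ * μ))⁻¹ * (β * (μ * μ))⁻¹ * μ - ν) * c0 = 0 := by linear_combination h3
        exact sub_eq_zero.1 ((mul_eq_zero.1 h5).resolve_right hc)
      rw [← h4] at hν
      field_simp at hν
      linear_combination -hν
    have e1 := hmu 1 one_ne_zero
    have e2 := hmu ζ hζ
    rw [one_mul, one_mul, mul_one] at e1
    rw [e1, one_mul] at e2
    have e3 : (ζ - 1) * (ζ - 1) * ((ζ - 1) * (ζ - 1)) = 0 := by
      have h5 : (2 : F) = 0 := CharTwo.two_eq_zero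
      linear_combination e2 + (-2 * ζ ^ 3 + 3 * ζ ^ 2 - 2 * ζ + 1) * h5
    have e4 := mul_self_eq_zero.1 (mul_self_eq_zero.1 e3)
    exact hζ1 (sub_eq_zero.1 e4)
  -- the conclusion
  obtain ⟨μ, hμ⟩ := hsqrt (sh k g)
  have h2 : sh (k + μ • h1) g = 0 := by
    rw [hadd, hsq, hh1, hμ, mul_one, CharTwo.add_self_eq_zero]
  have h3 := h.key_first b c y (hZ _) (hks _) (fun r => hsq r g _) h2 hζ hζ1 hzF hzW hz
  rw [hlin', hlin, ← hc0, hc00, mul_zero, add_zero] at h3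
  exact h3

end GFr

end Cfsg.Agent.Omega.Lie.Nodes
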