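import Mathlib

/-!
# NODE LIE, TEXT NODES (#14331) (N): the types of the nodes (abstract part)

`M` an `F`-space, `e` a vector, `om` a linear form (`om x = f(x, e)`), `e^⊥ = e ⊕ M0 ⊕ n(N)` (weights `-1, 0, 1` of the
torus `T`), `A = {α a}` with `[e^⊥, A] ≤ e + M0`, `[M0, A] ≤ e`, `C_{M0}(A) = 0`, `P ≥ A` acting linearly, normalised by
`T`, `Om` = the vectors in the points of the orbit `⟨e⟩^P`, `A` transitive on `Om - ⟨e⟩`, at least three points.

`NodeFr.node`: one of the four cases alpha, beta, sigma, gamma.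
-/

set_option autoImplicit false

namespace Cfsg.Agent.Omega.Lie.Nodes

open Submodule

universe u v w x y

section

variable {F : Type v} [Field F] {M : Type u} [AddCommGroup M] [Module F M] {N : Type w} [AddCommGroup N] [Module F N]
  {A : Type x} [AddCommGroup A] [Module F A] {H : Type y} [Group H] [DistribMulAction H M]

/-- the vectors of the points in the orbit of the point `⟨e⟩` -/
def Om (F : Type v) [Field F] {M : Type u} [AddCommGroup M] [Module F M] {H : Type y} [Group H]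
    [DistribMulAction H M] (P : Subgroup H) (e x : M) : Prop :=
  ∃ p ∈ P, ∃ c : F, c ≠ 0 ∧ x = c • (p • e)

/-- the hypotheses of the node theorem -/
structure NodeFr (e : M) (om : M →ₗ[F] F) (M0 : Submodule F M) (n : N →ₗ[F] M) (T : Fˣ → H) (α : A → H)
    (l : A → M → F) (sf : N →ₗ[F] A →ₗ[F] M) (q : A → N → F) (P K : Subgroup H) : Prop where
  e_ne : e ≠ 0
  perp : ∀ x, om x = 0 → ∃ γ : F, ∃ d ∈ M0, ∃ g, x = γ • e + d + n g
  indep : ∀ (γ : F) (d : M) (g : N), d ∈ M0 → γ • e + d + n g = 0 → γ = 0 ∧ d = 0 ∧ g = 0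
  T_mul : ∀ a b (x : M), T (a * b) • x = T a • T b • x
  T_lin : ∀ a (c : F) (x : M), T a • c • x = c • T a • x
  T_e : ∀ a, T a • e = (a : F)⁻¹ • e
  T_0 : ∀ a, ∀ d ∈ M0, T a • d = d
  T_1 : ∀ a g, T a • n g = (a : F) • n g
  T_A : ∀ (c : Fˣ) b (x : M), T c • α b • x = α ((c : F)⁻¹ • b) • T c • x
  A_add : ∀ a b (x : M), α (a + b) • x = α a • α b • x
  A_e : ∀ a, α a • e = e
  A_0 : ∀ a, ∀ d ∈ M0, α a • d = d + l a d • e
  A_1 : ∀ a g, α a • n g = n g + sf g a + q a g • e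
  sf_mem : ∀ g a, sf g a ∈ M0
  l_add : ∀ a b, ∀ d ∈ M0, l (a + b) d = l a d + l b d
  l_smul : ∀ (c : F) a, ∀ d ∈ M0, l (c • a) d = c * l a d
  l_alt : ∀ g a, l a (sf g a) = 0
  inj : ∀ d ∈ M0, (∀ a, l a d = 0) → d = 0
  q_add : ∀ a b g, q (a + b) g = q a g + q b g + l a (sf g b)
  q_smul : ∀ (c : F) a g, q (c • a) g = c ^ 2 * q a g
  P_lin : ∀ p ∈ P, ∀ (c : F) (x : M), p • c • x = c • p • x
  A_mem : ∀ a, α a ∈ P
  P_le : P ≤ K
  T_mem : ∀ a, T a ∈ K
  T_norm : ∀ a, ∀ p ∈ P, T a * p * (T a)⁻¹ ∈ P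
  D_stab : ∀ g ∈ K, (∃ c : F, g • e = c • e) → ∀ d ∈ M0, ∃ γ : F, ∃ d' ∈ M0, g • d = γ • e + d'
  tr : ∀ x y, Om F P e x → Om F P e y → (∀ c : F, x ≠ c • e) → (∀ c : F, y ≠ c • e) →
    ∃ a, ∃ c : F, α a • x = c • y
  three : ∃ x y, Om F P e x ∧ Om F P e y ∧ (∀ c : F, x ≠ c • e) ∧ (∀ c : F, y ≠ c • e) ∧ ∀ c : F, y ≠ c • x

/-- `N_g = ⟨e⟩ + s(g, A) + ⟨n g⟩` -/
def NN (e : M) (n : N →ₗ[F] M) (sf : N →ₗ[F] A →ₗ[F] M) (g : N) : Submodule F M :=
  span F {e} ⊔ LinearMap.range (sf g) ⊔ span F {n g}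

theorem mem_NN {e : M} {n : N →ₗ[F] M} {sf : N →ₗ[F] A →ₗ[F] M} {g : N} {x : M} :
    x ∈ NN e n sf g ↔ ∃ (c : F) (a : A) (r : F), x = c • e + sf g a + r • n g := by
  unfold NN
  constructor
  · intro hx
    obtain ⟨y, hy, z, hz, rfl⟩ := mem_sup.1 hx
    obtain ⟨y', hy', w, ⟨a, rfl⟩, rfl⟩ := mem_sup.1 hy
    obtain ⟨c, rfl⟩ := mem_span_singleton.1 hy'
    obtain ⟨r, rfl⟩ := mem_span_singleton.1 hz
    exact ⟨c, a, r, rfl⟩
  · rintro ⟨c, a, r, rfl⟩
    exact add_mem_sup (add_mem_sup (mem_span_singleton.2 ⟨c, rfl⟩) (LinearMap.mem_range_self _ a))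
      (mem_span_singleton.2 ⟨r, rfl⟩)

namespace NodeFr

variable {e : M} {om : M →ₗ[F] F} {M0 : Submodule F M} {n : N →ₗ[F] M} {T : Fˣ → H} {α : A → H}
    {l : A → M → F} {sf : N →ₗ[F] A →ₗ[F] M} {q : A → N → F} {P K : Subgroup H}
    (h : NodeFr e om M0 n T α l sf q P K)

section basic

omit [AddCommGroup A] [Module F A] [AddCommGroup N] [Module F N] in
theorem _root_.Cfsg.Agent.Omega.Lie.Nodes.Om.self : Om F P e e :=
  ⟨1, one_mem _, 1, one_ne_zero, by rw [one_smul, one_smul]⟩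

omit [AddCommGroup A] [Module F A] [AddCommGroup N] [Module F N] in
theorem _root_.Cfsg.Agent.Omega.Lie.Nodes.Om.smul {x : M} (hx : Om F P e x) {c : F} (hc : c ≠ 0) :
    Om F P e (c • x) := by
  obtain ⟨p, hp, c', hc', rfl⟩ := hx
  exact ⟨p, hp, c * c', mul_ne_zero hc hc', by rw [mul_smul]⟩

theorem _root_.Cfsg.Agent.Omega.Lie.Nodes.Om.of_smul {x : M} {c : F} (hc : c ≠ 0) (hx : Om F P e (c • x)) :
    Om F P e x := by
  have h1 := hx.smul (inv_ne_zero hc)
  rwa [inv_smul_smul₀ hc] at h1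

include h

theorem om_ne {x : M} (hx : Om F P e x) : x ≠ 0 := by
  obtain ⟨p, hp, c, hc, rfl⟩ := hx
  intro h0
  rcases smul_eq_zero.1 h0 with h1 | h1
  · exact hc h1
  · apply h.e_ne
    rw [← inv_smul_smul p e, h1, smul_zero]

theorem om_act {p : H} (hp : p ∈ P) {x : M} (hx : Om F P e x) : Om F P e (p • x) := by
  obtain ⟨p', hp', c, hc, rfl⟩ := hx
  exact ⟨p * p', mul_mem hp hp', c, hc, by rw [h.P_lin p hp, mul_smul]⟩

theorem om_act_iff {p : H} (hp : p ∈ P) {x : M} : Om F P e (p • x) ↔ Om F P e x := by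
  refine ⟨fun hx => ?_, h.om_act hp⟩
  have h1 := h.om_act (inv_mem hp) hx
  rwa [inv_smul_smul] at h1

theorem om_T (s : Fˣ) {x : M} (hx : Om F P e x) : Om F P e (T s • x) := by
  obtain ⟨p, hp, c, hc, rfl⟩ := hx
  refine ⟨_, h.T_norm s p hp, c * (s : F)⁻¹, mul_ne_zero hc (inv_ne_zero s.ne_zero), ?_⟩
  rw [h.T_lin, mul_smul, ← h.P_lin _ (h.T_norm s p hp), ← h.T_e, ← mul_smul, ← mul_smul, inv_mul_cancel_right]

theorem A_smul_e (a : A) (c : F) : α a • (c • e) = c • e := by rw [h.P_lin _ (h.A_mem a), h.A_e]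

theorem T_smul_e (s : Fˣ) (c : F) : T s • (c • e) = (c * (s : F)⁻¹) • e := by rw [h.T_lin, h.T_e, smul_smul]

theorem smul_e_eq {c : F} (hc : c • e = 0) : c = 0 := (smul_eq_zero.1 hc).resolve_right h.e_ne

/-- the eigenvector equation on `e^⊥` -/
theorem eig {γ χ : F} {d : M} {g : N} (hd : d ∈ M0) (s : Fˣ)
    (hx : T s • (γ • e + d + n g) = χ • (γ • e + d + n g)) :
    γ * ((s : F)⁻¹ - χ) = 0 ∧ (1 - χ) • d = 0 ∧ ((s : F) - χ) • g = 0 := by
  rw [smul_add, smul_add, h.T_smul_e, h.T_0 s d hd, h.T_1] at hx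
  refine h.indep _ _ _ (M0.smul_mem _ hd) ?_
  have h1 : (γ * ((s : F)⁻¹ - χ)) • e + (1 - χ) • d + n (((s : F) - χ) • g) =
      ((γ * (s : F)⁻¹) • e + d + (s : F) • n g) - χ • (γ • e + d + n g) := by
    rw [map_smul, mul_sub, sub_smul, sub_smul, sub_smul, one_smul, smul_add, smul_add, smul_smul,
      mul_comm χ γ]
    abel
  rw [h1, hx, sub_self]

theorem exists_fixed [Finite F] (hF : ∃ a : F, a ≠ 0 ∧ a ≠ 1) :
    ∃ x, Om F P e x ∧ (∀ c : F, x ≠ c • e) ∧ ∀ s : Fˣ, ∃ χ : F, T s • x = χ • x := by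
  obtain ⟨x₀, -, hx₀, -, hx₀e, -, -⟩ := h.three
  obtain ⟨t, ht⟩ := IsCyclic.exists_generator (α := Fˣ)
  have ht1 : (t : F) ≠ 1 := by
    intro h1
    obtain ⟨a, ha0, ha1⟩ := hF
    apply ha1
    have h2 : t = 1 := Units.ext h1
    obtain ⟨k, hk⟩ := Subgroup.mem_zpowers_iff.1 (ht (Units.mk0 a ha0))
    rw [h2, one_zpow] at hk
    have h3 := congrArg (fun u : Fˣ => (u : F)) hk
    exact h3.symm
  have hti : 1 - (t : F)⁻¹ ≠ 0 := fun h1 => ht1 (by rw [← inv_inv (t : F), ← sub_eq_zero.1 h1, inv_one])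
  have hTe : ∀ c : F, T t • x₀ ≠ c • e := by
    intro c hc
    apply hx₀e (c * (t : F))
    have h1 : T t • x₀ = T t • ((c * (t : F)) • e) := by
      rw [h.T_smul_e, mul_assoc, mul_inv_cancel₀ t.ne_zero, mul_one, hc]
    exact MulAction.injective _ h1
  obtain ⟨a, c, hac⟩ := h.tr x₀ (T t • x₀) hx₀ (h.om_T t hx₀) hx₀e hTe
  have hc0 : c ≠ 0 := by
    rintro rfl
    rw [zero_smul] at hac
    exact h.om_ne (h.om_act (h.A_mem a) hx₀) hac
  set b : A := (1 - (t : F)⁻¹)⁻¹ • a with hb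
  have hb1 : (t : F)⁻¹ • b + a = b := by
    have h1 : (1 - (t : F)⁻¹) • b = a := by rw [hb, smul_inv_smul₀ hti]
    rw [sub_smul, one_smul] at h1
    rw [← h1]
    abel
  set x := α b • x₀ with hxd
  have hx : T t • x = c⁻¹ • x := by
    have h1 : T t • x₀ = c⁻¹ • α a • x₀ := by rw [hac, inv_smul_smul₀ hc0]
    rw [hxd, h.T_A, h1, h.P_lin _ (h.A_mem _), ← h.A_add, hb1]
  refine ⟨x, h.om_act (h.A_mem b) hx₀, fun c' hc' => ?_, fun s => ?_⟩
  · apply hx₀e c'
    have h1 : α b • x₀ = α b • (c' • e) := by rw [h.A_smul_e, ← hc']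
    exact MulAction.injective _ h1
  · obtain ⟨k, rfl⟩ := (mem_powers_iff_mem_zpowers (x := t)).2 (ht s)
    clear ht
    induction k with
    | zero =>
      refine ⟨1, ?_⟩
      have h1 : T (t ^ 0) • T (t ^ 0) • x = T (t ^ 0) • x := by
        rw [← h.T_mul]
        simp
      rw [one_smul]
      exact MulAction.injective _ h1
    | succ k ih =>
      obtain ⟨χ, hχ⟩ := ih
      refine ⟨c⁻¹ * χ, ?_⟩
      simp only at hχ ⊢
      rw [pow_succ, h.T_mul, hx, h.T_lin, hχ, smul_smul]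

/-- the fixed point is in `M0`, in `n(N)` or not orthogonal to `e` -/
theorem fixed_cases [Finite F] [CharP F 2] (hF : ∃ a : F, a ≠ 0 ∧ a ≠ 1) :
    (∃ x, Om F P e x ∧ om x ≠ 0 ∧ ∀ s : Fˣ, ∃ χ : F, T s • x = χ • x) ∨
      (∃ d ∈ M0, d ≠ 0 ∧ Om F P e d) ∨ ∃ g, g ≠ 0 ∧ Om F P e (n g) := by
  obtain ⟨x, hx, hxe, hxT⟩ := h.exists_fixed hF
  by_cases hom : om x = 0
  swap
  · exact Or.inl ⟨x, hx, hom, hxT⟩
  right
  obtain ⟨γ, d, hd, g, rfl⟩ := h.perp x hom
  obtain ⟨a, ha0, ha1⟩ := hF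
  obtain ⟨χ, hχ⟩ := hxT (Units.mk0 a ha0)
  obtain ⟨h1, h2, h3⟩ := h.eig hd _ hχ
  change γ * (a⁻¹ - χ) = 0 at h1
  change (a - χ) • g = 0 at h3
  by_cases hg : g = 0
  · rw [hg, map_zero, add_zero] at hx hxe
    left
    by_cases hd0 : d = 0
    · exfalso
      apply hxe γ
      rw [hd0, add_zero]
    · have h4 : 1 - χ = 0 := (smul_eq_zero.1 h2).resolve_right hd0
      have h5 : γ = 0 := by
        refine (mul_eq_zero.1 h1).resolve_right fun h6 => ha1 ?_
        rw [← sub_eq_zero.1 h4] at h6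
        rw [← inv_inv a, sub_eq_zero.1 h6, inv_one]
      rw [h5, zero_smul, zero_add] at hx
      exact ⟨d, hd, hd0, hx⟩
  · right
    have h4 : a - χ = 0 := (smul_eq_zero.1 h3).resolve_right hg
    have h5 : γ = 0 := by
      refine (mul_eq_zero.1 h1).resolve_right fun h6 => ha1 ?_
      rw [← sub_eq_zero.1 h4] at h6
      have h7 : a * a = 1 := by
        nth_rewrite 1 [← sub_eq_zero.1 h6]
        exact inv_mul_cancel₀ ha0
      have h8 : (a - 1) * (a - 1) = 0 := by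
        have h9 : (a - 1) * (a - 1) = a * a - (a + a) + 1 := by ring
        rw [h9, h7, CharTwo.add_self_eq_zero, sub_zero, CharTwo.add_self_eq_zero]
      exact sub_eq_zero.1 (mul_self_eq_zero.1 h8)
    have h6 : d = 0 := by
      refine (smul_eq_zero.1 h2).resolve_left fun h7 => ha1 ?_
      rw [sub_eq_zero.1 h4, ← sub_eq_zero.1 h7]
    rw [h5, h6, zero_smul, zero_add, zero_add] at hx
    exact ⟨g, hg, hx⟩

/-- **case alpha** -/
theorem alpha {d : M} (hd : d ∈ M0) (hd0 : d ≠ 0) (hom : Om F P e d) (x : M) :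
    Om F P e x ↔ x ≠ 0 ∧ ∃ c c' : F, x = c • e + c' • d := by
  have hde : ∀ c : F, d ≠ c • e := by
    intro c hc
    have h1 := h.indep c (-d) 0 (M0.neg_mem hd) (by rw [map_zero, add_zero, hc, add_neg_cancel])
    exact hd0 (neg_eq_zero.1 h1.2.1)
  constructor
  · intro hx
    refine ⟨h.om_ne hx, ?_⟩
    by_cases hxe : ∃ c : F, x = c • e
    · obtain ⟨c, rfl⟩ := hxe
      exact ⟨c, 0, by rw [zero_smul, add_zero]⟩
    · push Not at hxe
      obtain ⟨a, c, hac⟩ := h.tr d x hom hx hde hxe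
      have hc : c ≠ 0 := by
        rintro rfl
        rw [zero_smul] at hac
        exact h.om_ne (h.om_act (h.A_mem a) hom) hac
      rw [h.A_0 a d hd] at hac
      refine ⟨c⁻¹ * l a d, c⁻¹, ?_⟩
      rw [← inv_smul_smul₀ hc x, ← hac, smul_add, smul_smul, add_comm]
  · rintro ⟨hx0, c, c', rfl⟩
    by_cases hc' : c' = 0
    · rw [hc', zero_smul, add_zero] at hx0 ⊢
      refine Om.self.smul fun h0 => hx0 ?_
      rw [h0, zero_smul]
    · have h1 : ∃ b, l b d ≠ 0 := by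
        by_contra hcon
        push Not at hcon
        exact hd0 (h.inj d hd hcon)
      obtain ⟨b, hb⟩ := h1
      have h2 : c • e + c' • d = c' • (α ((c'⁻¹ * c * (l b d)⁻¹) • b) • d) := by
        rw [h.A_0 _ d hd, h.l_smul _ _ d hd, mul_assoc, inv_mul_cancel₀ hb, mul_one, smul_add, smul_smul,
          mul_inv_cancel_left₀ hc', add_comm]
      rw [h2]
      exact (h.om_act (h.A_mem _) hom).smul hc'

section cn

variable {g : N}

/-- the orbit of `n g` -/
theorem om_iff (hg : g ≠ 0) (hom : Om F P e (n g)) (x : M) :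
    Om F P e x ↔ (∃ c : F, c ≠ 0 ∧ x = c • e) ∨ ∃ c : F, c ≠ 0 ∧ ∃ a, x = c • (n g + sf g a + q a g • e) := by
  constructor
  · intro hx
    by_cases hxe : ∃ c : F, x = c • e
    · obtain ⟨c, rfl⟩ := hxe
      refine Or.inl ⟨c, fun h0 => ?_, rfl⟩
      rw [h0, zero_smul] at hx
      exact h.om_ne hx rfl
    · push Not at hxe
      have hne : ∀ c : F, n g ≠ c • e := by
        intro c hc
        have h1 := h.indep (-c) 0 g (zero_mem _) (by rw [neg_smul, hc]; abel)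
        exact hg h1.2.2
      obtain ⟨a, c, hac⟩ := h.tr (n g) x hom hx hne hxe
      have hc : c ≠ 0 := by
        rintro rfl
        rw [zero_smul] at hac
        exact h.om_ne (h.om_act (h.A_mem a) hom) hac
      rw [h.A_1] at hac
      refine Or.inr ⟨c⁻¹, inv_ne_zero hc, a, ?_⟩
      rw [hac, inv_smul_smul₀ hc]
  · rintro (⟨c, hc, rfl⟩ | ⟨c, hc, a, rfl⟩)
    · exact Om.self.smul hc
    · rw [← h.A_1]
      exact (h.om_act (h.A_mem a) hom).smul hc

theorem om_n (hom : Om F P e (n g)) (a : A) : Om F P e (n g + sf g a + q a g • e) := by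
  rw [← h.A_1]
  exact h.om_act (h.A_mem a) hom

/-- `e + Z` contains no points of the orbit except `e` -/
theorem not_om (hg : g ≠ 0) (hom : Om F P e (n g)) {c : F} {a : A} (ha : sf g a ≠ 0) :
    ¬ Om F P e (c • e + sf g a) := by
  intro hx
  rcases (h.om_iff hg hom _).1 hx with ⟨c', -, h1⟩ | ⟨c', hc', a', h1⟩
  · have h2 := h.indep (c - c') (sf g a) 0 (h.sf_mem g a) (by
      rw [map_zero, add_zero, sub_smul, ← h1]; abel)
    exact ha h2.2.1
  · have h2 := h.indep (c' * q a' g - c) (sf g (c' • a') - sf g a) (c' • g)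
      (M0.sub_mem (h.sf_mem _ _) (h.sf_mem _ _)) (by
        rw [map_smul, map_smul, sub_smul, mul_smul]
        have h3 : c' • (n g + sf g a' + q a' g • e) - (c • e + sf g a) = 0 := by rw [← h1, sub_self]
        rw [← h3, smul_add, smul_add]
        abel)
    rcases smul_eq_zero.1 h2.2.2 with h3 | h3
    · exact hc' h3
    · exact hg h3

/-- `NN` is spanned by the orbit -/
theorem NN_eq (hg : g ≠ 0) (hom : Om F P e (n g)) : NN e n sf g = span F {x | Om F P e x} := by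
  apply le_antisymm
  · intro x hx
    obtain ⟨c, a, r, rfl⟩ := mem_NN.1 hx
    have he : e ∈ span F {x | Om F P e x} := subset_span Om.self
    have hn : n g ∈ span F {x | Om F P e x} := subset_span hom
    have hs : sf g a ∈ span F {x | Om F P e x} := by
      have h1 : n g + sf g a + q a g • e ∈ span F {x | Om F P e x} := subset_span (h.om_n hom a)
      have h2 : sf g a = (n g + sf g a + q a g • e) - n g - q a g • e := by abel
      rw [h2]
      exact sub_mem (sub_mem h1 hn) (smul_mem _ _ he)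
    exact add_mem (add_mem (smul_mem _ _ he) hs) (smul_mem _ _ hn)
  · rw [span_le]
    intro x hx
    rcases (h.om_iff hg hom x).1 hx with ⟨c, -, rfl⟩ | ⟨c, -, a, rfl⟩
    · exact mem_NN.2 ⟨c, 0, 0, by rw [map_zero, zero_smul, add_zero, add_zero]⟩
    · refine mem_NN.2 ⟨c * q a g, c • a, c, ?_⟩
      rw [map_smul, smul_add, smul_add, smul_smul]
      abel

theorem span_act {p : H} (hp : p ∈ P) {x : M} (hx : x ∈ span F {x | Om F P e x}) :
    p • x ∈ span F {x | Om F P e x} := by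
  induction hx using span_induction with
  | mem x hx => exact subset_span (h.om_act hp hx)
  | zero => rw [smul_zero]; exact zero_mem _
  | add x y _ _ h1 h2 => rw [smul_add]; exact add_mem h1 h2
  | smul c x _ h1 => rw [h.P_lin p hp]; exact smul_mem _ _ h1

theorem NN_act (hg : g ≠ 0) (hom : Om F P e (n g)) {p : H} (hp : p ∈ P) {x : M} (hx : x ∈ NN e n sf g) :
    p • x ∈ NN e n sf g := by
  rw [h.NN_eq hg hom] at hx ⊢
  exact h.span_act hp hx

theorem q_of_ker {k : A} (hk : sf g k = 0) (a : A) : q (a + k) g = q a g + q k g := by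
  have h1 : l a 0 = 0 := by
    have h2 := h.A_0 a 0 (zero_mem _)
    rw [smul_zero, zero_add] at h2
    exact h.smul_e_eq h2.symm
  rw [h.q_add, hk, h1, add_zero]

/-- **case sigma** : if `q(·, g)` does not vanish on the kernel of `s(g, ·)`, then `s(g, ·) = 0` -/
theorem sigma_zero [Finite F] [CharP F 2] (hg : g ≠ 0) (hom : Om F P e (n g)) {k : A} (hk : sf g k = 0)
    (hqk : q k g ≠ 0) (a : A) : sf g a = 0 := by
  by_contra hz
  -- all vectors `n g + z + c e` are in the orbit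
  have hall : ∀ (a : A) (c : F), Om F P e (n g + sf g a + c • e) := by
    intro a c
    obtain ⟨r, hr⟩ : ∃ r : F, r ^ 2 = (c - q a g) * (q k g)⁻¹ := by
      have h1 := (bijective_frobenius F 2).2 ((c - q a g) * (q k g)⁻¹)
      obtain ⟨r, hr⟩ := h1
      exact ⟨r, hr⟩
    have h1 : sf g (r • k) = 0 := by rw [map_smul, hk, smul_zero]
    have h2 := h.om_n hom (a + r • k)
    rw [h.q_of_ker h1, map_add, h1, add_zero, h.q_smul, hr, mul_assoc, inv_mul_cancel₀ hqk, mul_one,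
      add_sub_cancel] at h2
    exact h2
  -- vectors of `N` outside the orbit are in `e + Z`
  have hno : ∀ x ∈ NN e n sf g, ¬ Om F P e x → ∃ (c : F) (a : A), x = c • e + sf g a := by
    intro x hx hxo
    obtain ⟨c, a, r, rfl⟩ := mem_NN.1 hx
    by_cases hr : r = 0
    · exact ⟨c, a, by rw [hr, zero_smul, add_zero]⟩
    · exfalso
      apply hxo
      have h1 := (hall (r⁻¹ • a) (r⁻¹ * c)).smul hr
      rw [map_smul, smul_add, smul_add, smul_inv_smul₀ hr, smul_smul, mul_inv_cancel_left₀ hr] at h1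
      have h2 : c • e + sf g a + r • n g = r • n g + sf g a + c • e := by abel
      rw [h2]
      exact h1
  obtain ⟨p, hp, c, hc, hpe⟩ := hom
  have hom : Om F P e (n g) := ⟨p, hp, c, hc, hpe⟩
  have hz1 : ¬ Om F P e (p • sf g a) := by
    rw [h.om_act_iff hp]
    have h1 := h.not_om hg hom (c := 0) hz
    rwa [zero_smul, zero_add] at h1
  have hz2 : ¬ Om F P e (p • (e + sf g a)) := by
    rw [h.om_act_iff hp]
    have h1 := h.not_om hg hom (c := 1) hz
    rwa [one_smul] at h1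
  obtain ⟨c1, a1, h1⟩ := hno _ (h.NN_act hg hom hp (mem_NN.2 ⟨0, a, 0, by
    rw [zero_smul, zero_smul, zero_add, add_zero]⟩)) hz1
  obtain ⟨c2, a2, h2⟩ := hno _ (h.NN_act hg hom hp (mem_NN.2 ⟨1, a, 0, by
    rw [one_smul, zero_smul, add_zero]⟩)) hz2
  have h3 : p • e = (c2 - c1) • e + sf g (a2 - a1) := by
    have h4 : p • e = p • (e + sf g a) - p • sf g a := by rw [smul_add]; abel
    rw [h4, h1, h2, map_sub, sub_smul]
    abel
  have h4 := h.indep (-(c * (c2 - c1))) (-(c • sf g (a2 - a1))) g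
    (M0.neg_mem (M0.smul_mem _ (h.sf_mem _ _))) (by
      rw [hpe, h3, smul_add, neg_smul, smul_smul]
      abel)
  exact hg h4.2.2

theorem sigma_iff [Finite F] [CharP F 2] (hg : g ≠ 0) (hom : Om F P e (n g)) {k : A} (hk : sf g k = 0)
    (hqk : q k g ≠ 0) (x : M) : Om F P e x ↔ x ≠ 0 ∧ ∃ c c' : F, x = c • e + c' • n g := by
  have hs := h.sigma_zero hg hom hk hqk
  constructor
  · intro hx
    refine ⟨h.om_ne hx, ?_⟩
    rcases (h.om_iff hg hom x).1 hx with ⟨c, -, rfl⟩ | ⟨c, -, a, rfl⟩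
    · exact ⟨c, 0, by rw [zero_smul, add_zero]⟩
    · refine ⟨c * q a g, c, ?_⟩
      rw [hs, add_zero, smul_add, smul_smul, add_comm]
  · rintro ⟨hx0, c, c', rfl⟩
    by_cases hc' : c' = 0
    · rw [hc', zero_smul, add_zero] at hx0 ⊢
      refine Om.self.smul fun h0 => hx0 ?_
      rw [h0, zero_smul]
    · obtain ⟨r, hr⟩ : ∃ r : F, r ^ 2 = (c'⁻¹ * c) * (q k g)⁻¹ := (bijective_frobenius F 2).2 _
      have h2 := (h.om_n hom (r • k)).smul hc'
      rw [map_smul, hk, smul_zero, add_zero, h.q_smul, hr, mul_assoc, inv_mul_cancel₀ hqk, mul_one, smul_add,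
        smul_smul, mul_inv_cancel_left₀ hc', add_comm] at h2
      exact h2

/-- two equal values of `s(g, ·)` give equal values of `q(·, g)` -/
theorem q_congr (hk : ∀ k, sf g k = 0 → q k g = 0) {a a' : A} (haa : sf g a = sf g a') : q a g = q a' g := by
  have h1 : sf g (a' - a) = 0 := by rw [map_sub, haa, sub_self]
  have h2 := h.q_of_ker h1 a
  rw [add_sub_cancel, hk _ h1, add_zero] at h2
  exact h2.symm

/-- `s(g, ·) ≠ 0` in case beta -/
theorem beta_ne (hg : g ≠ 0) (hom : Om F P e (n g)) (hk : ∀ k, sf g k = 0 → q k g = 0) : ∃ a, sf g a ≠ 0 := by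
  by_contra hcon
  push Not at hcon
  obtain ⟨x, y, hx, hy, hxe, hye, hxy⟩ := h.three
  rcases (h.om_iff hg hom x).1 hx with ⟨c, -, h1⟩ | ⟨c, hc, a, h1⟩
  · exact hxe c h1
  rcases (h.om_iff hg hom y).1 hy with ⟨c', -, h2⟩ | ⟨c', hc', a', h2⟩
  · exact hye c' h2
  rw [hcon, hk _ (hcon _), zero_smul, add_zero, add_zero] at h1 h2
  apply hxy (c' * c⁻¹)
  rw [h1, h2, smul_smul, mul_assoc, inv_mul_cancel₀ hc, mul_one]

/-- **`Q` is anisotropic** -/
theorem beta_aniso [Finite F] [CharP F 2] [FiniteDimensional F M] (hF : ∃ a : F, a ≠ 0 ∧ a ≠ 1) (hg : g ≠ 0)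
    (hom : Om F P e (n g)) (hk : ∀ k, sf g k = 0 → q k g = 0) {a : A} (ha : q a g = 0) : sf g a = 0 := by
  obtain ⟨p, hp, c, hc, hpe⟩ := id hom
  -- `E = e + Z`
  let Z : Submodule F M := LinearMap.range (sf g)
  let E : Submodule F M := span F {e} ⊔ Z
  have hE : ∀ x, x ∈ E ↔ ∃ (c : F) (a : A), x = c • e + sf g a := by
    intro x
    constructor
    · intro hx
      obtain ⟨y, hy, z, ⟨a, rfl⟩, rfl⟩ := mem_sup.1 hx
      obtain ⟨c, rfl⟩ := mem_span_singleton.1 hy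
      exact ⟨c, a, rfl⟩
    · rintro ⟨c, a, rfl⟩
      exact add_mem_sup (mem_span_singleton.2 ⟨c, rfl⟩) ⟨a, rfl⟩
  have hEN : E ≤ NN e n sf g := le_sup_left
  let pl : M →ₗ[F] M :=
    { toFun := fun x => p • x
      map_add' := fun x y => smul_add _ _ _
      map_smul' := fun c x => h.P_lin p hp c x }
  have hpl : ∀ x, pl x = p • x := fun x => rfl
  have hinj : Function.Injective pl := fun x y hxy => MulAction.injective p hxy
  let Y : Submodule F M := E.map pl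
  have hYN : Y ≤ NN e n sf g := by
    rintro _ ⟨x, hx, rfl⟩
    exact h.NN_act hg hom hp (hEN hx)
  -- `Y` contains `n g` and no other point of the orbit
  have hnY : n g ∈ Y := ⟨c • e, (hE _).2 ⟨c, 0, by rw [map_zero, add_zero]⟩, by rw [hpl, h.P_lin p hp, ← hpe]⟩
  have hYo : ∀ x ∈ Y, Om F P e x → ∃ c : F, x = c • n g := by
    rintro _ ⟨x, hx, rfl⟩ hxo
    rw [hpl, h.om_act_iff hp] at hxo
    obtain ⟨c1, a1, rfl⟩ := (hE x).1 hx
    by_cases h1 : sf g a1 = 0
    · refine ⟨c1 * c⁻¹, ?_⟩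
      rw [hpe, hpl, h1, add_zero, h.P_lin p hp, smul_smul, mul_assoc, inv_mul_cancel₀ hc, mul_one]
    · exact absurd hxo (h.not_om hg hom h1)
  -- `Y` is `T`-invariant
  have hYT : ∀ s : Fˣ, ∀ x ∈ Y, T s • x ∈ Y := by
    rintro s _ ⟨x, hx, rfl⟩
    have hN : T s • (pl x) ∈ NN e n sf g := by
      obtain ⟨c1, a1, r1, h1⟩ := mem_NN.1 (hYN ⟨x, hx, rfl⟩)
      rw [h1, smul_add, smul_add, h.T_smul_e, h.T_0 s _ (h.sf_mem _ _), h.T_lin, h.T_1, smul_smul]
      exact mem_NN.2 ⟨_, _, _, rfl⟩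
    have hk0 : (p⁻¹ * T s * p) • e = (s : F) • e := by
      have h1 : p • e = c⁻¹ • n g := by rw [hpe, inv_smul_smul₀ hc]
      rw [mul_smul, mul_smul, h1, h.T_lin, h.T_1, h.P_lin _ (inv_mem hp), h.P_lin _ (inv_mem hp), hpe,
        h.P_lin _ (inv_mem hp), inv_smul_smul, smul_smul, smul_smul, mul_right_comm,
        inv_mul_cancel₀ hc, one_mul]
    obtain ⟨c1, a1, rfl⟩ := (hE x).1 hx
    obtain ⟨γ, d', hd', h2⟩ := h.D_stab _ (mul_mem (mul_mem (inv_mem (h.P_le hp)) (h.T_mem s)) (h.P_le hp))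
      ⟨_, hk0⟩ _ (h.sf_mem g a1)
    -- `T s p x = p (k x)`, `k x ∈ D̄ ∩ N`
    have h3 : ∃ (γ' : F) (d'' : M), d'' ∈ M0 ∧ T s • pl (c1 • e + sf g a1) = p • (γ' • e + d'') := by
      refine ⟨c1 * s + γ, d', hd', ?_⟩
      have h4 : T s • p • (c1 • e + sf g a1) = p • (p⁻¹ * T s * p) • (c1 • e + sf g a1) := by
        rw [← mul_smul, ← mul_smul]
        congr 1
        group
      rw [hpl, h4, smul_add, h2]
      have h5 : (p⁻¹ * T s * p) • (c1 • e) = (c1 * (s : F)) • e := by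
        rw [mul_smul, mul_smul, h.P_lin p hp, h.T_lin, h.P_lin _ (inv_mem hp), ← mul_smul (p⁻¹), ← mul_smul, hk0,
          smul_smul]
      rw [h5, add_smul]
      congr 1
      abel
    obtain ⟨γ', d'', hd'', h4⟩ := h3
    have h5 : γ' • e + d'' ∈ NN e n sf g := by
      have h6 := h.NN_act hg hom (inv_mem hp) hN
      rwa [h4, inv_smul_smul] at h6
    obtain ⟨c2, a2, r2, h6⟩ := mem_NN.1 h5
    have h7 := h.indep (γ' - c2) (d'' - sf g a2) (-(r2 • g)) (M0.sub_mem hd'' (h.sf_mem _ _)) (by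
      rw [map_neg, map_smul, sub_smul]
      have h8 : (γ' • e + d'') - (c2 • e + sf g a2 + r2 • n g) = 0 := by rw [← h6, sub_self]
      rw [← h8]
      abel)
    refine ⟨γ' • e + d'', (hE _).2 ⟨c2, a2, ?_⟩, by rw [hpl, ← h4]⟩
    rw [sub_eq_zero.1 h7.1, sub_eq_zero.1 h7.2.1]
  -- `Z ≤ Y`
  have hZY : Z ≤ Y := by
    have heY : ∀ c' : F, c' • e ∈ Y → c' = 0 := by
      intro c' hc'
      by_contra h0
      obtain ⟨c1, h1⟩ := hYo _ hc' (Om.self.smul h0)
      have h2 := h.indep c' 0 (-(c1 • g)) (zero_mem _) (by rw [map_neg, map_smul, h1]; abel)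
      exact h0 h2.1
    -- components
    have hcomp : ∀ (c1 : F) (a1 : A) (r1 : F), c1 • e + sf g a1 + r1 • n g ∈ Y → c1 = 0 ∧ sf g a1 ∈ Y := by
      intro c1 a1 r1 h1
      have h2 : c1 • e + sf g a1 ∈ Y := by
        have h3 := Y.sub_mem h1 (Y.smul_mem r1 hnY)
        rwa [add_sub_cancel_right] at h3
      obtain ⟨s, hs0, hs1⟩ := hF
      have h3 := hYT (Units.mk0 s hs0) _ h2
      rw [smul_add, h.T_smul_e, h.T_0 _ _ (h.sf_mem _ _)] at h3
      have h4 := Y.sub_mem h3 h2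
      rw [add_sub_add_right_eq_sub, ← sub_smul] at h4
      have h5 := heY _ h4
      change c1 * s⁻¹ - c1 = 0 at h5
      have h6 : c1 = 0 := by
        have h7 : c1 * (s⁻¹ - 1) = 0 := by rw [mul_sub, mul_one, h5]
        refine (mul_eq_zero.1 h7).resolve_right fun h8 => hs1 ?_
        rw [← inv_inv s, sub_eq_zero.1 h8, inv_one]
      refine ⟨h6, ?_⟩
      rwa [h6, zero_smul, zero_add] at h2
    -- dimension
    have hd1 : Module.finrank F Y = Module.finrank F E := (LinearEquiv.finrank_eq (Submodule.equivMapOfInjective pl hinj E)).symm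
    have hle : Y ≤ (Y ⊓ Z) ⊔ span F {n g} := by
      intro x hx
      obtain ⟨c1, a1, r1, rfl⟩ := mem_NN.1 (hYN hx)
      obtain ⟨h1, h2⟩ := hcomp c1 a1 r1 hx
      rw [h1, zero_smul, zero_add]
      exact add_mem_sup ⟨h2, ⟨a1, rfl⟩⟩ (mem_span_singleton.2 ⟨r1, rfl⟩)
    have hd2 : Module.finrank F Y ≤ Module.finrank F (Y ⊓ Z : Submodule F M) + 1 := by
      refine (Submodule.finrank_mono hle).trans ((Submodule.finrank_add_le_finrank_add_finrank _ _).trans ?_)
      exact Nat.add_le_add_left (finrank_span_singleton (h.om_ne hom)).le _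
    have hd3 : Module.finrank F Z + 1 ≤ Module.finrank F E := by
      have h1 := Submodule.finrank_sup_add_finrank_inf_eq (span F {e}) Z
      have h2 : span F {e} ⊓ Z = ⊥ := by
        rw [eq_bot_iff]
        rintro x ⟨hx1, hx2⟩
        obtain ⟨c1, rfl⟩ := mem_span_singleton.1 hx1
        obtain ⟨a1, h3⟩ := hx2
        have h4 := h.indep c1 (-sf g a1) 0 (M0.neg_mem (h.sf_mem _ _)) (by
          rw [map_zero, add_zero, h3, add_neg_cancel])
        rw [h4.1, zero_smul]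
        exact zero_mem _
      rw [h2, finrank_bot, add_zero, finrank_span_singleton h.e_ne] at h1
      change _ ≤ Module.finrank F (span F {e} ⊔ Z : Submodule F M)
      rw [h1]
      omega
    have h1 : Y ⊓ Z = Z := Submodule.eq_of_le_of_finrank_le inf_le_right (by omega)
    exact inf_eq_right.1 h1
  by_contra hz
  have h1 := h.om_n hom a
  rw [ha, zero_smul, add_zero] at h1
  obtain ⟨c1, h2⟩ := hYo _ (Y.add_mem hnY (hZY ⟨a, rfl⟩)) h1
  have h3 := h.indep 0 (sf g a) (g - c1 • g) (h.sf_mem _ _) (by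
    rw [map_sub, map_smul, ← h2, zero_smul]; abel)
  exact hz h3.2.1

end cn

end basic

end NodeFr

end

end Cfsg.Agent.Omega.Lie.Nodes
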