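import Cfsg.Agent.Omega.Lie.Nodes.KeyInst
import Cfsg.Agent.Omega.Lie.Nodes.Fixed

/-!
# NODE LIE, TEXT NODES (#14331): (S) in the language of `FMod`, `Eig`

`conj_P2`: `x ∈ C(R i) ∩ N(V) ∩ N(R j)`, `x e = ε e`, `x n_k ≡ c' n_k`: `P2 (x u x⁻¹) = ε c' P2 u` for `P2 u ∈ F k`.
`hS_of`: (S): `A_k` is centralised by `P` on `M`.
-/

set_option autoImplicit false
set_option linter.unusedSectionVars false

namespace Cfsg.Agent.Omega.Lie.Nodes

open Subgroup Cfsg.Agent.Omega.BTwo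

universe u v w

variable {G : Type u} [Group G] {ι : Type w} {V : Subgroup G} {R : ι → Subgroup G} {i j : ι} {F : Type v}
  [Field F] {v : F → F → G} {w1 w2 : F → G} {M B : Type u} [AddCommGroup M] [AddCommGroup B]
  [DistribMulAction (NR R i) M] [DistribMulAction (NR R i) B] [Module F M] {p : G → M} {r : G → B}
  {f : M →+ M →+ B} {φ : M →ₗ[F] M →ₗ[F] F} {s : NR R i → (F ≃+* F)} [CharP F 2]
  [Finite G] [Finite F] {h : FMod V R i j v w1 w2 M B p r f φ s} {t : F → G} {τ : Lie.TorD V R i j v t}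
  {N : Type u} [AddCommGroup N] [Module F N] {P1 P2 : G → N} {y : YPair V R i j w1 w2 N P1 P2}
  {n : N →ₗ[F] M} {sf : N →ₗ[F] N →ₗ[F] M} {q : N → N →ₗ[F] F} (g : Eig h τ y n sf q)

include g

theorem n_of_D {k k' : N} (hd : n k - n k' ∈ h.fr.sb (DD V R)) : k = k' := by
  obtain ⟨γ, d, hd', e1⟩ := (g.mem_D _).1 hd
  have h1 : (-γ) • p (v 0 1) + (-d) + n (k - k') = 0 := by
    rw [map_sub, e1, neg_smul]
    abel
  exact sub_eq_zero.1 (g.indep _ _ _ ((h.M0 τ).neg_mem hd') h1).2.2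

theorem conj_P2 {x : NR R i} (hxC : (x : G) ∈ centralizer (R i : Set G)) (hxV : (x : G) ∈ normalizer (V : Set G))
    (hxj : cj (x : G) (R j) = R j) {ε c' : F} (hε : x • p (v 0 1) = ε • p (v 0 1)) {k : N}
    (hc' : x • n k - c' • n k ∈ h.fr.sb (DD V R)) {u : G} (hu : u ∈ UU V R j) {c : F} (huk : P2 u = c • k) :
    (x : G) * u * (x : G)⁻¹ ∈ UU V R j ∧ P2 ((x : G) * u * (x : G)⁻¹) = (ε * c' * c) • k := by
  have b := h.bt
  have co := h.co
  have hε0 : ε ≠ 0 := by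
    intro h0
    rw [h0, zero_smul, smul_eq_zero_iff_eq] at hε
    exact h.e_ne hε
  have hu' : (x : G) * u * (x : G)⁻¹ ∈ UU V R j := by
    rw [← b.cj_UU hxV hxj]
    exact conj_mem_cj hu
  refine ⟨hu', ?_⟩
  set u' := (x : G) * u * (x : G)⁻¹ with hu'd
  have hv0 : ∀ c, (x : G) * v 0 c * (x : G)⁻¹ = v 0 (ε * c) := by
    intro c
    have h1 : (x : G) * v 0 c * (x : G)⁻¹ ∈ R j := by
      rw [← hxj]; exact conj_mem_cj ((co.mem_R2 _).2 ⟨c, rfl⟩)
    obtain ⟨c2, hc2⟩ := (co.mem_R2 _).1 h1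
    have hvW : v 0 c ∈ WW V (R i) := V_le_WW V (R i) (co.v_mem _ _)
    have h2 : c2 • p (v 0 1) = (ε * c) • p (v 0 1) := by
      rw [← h.p_v 0 c2, hc2, ← h.fr.p_act x _ hvW, h.p_v, h.lin_cen hxC, hε, smul_smul, mul_comm]
    rw [← hc2, (gfr_of g).smul_e_inj b co h2]
  have hv1 : ∀ β, (x : G) * v β 0 * (x : G)⁻¹ = v β 0 := by
    intro β
    rw [← mem_centralizer_iff.1 hxC _ ((co.mem_R1 _).2 ⟨β, rfl⟩), mul_inv_cancel_right]
  set X0 := w1 1 * u * (w1 1)⁻¹ * u⁻¹ with hX0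
  have hX0U : X0 ∈ UU V R i := b.WU' (co.w1_mem 1) hu
  have huY := UU_le_YY j hu
  have hwY : ∀ a, ∀ z ∈ YY V R, w1 a * z * (w1 a)⁻¹ ∈ YY V R := fun a z hz =>
    conj_mem_of_normalizer (b.NV_le_NY (b.W_le_NV i (co.w1_mem a))) hz
  have hP1 : P1 X0 = c • k := by
    rw [hX0, y.mul1 _ (hwY 1 u huY) _ (inv_mem huY), y.w11 1 u huY, y.inv1 huY, one_smul, huk]
    abel
  set w' := (x : G) * w1 1 * (x : G)⁻¹ with hw'
  have hw'W : w' ∈ WW V (R i) :=
    conj_mem_of_normalizer (normalizer_le_WW V (R i) x.2) (co.w1_mem 1)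
  obtain ⟨a', ha'⟩ := co.W1_act w' hw'W
  have ha'ε : a' * ε = 1 := by
    have h1 : w' * v 0 ε * w'⁻¹ = v 1 ε := by
      have h2 : (x : G)⁻¹ * v 0 ε * x = v 0 1 := by
        have := hv0 1
        rw [mul_one] at this
        rw [← this]; group
      calc w' * v 0 ε * w'⁻¹ = x * (w1 1 * ((x : G)⁻¹ * v 0 ε * x) * (w1 1)⁻¹) * (x : G)⁻¹ := by
            rw [hw']; group
        _ = x * (v 1 0 * v 0 1) * (x : G)⁻¹ := by
            rw [h2, co.w1_act, ← co.v_add, zero_add, add_zero, mul_one, zero_add]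
        _ = (x * v 1 0 * (x : G)⁻¹) * (x * v 0 1 * (x : G)⁻¹) := by group
        _ = v 1 ε := by rw [hv1, hv0, ← co.v_add, add_zero, zero_add, mul_one]
    rw [ha', zero_add] at h1
    exact (co.v_inj h1).1
  have hu'Y := UU_le_YY j hu'
  have h3 : P1 (w' * u' * w'⁻¹) = P1 u' + a' • P2 u' := by
    have h4 := b.same hw'W (co.w1_mem a') (fun z hz => by
      obtain ⟨β, γ, rfl⟩ := (co.mem_V z).1 hz
      rw [ha', co.w1_act]) hu'Y
    have hY1 : w' * u' * w'⁻¹ ∈ YY V R := conj_mem_of_normalizer (b.NV_le_NY (b.W_le_NV i hw'W)) hu'Y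
    have hY2 := hwY a' u' hu'Y
    have h5 := ((y.mem_D _ (b.D_le_Y h4)).1 h4).1
    rw [y.mul1 _ hY1 _ (inv_mem hY2), y.inv1 hY2, y.w11 a' u' hu'Y, ← sub_eq_add_neg, sub_eq_zero] at h5
    exact h5
  have h4 : (x : G) * X0 * (x : G)⁻¹ = w' * u' * w'⁻¹ * u'⁻¹ := by rw [hX0, hw', hu'd]; group
  have h5 : P1 ((x : G) * X0 * (x : G)⁻¹) = a' • P2 u' := by
    have hY1 : w' * u' * w'⁻¹ ∈ YY V R := conj_mem_of_normalizer (b.NV_le_NY (b.W_le_NV i hw'W)) hu'Y
    rw [h4, y.mul1 _ hY1 _ (inv_mem hu'Y), h3, y.inv1 hu'Y]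
    abel
  have hxi : cj (x : G) (R i) = R i := cj_eq_self_iff.2 x.2
  have hxX : (x : G) * X0 * (x : G)⁻¹ ∈ UU V R i := by
    rw [← b.cj_UU hxV hxi]
    exact conj_mem_cj hX0U
  have hDx : ∀ m ∈ h.fr.sb (DD V R), x • m ∈ h.fr.sb (DD V R) := fun m hm =>
    h.fr.sb_smul (b.NV_le_ND hxV) hm
  have h6 : P1 ((x : G) * X0 * (x : G)⁻¹) = (c * c') • k := by
    symm
    apply n_of_D g
    have e1 := g.p_n _ hxX
    have e2 := hDx _ (g.p_n _ hX0U)
    rw [smul_sub, h.fr.p_act x _ (UU_le_WW i hX0U), hP1, map_smul, h.lin_cen hxC] at e2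
    have e3 := h.D_smul τ y hc' c
    have e4 : n ((c * c') • k) - n (P1 ((x : G) * X0 * (x : G)⁻¹)) =
        (p ((x : G) * X0 * (x : G)⁻¹) - n (P1 ((x : G) * X0 * (x : G)⁻¹))) -
          (p ((x : G) * X0 * (x : G)⁻¹) - c • x • n k) - c • (x • n k - c' • n k) := by
      rw [map_smul, smul_sub, smul_smul]
      abel
    rw [e4]
    exact sub_mem (sub_mem e1 e2) e3
  have h7 : a' • P2 u' = (c * c') • k := by rw [← h5, h6]
  calc P2 u' = (ε * a') • P2 u' := by rw [mul_comm, ha'ε, one_smul]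
    _ = ε • (c * c') • k := by rw [← smul_smul, h7]
    _ = (ε * c' * c) • k := by rw [smul_smul]; congr 1; ring

omit [Finite G] [Finite F] g in
/-- an element of `C(R i) ∩ N(V)` normalises `R j` up to `W i` -/
theorem exists_W_mul (b : BT V R) (hij : i ≠ j) {x : G} (hxC : x ∈ centralizer (R i : Set G))
    (hxV : x ∈ normalizer (V : Set G)) : ∃ w ∈ WW V (R i), cj (w⁻¹ * x) (R j) = R j := by
  obtain ⟨k, hk⟩ := b.perm x hxV j
  have hki : k ≠ i := by
    rintro rfl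
    have h2 : cj x (R k) = R k := cj_eq_self_iff.2 (centralizer_le_normalizer _ hxC)
    have h3 : cj x⁻¹ (cj x (R j)) = cj x⁻¹ (cj x (R k)) := by rw [hk, h2]
    rw [cj_inv_cj, cj_inv_cj] at h3
    have h4 := b.R_inf k j hij
    rw [h3, inf_idem] at h4
    exact b.R_ne k h4
  obtain ⟨w, hw, hwk⟩ := b.trans i (Ne.symm hij) hki
  exact ⟨w, hw, by rw [cj_mul, hk, ← hwk, cj_inv_cj]⟩

/-- the lines `V ^ x`, `x ∈ P` -/
def Lin (V P : Subgroup G) : Type u := {L : Subgroup G // ∃ x ∈ P, L = cj x V}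

instance linAct (V P : Subgroup G) : MulAction P (Lin V P) where
  smul x L := ⟨cj (x : G) L.1, by
    obtain ⟨z, hz, e⟩ := L.2
    exact ⟨x * z, mul_mem x.2 hz, by rw [e, cj_mul]⟩⟩
  one_smul L := Subtype.ext (cj_one _)
  mul_smul x z L := Subtype.ext (cj_mul _ _ _)

/-- the stabiliser of `e` centralises `A_k` on `M` -/
theorem hst_of {k : N} {P : Subgroup G} (hPR : P ≤ centralizer (R i : Set G))
    (hPN : ∀ x : NR R i, (x : G) ∈ P → ∀ m ∈ Ng (p (v 0 1)) n (fun a b => sf a b) k,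
      x • m ∈ Ng (p (v 0 1)) n (fun a b => sf a b) k)
    (hmul : ∀ x : NR R i, (x : G) ∈ P → (x : G) ∈ normalizer (V : Set G) → ∀ ε c' : F,
      x • p (v 0 1) = ε • p (v 0 1) → x • n k - c' • n k ∈ h.fr.sb (DD V R) → ε * c' = 1)
    {x : NR R i} (hx : (x : G) ∈ P) (hxV : (x : G) ∈ normalizer (V : Set G)) (c : F) (m : M) :
    x • alp h y (c • k) m = alp h y (c • k) (x • m) := by
  have b := h.bt
  have hxC := hPR hx
  obtain ⟨w, hw, hwj⟩ := exists_W_mul b h.co.ne hxC hxV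
  have hwN : w ∈ normalizer (R i : Set G) := b.W_le_N i hw
  have hwC : w ∈ centralizer (R i : Set G) := by
    rw [mem_centralizer_iff]
    exact fun z hz => (b.QR i w (b.W_le_Q i hw) z hz).symm
  set x' : NR R i := ⟨w, hwN⟩⁻¹ * x with hx'
  have hact : ∀ m : M, x' • m = x • m := by
    intro m
    have h1 : (⟨w, hwN⟩ : NR R i) • x' • m = x • m := by
      rw [hx', ← mul_smul, mul_inv_cancel_left]
    rwa [h.fr.W_act b hw] at h1
  have hx'C : (x' : G) ∈ centralizer (R i : Set G) := mul_mem (inv_mem hwC) hxC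
  have hx'V : (x' : G) ∈ normalizer (V : Set G) := mul_mem (inv_mem (b.W_le_NV i hw)) hxV
  have hx'j : cj (x' : G) (R j) = R j := hwj
  -- `ε`
  obtain ⟨ε, hε⟩ : ∃ ε : F, x • p (v 0 1) = ε • p (v 0 1) := by
    have hv : v 0 1 ∈ V := h.co.v_mem _ _
    obtain ⟨β, γ, e1⟩ := (h.co.mem_V _).1 (conj_mem_of_normalizer hxV hv)
    refine ⟨γ, ?_⟩
    rw [h.fr.p_act x _ (V_le_WW V (R i) hv), ← e1, h.p_v]
  -- `c'`
  obtain ⟨c', hc'⟩ : ∃ c' : F, x • n k - c' • n k ∈ h.fr.sb (DD V R) := by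
    obtain ⟨c1, z, hz, c', e1⟩ := mem_Ng.1 (hPN x hx _ n_mem_Ng)
    refine ⟨c', ?_⟩
    rw [e1, add_sub_cancel_right, g.mem_D]
    exact ⟨c1, z, (nfr_of g).Zg_le hz, rfl⟩
  have h1 := hmul x hx hxV ε c' hε hc'
  obtain ⟨a, ha, hak⟩ := exists_ak h y (c • k)
  obtain ⟨h2, h3⟩ := conj_P2 g hx'C hx'V hx'j (by rw [hact]; exact hε) (by rw [hact]; exact hc') ha hak
  rw [h1, one_mul] at h3
  have h5 : ∀ m, alp h y (c • k) m = (x' * a * x'⁻¹) • m := by
    intro m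
    have := alp_apply h y (a := x' * a * x'⁻¹) h2 m
    rw [← this]
    congr 2
    exact h3.symm
  have h6 : alp h y (c • k) m = a • m := by rw [← hak, alp_apply h y ha]
  rw [h6, h5 (x • m)]
  calc x • a • m = x' • a • m := (hact _).symm
    _ = (x' * a * x'⁻¹) • x' • m := by
      rw [mul_smul (x' * a) x'⁻¹ (x' • m), inv_smul_smul]
      exact (mul_smul x' a m).symm
    _ = (x' * a * x'⁻¹) • x • m := by rw [hact]

/-- **(S)** -/
theorem hS_of {k : N} {P : Subgroup G} (hPR : P ≤ centralizer (R i : Set G)) (hUP : UU V R j ≤ P)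
    (hPN : ∀ x : NR R i, (x : G) ∈ P → ∀ m ∈ Ng (p (v 0 1)) n (fun a b => sf a b) k,
      x • m ∈ Ng (p (v 0 1)) n (fun a b => sf a b) k)
    (hK : ∀ l, sf k l = 0 → q k l = 0)
    (htr : ∀ x ∈ P, ∀ x' ∈ P, cj x V ≠ V → cj x' V ≠ V → ∃ a ∈ UU V R j, cj a (cj x V) = cj x' V)
    (hmul : ∀ x : NR R i, (x : G) ∈ P → (x : G) ∈ normalizer (V : Set G) → ∀ ε c' : F,
      x • p (v 0 1) = ε • p (v 0 1) → x • n k - c' • n k ∈ h.fr.sb (DD V R) → ε * c' = 1)
    (hcard : (Module.finrank F (Ng (p (v 0 1)) n (fun a b => sf a b) k) + 1).choose 2 + 1 <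
      Nat.card (Lin V P)) :
    ∀ x : NR R i, (x : G) ∈ P → ∀ a : NR R i, (a : G) ∈ UU V R j → (∃ c : F, P2 (a : G) = c • k) →
      ∀ m : M, x • a • m = a • x • m := by
  have b := h.bt
  have hMf : Finite M := Finite.of_surjective (fun x : WW V (R i) => p x) fun m => by
    obtain ⟨x, hx, e1⟩ := h.fr.p_surj m
    exact ⟨⟨x, hx⟩, e1⟩
  intro x hx a ha hc m
  obtain ⟨c, hak⟩ := hc
  have hle : P ≤ NR R i := hPR.trans (centralizer_le_normalizer _)
  let I1 : DistribMulAction P M := DistribMulAction.compHom M (Subgroup.inclusion hle)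
  have hsm : ∀ (x : P) (m : M), x • m = (⟨x, hle x.2⟩ : NR R i) • m := fun _ _ => rfl
  have I2 : SMulCommClass P F M := ⟨fun x c m => by
    rw [hsm, hsm]
    exact h.lin_cen (hPR x.2) c m⟩
  have hkey : Key (p (v 0 1)) n (fun a b => sf a b) (alp h y) k :=
    (gfr_of g).key_of (g := k) hK (fun l hl r => Eig_ks g hl r) (fun r l => sh_sq g r k l)
  have hLeq : ∀ L L' : Lin V P, L = L' ↔ L.1 = L'.1 := fun L L' => Subtype.ext_iff
  have key := Fixed.main (P := P) (Ω := Lin V P) φ h.phi_symm (fr_of h).nd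
    (fun x m m' => h.phi_cen (g := ⟨x, hle x.2⟩) (hPR x.2) m m')
    (Ng (p (v 0 1)) n (fun a b => sf a b) k)
    (fun x m hm => hPN ⟨x, hle x.2⟩ x.2 m hm)
    (fun m hm m' hm' => (nfr_of g).Ng_isotropic hm hm')
    (alp h y (c • k)) ((gfr_of g).α_f (c • k)) (hkey c)
    ⟨V, 1, one_mem _, (cj_one _).symm⟩
    (fun L => by
      obtain ⟨z, hz, e1⟩ := L.2
      exact ⟨⟨z, hz⟩, Subtype.ext e1.symm⟩)
    ((UU V R j).subgroupOf P) ((b.U_isPGroup j).comap_of_injective P.subtype (Subgroup.subtype_injective P))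
    (fun a ha' => Subtype.ext (cj_eq_self_iff.2 (centralizer_le_normalizer _ (UU_le_cen j ha'))))
    (fun L L' hL hL' => by
      obtain ⟨z, hz, e1⟩ := L.2
      obtain ⟨z', hz', e2⟩ := L'.2
      have hn : cj z V ≠ V := fun e3 => hL (Subtype.ext (e1.trans e3))
      have hn' : cj z' V ≠ V := fun e3 => hL' (Subtype.ext (e2.trans e3))
      obtain ⟨a, ha', e3⟩ := htr z hz z' hz' hn hn'
      refine ⟨⟨a, hUP ha'⟩, ha', Subtype.ext ?_⟩
      show cj a L.1 = L'.1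
      rw [e1, e2, e3])
    (fun x hxe m => by
      have hxV : (x : G) ∈ normalizer (V : Set G) := cj_eq_self_iff.1 (congrArg Subtype.val hxe)
      exact hst_of g hPR hPN hmul (x := ⟨x, hle x.2⟩) x.2 hxV c m)
    hcard ⟨x, hx⟩ m
  have h1 : ∀ m, alp h y (c • k) m = a • m := fun m => by rw [← hak, alp_apply h y ha]
  rw [h1, h1] at key
  exact key

/-- the multiplier condition in type (sigma): determinant -/
theorem hmul_sigma {k : N} (hk0 : k ≠ 0) (hZ : ∀ l, sf k l = 0) {P : Subgroup G}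
    (hPR : P ≤ centralizer (R i : Set G))
    (hPN : ∀ x : NR R i, (x : G) ∈ P → ∀ m ∈ Ng (p (v 0 1)) n (fun a b => sf a b) k,
      x • m ∈ Ng (p (v 0 1)) n (fun a b => sf a b) k)
    (hgen : ∀ H : Subgroup P, (∀ x, (∃ m : ℕ, x ^ 2 ^ m = 1) → x ∈ H) → H = ⊤)
    (x : NR R i) (hx : (x : G) ∈ P) (ε c' : F) (hε : x • p (v 0 1) = ε • p (v 0 1))
    (hc' : x • n k - c' • n k ∈ h.fr.sb (DD V R)) : ε * c' = 1 := by
  have hle : P ≤ NR R i := hPR.trans (centralizer_le_normalizer _)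
  let I1 : DistribMulAction P M := DistribMulAction.compHom M (Subgroup.inclusion hle)
  have hsm : ∀ (x : P) (m : M), x • m = (⟨x, hle x.2⟩ : NR R i) • m := fun _ _ => rfl
  have I2 : SMulCommClass P F M := ⟨fun x c m => by
    rw [hsm, hsm]
    exact h.lin_cen (hPR x.2) c m⟩
  have hspan : ∀ m ∈ Ng (p (v 0 1)) n (fun a b => sf a b) k, ∃ α β : F, m = α • p (v 0 1) + β • n k := by
    intro m hm
    obtain ⟨c, z, hz, r, rfl⟩ := mem_Ng.1 hm
    have hz0 : z = 0 := by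
      have h1 : Zg F (fun a b => sf a b) k ≤ ⊥ := by
        refine Submodule.span_le.2 ?_
        rintro _ ⟨l, rfl⟩
        exact (Submodule.mem_bot F).2 (hZ l)
      exact (Submodule.mem_bot F).1 (h1 hz)
    exact ⟨c, r, by rw [hz0, add_zero]⟩
  have hli : ∀ α β : F, α • p (v 0 1) + β • n k = 0 → α = 0 ∧ β = 0 := by
    intro α β e1
    obtain ⟨h1, -, h2⟩ := g.indep α 0 (β • k) (h.M0 τ).zero_mem (by rw [add_zero, map_smul]; exact e1)
    exact ⟨h1, (smul_eq_zero.1 h2).resolve_right hk0⟩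
  obtain ⟨δ, c2, e2⟩ := hspan _ (hPN x hx _ n_mem_Ng)
  have hcc : c2 = c' := by
    have h1 : n (c2 • k) - n (c' • k) ∈ h.fr.sb (DD V R) := by
      have h2 : n (c2 • k) - n (c' • k) = (x • n k - c' • n k) - δ • p (v 0 1) := by
        rw [e2, map_smul, map_smul]
        abel
      rw [h2]
      exact sub_mem hc' (h.D_smul_e τ δ)
    have h2 := n_of_D g h1
    have h3 : (c2 - c') • k = 0 := by rw [sub_smul, h2, sub_self]
    exact sub_eq_zero.1 ((smul_eq_zero.1 h3).resolve_right hk0)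
  rw [hcc] at e2
  exact Fixed.mul_eq_one_of_two (F := F) (P := P) hgen (Ng (p (v 0 1)) n (fun a b => sf a b) k)
    (fun x m hm => hPN ⟨x, hle x.2⟩ x.2 m hm) e_mem_Ng n_mem_Ng hspan hli ⟨x, hx⟩ hε
    (by rw [hsm]; exact e2.trans (add_comm _ _))

end Cfsg.Agent.Omega.Lie.Nodes
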