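import Cfsg.Agent.Omega.Lie.Nodes.NodeAbsTwo
import Cfsg.Agent.Omega.Lie.Nodes.SInst
import Cfsg.Agent.Omega.Lie.Nodes.KeyInst

/-!
# NODE LIE, TEXT NODES (#14331) (N): the node theorem on `FMod`, `Eig`

`P ≤ C(R i)`, `U j ≤ P`, normalised by the torus, `U j` transitive on the lines `V^x ≠ V` (`x ∈ P`), at least three lines.

* `Eig.nodeFr` : the abstract frame `NodeFr`
* `Eig.node` : the four cases
* `card_om_Lin` : `|Lin V P| (q - 1) = |Om|`
-/

set_option autoImplicit false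
set_option linter.unusedSectionVars false

namespace Cfsg.Agent.Omega.Lie.Nodes

open Subgroup Cfsg.Agent.Omega.BTwo

universe u v w

variable {G : Type u} [Group G] {ι : Type w} {V : Subgroup G} {R : ι → Subgroup G} {i j : ι} {F : Type v}
  [Field F] {v : F → F → G} {w1 w2 : F → G} {M B : Type u} [AddCommGroup M] [AddCommGroup B]
  [DistribMulAction (NR R i) M] [DistribMulAction (NR R i) B] [Module F M] {p : G → M} {r : G → B}
  {f : M →+ M →+ B} {φ : M →ₗ[F] M →ₗ[F] F} {s : NR R i → (F ≃+* F)} [CharP F 2]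

section line

variable (h : FMod V R i j v w1 w2 M B p r f φ s) [Finite G]
include h

/-- `g` normalises `V` iff it fixes the point `⟨e⟩` -/
theorem norm_V_iff {g : NR R i} : (g : G) ∈ normalizer (V : Set G) ↔ ∃ c : F, g • p (v 0 1) = c • p (v 0 1) := by
  have hVW := V_le_WW V (R i)
  constructor
  · intro hg
    have h1 := h.fr.sb_smul hg (h.mem_V.2 ⟨1, one_smul F (p (v 0 1))⟩)
    obtain ⟨c, hc⟩ := h.mem_V.1 h1
    exact ⟨c, hc.symm⟩
  · rintro ⟨c, hc⟩
    refine mem_normalizer_of_conj fun z hz => ?_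
    have h1 : g • p z ∈ h.fr.sb V := by
      obtain ⟨γ, hγ⟩ := h.mem_V.1 (h.fr.p_mem (hVW hz) hz)
      rw [← hγ, h.semi, hc, smul_smul]
      exact h.mem_V.2 ⟨_, rfl⟩
    rw [h.fr.p_act g z (hVW hz)] at h1
    exact (h.fr.p_mem_iff (conj_mem_of_normalizer (normalizer_le_WW V (R i) g.2) (hVW hz)) (h.bt.R_le i)).1 h1

/-- the line `V^x` and the point `⟨x e⟩` -/
theorem line_iff {x x' : NR R i} (hx : (x' : G) ∈ centralizer (R i : Set G)) :
    cj (x : G) V = cj (x' : G) V ↔ ∃ c : F, x • p (v 0 1) = c • (x' • p (v 0 1)) := by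
  have h1 : cj (x : G) V = cj (x' : G) V ↔ ((x'⁻¹ * x : NR R i) : G) ∈ normalizer (V : Set G) := by
    rw [← cj_eq_self_iff]
    constructor
    · intro e
      change cj ((x' : G)⁻¹ * (x : G)) V = V
      rw [cj_mul, e, cj_inv_cj]
    · intro e
      change cj ((x' : G)⁻¹ * (x : G)) V = V at e
      rw [cj_mul] at e
      rw [← e, cj_cj_inv, e]
  rw [h1, norm_V_iff h]
  refine exists_congr fun c => ?_
  rw [mul_smul, inv_smul_eq_iff, h.lin_cen hx]

end line

section inst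

variable [Finite G] [Finite F] {h : FMod V R i j v w1 w2 M B p r f φ s} {t : F → G} {τ : Lie.TorD V R i j v t}
  {N : Type u} [AddCommGroup N] [Module F N] {P1 P2 : G → N} {y : YPair V R i j w1 w2 N P1 P2}
  {n : N →ₗ[F] M} {sf : N →ₗ[F] N →ₗ[F] M} {q : N → N →ₗ[F] F} (g : Eig h τ y n sf q)

/-- the hypotheses on the group `P` of the node -/
structure NodeP (V : Subgroup G) (R : ι → Subgroup G) (i j : ι) (t : F → G) (P : Subgroup G) : Prop where
  cen : P ≤ centralizer (R i : Set G)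
  U_le : UU V R j ≤ P
  tor : ∀ a : F, a ≠ 0 → ∀ x ∈ P, t a * x * (t a)⁻¹ ∈ P
  tr : ∀ x ∈ P, ∀ x' ∈ P, cj x V ≠ V → cj x' V ≠ V → ∃ a ∈ UU V R j, cj a (cj x V) = cj x' V
  three : ∃ x ∈ P, ∃ x' ∈ P, cj x V ≠ V ∧ cj x' V ≠ V ∧ cj x V ≠ cj x' V

variable {P : Subgroup G} (hP : NodeP V R i j t P)

/-- the group `P` in `N(R i)` -/
def PN (R : ι → Subgroup G) (i : ι) (P : Subgroup G) : Subgroup (NR R i) := P.subgroupOf (NR R i)

omit [Finite G] in
theorem mem_PN {x : NR R i} : x ∈ PN R i P ↔ (x : G) ∈ P := Iff.rfl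

include hP

omit [Finite G] [Finite F] [CharP F 2] in
theorem NodeP.le_N : P ≤ NR R i := hP.cen.trans (centralizer_le_normalizer _)

include g

/-- **the frame of the node theorem** -/
theorem nodeFr_of : NodeFr (F := F) (p (v 0 1)) (φ.flip (p (v 0 1))) (h.M0 τ) n (tT τ)
    (fun k => (exists_ak h y k).choose) (fun a d => φ d (n a)) sf (fun a b => q a b) (PN R i P) ⊤ := by
  set e1 : M := p (v 0 1) with he1
  set α : N → NR R i := fun k => (exists_ak h y k).choose with hα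
  have hαU : ∀ k, (α k : G) ∈ UU V R j := fun k => (exists_ak h y k).choose_spec.1
  have hα2 : ∀ k, P2 (α k : G) = k := fun k => (exists_ak h y k).choose_spec.2
  have hcen : ∀ x ∈ PN R i P, (x : G) ∈ centralizer (R i : Set G) := fun x hx => hP.cen hx
  have hom : ∀ x, Om F (PN R i P) e1 x → ∃ z ∈ PN R i P, ∃ c : F, c ≠ 0 ∧ x = c • (z • e1) := fun x hx => hx
  have hne : ∀ {x : M} {z : NR R i} {c : F}, z ∈ PN R i P → c ≠ 0 → x = c • (z • e1) → (∀ c : F, x ≠ c • e1) →
      cj (z : G) V ≠ V := by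
    intro x z c hz hc hx hxe hzV
    obtain ⟨c', hc'⟩ := (norm_V_iff h).1 (cj_eq_self_iff.1 hzV)
    exact hxe (c * c') (by rw [hx, hc', smul_smul])
  exact
    { e_ne := h.e_ne
      perp := fun x hx => (g.mem_U x).1 hx
      indep := g.indep
      T_mul := fun a b x => by rw [tT_mul, mul_smul]
      T_lin := fun a c x => h.T_lin τ a c x
      T_e := fun a => h.T_e τ a
      T_0 := fun a d hd => hd a
      T_1 := fun a k => g.n_mem k a
      T_A := fun c b x => by
        have h1 : ((tT τ c * α b * (tT τ c)⁻¹ : NR R i) : G) ∈ UU V R j := by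
          have h5 : cj (t c) (UU V R j) = UU V R j :=
            h.bt.cj_UU (h.bt.X_le_NV (τ.memX c c.ne_zero)) (cj_eq_self_iff.2 (τ.normR' c.ne_zero))
          rw [← h5]
          exact conj_mem_cj (hαU b)
        have h3 : P2 ((tT τ c * α b * (tT τ c)⁻¹ : NR R i) : G) = P2 (α ((c : F)⁻¹ • b) : G) := by
          change P2 (t c * (α b : G) * (t c)⁻¹) = _
          rw [(y.tor τ h.co h.btc c.ne_zero (UU_le_YY j (hαU b))).2, hα2, hα2]
        rw [← h.act_congr y h1 (hαU _) h3, ← mul_smul (tT τ c * α b * (tT τ c)⁻¹), inv_mul_cancel_right, mul_smul]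
      A_add := fun a b x => by
        have h1 : ((α a * α b : NR R i) : G) ∈ UU V R j := mul_mem (hαU a) (hαU b)
        have h3 : P2 (α (a + b) : G) = P2 ((α a * α b : NR R i) : G) := by
          change _ = P2 ((α a : G) * (α b : G))
          rw [y.mul2 _ (UU_le_YY j (hαU a)) _ (UU_le_YY j (hαU b)), hα2, hα2, hα2]
        rw [h.act_congr y (hαU _) h1 h3, mul_smul]
      A_e := fun a => g.A_e _ (hαU a)
      A_0 := fun a d hd => by
        have h1 := g.A_0 _ (hαU a) d hd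
        rwa [hα2] at h1
      A_1 := fun a b => by
        have h1 := g.A_1 _ (hαU a) b
        rwa [hα2] at h1
      sf_mem := g.sf_mem
      l_add := fun a b d _ => by rw [map_add, map_add]
      l_smul := fun c a d _ => by rw [map_smul, map_smul, smul_eq_mul]
      l_alt := fun k a => g.T_alt k a
      inj := g.inj
      q_add := fun a b k => g.q_add a b k
      q_smul := fun c a k => g.q_smul c a k
      P_lin := fun x hx c m => h.lin_cen (hcen x hx) c m
      A_mem := fun a => hP.U_le (hαU a)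
      P_le := le_top
      T_mem := fun a => mem_top _
      T_norm := fun a x hx => hP.tor a a.ne_zero x hx
      D_stab := fun k _ hk d hd => by
        have hkV := (norm_V_iff h).2 hk
        have h1 : k • d ∈ h.fr.sb (DD V R) :=
          h.fr.sb_smul (h.bt.NV_le_ND hkV) (h.M0_le τ y hd)
        obtain ⟨γ, d', hd', h2⟩ := (g.mem_D _).1 h1
        exact ⟨γ, d', hd', h2⟩
      tr := fun x x' hx hx' hxe hx'e => by
        obtain ⟨z, hz, c, hc, hxz⟩ := hx
        obtain ⟨z', hz', c', hc', hxz'⟩ := hx'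
        obtain ⟨a, ha, haz⟩ := hP.tr z hz z' hz' (hne hz hc hxz hxe) (hne hz' hc' hxz' hx'e)
        have haN : a ∈ NR R i := h.bt.cen_le_N i (UU_le_cen j ha)
        rw [← cj_mul] at haz
        obtain ⟨d, hd⟩ := (line_iff h (x := ⟨a, haN⟩ * z) (x' := z') (hcen z' hz')).1 haz
        refine ⟨P2 a, c * d * c'⁻¹, ?_⟩
        have h1 : α (P2 a) • x = (⟨a, haN⟩ : NR R i) • x :=
          h.act_congr y (g := α (P2 a)) (g' := ⟨a, haN⟩) (hαU _) ha (hα2 _) x
        rw [h1, hxz, h.lin_cen (cen_of_U h y (a := ⟨a, haN⟩) ha), ← mul_smul, hd, hxz', smul_smul, smul_smul,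
          mul_assoc (c * d), inv_mul_cancel₀ hc', mul_one]
      three := by
        obtain ⟨x, hx, x', hx', h1, h2, h3⟩ := hP.three
        have hxN := hP.le_N hx
        have hxN' := hP.le_N hx'
        refine ⟨(⟨x, hxN⟩ : NR R i) • e1, (⟨x', hxN'⟩ : NR R i) • e1, ⟨⟨x, hxN⟩, hx, 1, one_ne_zero, by rw [one_smul]⟩,
          ⟨⟨x', hxN'⟩, hx', 1, one_ne_zero, by rw [one_smul]⟩, fun c hc => h1 ?_, fun c hc => h2 ?_, fun c hc => h3 ?_⟩
        · exact cj_eq_self_iff.2 ((norm_V_iff h (g := ⟨x, hxN⟩)).2 ⟨c, hc⟩)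
        · exact cj_eq_self_iff.2 ((norm_V_iff h (g := ⟨x', hxN'⟩)).2 ⟨c, hc⟩)
        · exact ((line_iff h (x := ⟨x', hxN'⟩) (x' := ⟨x, hxN⟩) (hP.cen hx)).2 ⟨c, hc⟩).symm }

/-- the number of lines -/
theorem card_om_Lin : Nat.card {m : M // Om F (PN R i P) (p (v 0 1)) m} = (Nat.card F - 1) * Nat.card (Lin V P) := by
  rw [(nodeFr_of g hP).card_om]
  congr 1
  set S := stP F (PN R i P) (p (v 0 1)) (nodeFr_of g hP).P_lin with hS
  rw [relIndex, index_eq_card]
  refine Nat.card_congr (Equiv.ofBijective (fun x : PN R i P ⧸ S.subgroupOf (PN R i P) =>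
    Quotient.liftOn' x (fun x => (⟨cj ((x : NR R i) : G) V, ((x : NR R i) : G), x.2, rfl⟩ : Lin V P)) ?_) ⟨?_, ?_⟩)
  · intro x x' hxx
    rw [QuotientGroup.leftRel_apply, mem_subgroupOf] at hxx
    apply Subtype.ext
    have h1 : ((x⁻¹ * x' : PN R i P) : NR R i) ∈ S := hxx
    obtain ⟨-, c, -, hc⟩ := h1
    have h2 := (norm_V_iff h (g := ((x⁻¹ * x' : PN R i P) : NR R i))).2 ⟨c, hc⟩
    rw [← cj_eq_self_iff] at h2
    change cj (((x : NR R i) : G)⁻¹ * ((x' : NR R i) : G)) V = V at h2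
    rw [cj_mul] at h2
    change cj _ V = cj _ V
    nth_rewrite 1 [← h2]
    rw [cj_cj_inv]
  · intro x x'
    induction x using Quotient.inductionOn' with
    | h x =>
    induction x' using Quotient.inductionOn' with
    | h x' =>
    intro hxx
    have h1 : cj ((x : NR R i) : G) V = cj ((x' : NR R i) : G) V := congrArg Subtype.val hxx
    refine Quotient.sound' ?_
    rw [QuotientGroup.leftRel_apply, mem_subgroupOf]
    have h2 : ((x⁻¹ * x' : PN R i P) : NR R i) ∈ PN R i P := (x⁻¹ * x').2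
    have h3 : (((x⁻¹ * x' : PN R i P) : NR R i) : G) ∈ normalizer (V : Set G) := by
      rw [← cj_eq_self_iff]
      change cj (((x : NR R i) : G)⁻¹ * ((x' : NR R i) : G)) V = V
      rw [cj_mul, ← h1, cj_inv_cj]
    obtain ⟨c, hc⟩ := (norm_V_iff h).1 h3
    refine ⟨h2, c, ?_, hc⟩
    rintro rfl
    rw [zero_smul] at hc
    apply h.e_ne
    rw [← inv_smul_smul ((x⁻¹ * x' : PN R i P) : NR R i) (p (v 0 1)), hc, smul_zero]
  · rintro ⟨L, x, hx, rfl⟩
    exact ⟨Quotient.mk'' ⟨⟨x, hP.le_N hx⟩, hx⟩, rfl⟩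

end inst

end Cfsg.Agent.Omega.Lie.Nodes
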