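import Cfsg.Agent.Omega.Lie.Nodes.SInst

/-!
# NODE LIE, TEXT NODES (#14331): (S), type (beta): the multiplier

`qN`: `q_N(c e + z + c' n_k) = c c' + Q(z)`, `Q(sf k l) = q l k`, on `N = N_k`.  If `Ω = e^P` consists of `⟨e⟩` and of the
`⟨n_k + sf k l + q l k e⟩`, `Q` is anisotropic and some `m ∈ P` swaps `⟨e⟩` and `⟨n_k⟩`, then `P` preserves `q_N` up to
scalars (`qN_P`); so `hmul_beta` if `P` is generated by 2-elements.
-/

set_option autoImplicit false
set_option linter.unusedSectionVars false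

namespace Cfsg.Agent.Omega.Lie.Nodes

open Subgroup Cfsg.Agent.Omega.BTwo

universe u v w

/-- a polynomial of degree 3 without constant term vanishing everywhere, `q ≥ 4` -/
theorem cubic_zero {F : Type v} [Field F] [CharP F 2] {A B C ζ : F} (h0 : ζ ≠ 0) (h1 : ζ ≠ 1)
    (h : ∀ l : F, l * A + l * l * B + l * l * l * C = 0) : A = 0 ∧ B = 0 ∧ C = 0 := by
  have h2 : (2 : F) = 0 := CharTwo.two_eq_zero
  have e1 := h 1
  have e2 := h ζ
  have e3 := h (ζ + 1)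
  have e2' : A + ζ * B + ζ * ζ * C = 0 := by
    have : ζ * (A + ζ * B + ζ * ζ * C) = 0 := by linear_combination e2
    exact (mul_eq_zero.1 this).resolve_left h0
  have hz1 : ζ + 1 ≠ 0 := by
    intro h3
    apply h1
    have : ζ = -1 := eq_neg_of_add_eq_zero_left h3
    rw [this, CharTwo.neg_eq]
  have e3' : A + (ζ + 1) * B + (ζ + 1) * (ζ + 1) * C = 0 := by
    have : (ζ + 1) * (A + (ζ + 1) * B + (ζ + 1) * (ζ + 1) * C) = 0 := by linear_combination e3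
    exact (mul_eq_zero.1 this).resolve_left hz1
  have hA : A = 0 := by
    linear_combination e1 + e2' + e3' - (A + (ζ + 1) * B + (ζ * ζ + ζ + 1) * C) * h2
  have hBC : B + C = 0 := by linear_combination e1 - hA
  have hC : (ζ - 1) * C = 0 := by
    have : ζ * (B + ζ * C) = 0 := by linear_combination e2' - hA
    have h3 := (mul_eq_zero.1 this).resolve_left h0
    linear_combination h3 - hBC
  have hC0 := (mul_eq_zero.1 hC).resolve_left (sub_ne_zero.2 h1)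
  exact ⟨hA, by rw [hC0, add_zero] at hBC; exact hBC, hC0⟩

variable {G : Type u} [Group G] {ι : Type w} {V : Subgroup G} {R : ι → Subgroup G} {i j : ι} {F : Type v}
  [Field F] {v : F → F → G} {w1 w2 : F → G} {M B : Type u} [AddCommGroup M] [AddCommGroup B]
  [DistribMulAction (NR R i) M] [DistribMulAction (NR R i) B] [Module F M] {p : G → M} {r : G → B}
  {f : M →+ M →+ B} {φ : M →ₗ[F] M →ₗ[F] F} {s : NR R i → (F ≃+* F)} [CharP F 2]
  [Finite G] [Finite F] {h : FMod V R i j v w1 w2 M B p r f φ s} {t : F → G} {τ : Lie.TorD V R i j v t}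
  {N : Type u} [AddCommGroup N] [Module F N] {P1 P2 : G → N} {y : YPair V R i j w1 w2 N P1 P2}
  {n : N →ₗ[F] M} {sf : N →ₗ[F] N →ₗ[F] M} {q : N → N →ₗ[F] F}

open Classical in
/-- the quadratic form `q_N` -/
noncomputable def qN (e : M) (n : N →ₗ[F] M) (sf : N →ₗ[F] N →ₗ[F] M) (q : N → N →ₗ[F] F) (k : N) (m : M) : F :=
  if H : ∃ c : F, ∃ l : N, ∃ c' : F, m = c • e + sf k l + c' • n k then
    H.choose * H.choose_spec.choose_spec.choose + q H.choose_spec.choose k else 0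

variable (g : Eig h τ y n sf q)
include g

theorem q_zero (k : N) : q 0 k = 0 := by
  have := g.q_smul 0 0 k
  rw [zero_smul] at this
  rw [this]; ring

theorem qN_eq {k : N} (hk0 : k ≠ 0) (hK : ∀ l, sf k l = 0 → q l k = 0) (c : F) (l : N) (c' : F) :
    qN (p (v 0 1)) n sf q k (c • p (v 0 1) + sf k l + c' • n k) = c * c' + q l k := by
  have H : ∃ c₁ : F, ∃ l₁ : N, ∃ c₁' : F, c • p (v 0 1) + sf k l + c' • n k =
      c₁ • p (v 0 1) + sf k l₁ + c₁' • n k := ⟨c, l, c', rfl⟩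
  unfold qN
  rw [dif_pos H]
  set c₁ := H.choose
  set l₁ := H.choose_spec.choose
  set c₁' := H.choose_spec.choose_spec.choose
  have e1 : c • p (v 0 1) + sf k l + c' • n k = c₁ • p (v 0 1) + sf k l₁ + c₁' • n k :=
    H.choose_spec.choose_spec.choose_spec
  obtain ⟨h1, h2, h3⟩ := g.indep (c₁ - c) (sf k (l₁ - l)) ((c₁' - c') • k) (g.sf_mem _ _) (by
    rw [sub_smul, map_sub, map_smul, sub_smul]
    have : c₁ • p (v 0 1) - c • p (v 0 1) + (sf k l₁ - sf k l) + (c₁' • n k - c' • n k) =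
      (c₁ • p (v 0 1) + sf k l₁ + c₁' • n k) - (c • p (v 0 1) + sf k l + c' • n k) := by abel
    rw [this, e1, sub_self])
  have h4 : c₁' = c' := sub_eq_zero.1 ((smul_eq_zero.1 h3).resolve_right hk0)
  have h5 : q l₁ k = q l k := by
    have e2 : l₁ = l + (l₁ - l) := by abel
    have e3 := g.q_add l (l₁ - l) k
    rw [← e2, hK _ h2, h2, map_zero, LinearMap.zero_apply, add_zero, add_zero] at e3
    exact e3
  have h6 : c₁ = c := sub_eq_zero.1 h1
  change c₁ * c₁' + q l₁ k = c * c' + q l k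
  rw [h6, h4, h5]

theorem mem_Ng' {k : N} {m : M} : m ∈ Ng (p (v 0 1)) n (fun a b => sf a b) k ↔
    ∃ c : F, ∃ l : N, ∃ c' : F, m = c • p (v 0 1) + sf k l + c' • n k := by
  rw [mem_Ng]
  constructor
  · rintro ⟨c, z, hz, r, rfl⟩
    obtain ⟨l, rfl⟩ : ∃ l, sf k l = z := by
      refine Submodule.span_induction (p := fun z _ => ∃ l, sf k l = z) ?_ ?_ ?_ ?_ hz
      · rintro _ ⟨l, rfl⟩
        exact ⟨l, rfl⟩
      · exact ⟨0, map_zero _⟩
      · rintro _ _ _ _ ⟨l, rfl⟩ ⟨l', rfl⟩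
        exact ⟨l + l', map_add _ _ _⟩
      · rintro a _ _ ⟨l, rfl⟩
        exact ⟨a • l, map_smul _ _ _⟩
    exact ⟨c, l, r, rfl⟩
  · rintro ⟨c, l, r, rfl⟩
    exact ⟨c, _, s_mem_Zg l, r, rfl⟩

/-- the action of `A` on `N_k` -/
theorem A_N {a : NR R i} (ha : (a : G) ∈ UU V R j) (k : N) (c : F) (l : N) (d : F) :
    a • (c • p (v 0 1) + sf k l + d • n k) =
      (c + φ (sf k l) (n (P2 (a : G))) + d * q (P2 (a : G)) k) • p (v 0 1) + sf k (l + d • P2 (a : G)) + d • n k := by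
  have hC := cen_of_U h y ha
  rw [smul_add, smul_add, h.lin_cen hC, h.lin_cen hC, g.A_e a ha, g.A_0 a ha _ (g.sf_mem _ _), g.A_1 a ha,
    map_add, map_smul]
  module

theorem qN_A {a : NR R i} (ha : (a : G) ∈ UU V R j) {k : N} (hk0 : k ≠ 0) (hK : ∀ l, sf k l = 0 → q l k = 0)
    {m : M} (hm : m ∈ Ng (p (v 0 1)) n (fun a b => sf a b) k) :
    qN (p (v 0 1)) n sf q k (a • m) = qN (p (v 0 1)) n sf q k m := by
  obtain ⟨c, l, d, rfl⟩ := (mem_Ng' g).1 hm
  rw [A_N g ha, qN_eq g hk0 hK, qN_eq g hk0 hK, g.q_add, g.q_smul, map_smul, map_smul, LinearMap.smul_apply,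
    g.T_23 k (P2 (a : G)) l, smul_eq_mul]
  have h2 : (2 : F) = 0 := CharTwo.two_eq_zero
  linear_combination (d * φ (sf k l) (n (P2 (a : G))) + d ^ 2 * q (P2 (a : G)) k) * h2

section P

variable {P : Subgroup G} (hPR : P ≤ centralizer (R i : Set G)) (hUP : UU V R j ≤ P) {k : N} (hk0 : k ≠ 0)
  (hK : ∀ l, sf k l = 0 → q l k = 0)
  (hPN : ∀ x : NR R i, (x : G) ∈ P → ∀ m ∈ Ng (p (v 0 1)) n (fun a b => sf a b) k,
      x • m ∈ Ng (p (v 0 1)) n (fun a b => sf a b) k)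
  (hΩ : ∀ x : NR R i, (x : G) ∈ P → (∃ ε : F, x • p (v 0 1) = ε • p (v 0 1)) ∨
      ∃ c : F, ∃ l : N, x • p (v 0 1) = c • (n k + sf k l + q l k • p (v 0 1)))
  {m₀ : NR R i} (hm₀ : (m₀ : G) ∈ P) {β γ : F} (hβ : β ≠ 0) (hγ : γ ≠ 0)
  (hm1 : m₀ • p (v 0 1) = β • n k) (hm2 : m₀ • n k = γ • p (v 0 1))

include hk0 hK hΩ in
theorem qN_orbit {x : NR R i} (hx : (x : G) ∈ P) (c : F) :
    qN (p (v 0 1)) n sf q k (c • x • p (v 0 1)) = 0 := by
  rcases hΩ x hx with ⟨ε, e1⟩ | ⟨c1, l, e1⟩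
  · have e2 : c • x • p (v 0 1) = (c * ε) • p (v 0 1) + sf k 0 + (0 : F) • n k := by
      rw [e1, map_zero, zero_smul, add_zero, add_zero, smul_smul]
    rw [e2, qN_eq g hk0 hK, q_zero g, mul_zero, add_zero]
  · have e2 : c • x • p (v 0 1) = (c * c1 * q l k) • p (v 0 1) + sf k ((c * c1) • l) + (c * c1) • n k := by
      rw [e1, map_smul]
      module
    rw [e2, qN_eq g hk0 hK, g.q_smul]
    have h2 : (2 : F) = 0 := CharTwo.two_eq_zero
    linear_combination (c * c1 * (c * c1) * q l k) * h2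

include hPR hUP hk0 hK hΩ hm₀ hβ hm1 in
/-- `q_N (x (n_k + λ z + λ² Q(z) e)) = 0` -/
theorem qN_curve {x : NR R i} (hx : (x : G) ∈ P) (l : N) (a : F) :
    qN (p (v 0 1)) n sf q k (x • ((a * a * q l k) • p (v 0 1) + sf k (a • l) + n k)) = 0 := by
  obtain ⟨u, hu, huk⟩ := exists_ak h y (a • l)
  have e1 : (a * a * q l k) • p (v 0 1) + sf k (a • l) + n k = u • n k := by
    rw [g.A_1 u hu, huk, g.q_smul]
    module
  have e2 : n k = β⁻¹ • m₀ • p (v 0 1) := by rw [hm1, smul_smul, inv_mul_cancel₀ hβ, one_smul]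
  have huC := cen_of_U h y hu
  have hxC := hPR hx
  have e3 : x • u • n k = β⁻¹ • (x * u * m₀) • p (v 0 1) := by
    rw [e2, h.lin_cen huC, h.lin_cen hxC, mul_smul, mul_smul]
  rw [e1, e3]
  exact qN_orbit g hk0 hK hΩ (mul_mem (mul_mem hx (hUP hu)) hm₀) _

include hPR hUP hk0 hK hPN hΩ hm₀ hβ hm1 in
/-- an element fixing `⟨e⟩` and `⟨n_k⟩` -/
theorem qN_fix (han : ∀ l, q l k = 0 → sf k l = 0) {x : NR R i} (hx : (x : G) ∈ P) {ε c' : F} (hε0 : ε ≠ 0)
    (hc0 : c' ≠ 0) (hε : x • p (v 0 1) = ε • p (v 0 1)) (hc' : x • n k = c' • n k)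
    {m : M} (hm : m ∈ Ng (p (v 0 1)) n (fun a b => sf a b) k) :
    qN (p (v 0 1)) n sf q k (x • m) = (ε * c') * qN (p (v 0 1)) n sf q k m := by
  have hxC := hPR hx
  obtain ⟨ζ, hζ, hζ1⟩ := h.four
  have h2 : (2 : F) = 0 := CharTwo.two_eq_zero
  have key : ∀ l, ∃ l', x • sf k l = sf k l' ∧ q l' k = ε * c' * q l k := by
    intro l
    by_cases hQ : q l k = 0
    · refine ⟨0, ?_, ?_⟩
      · rw [han l hQ, smul_zero, map_zero]
      · rw [q_zero g, hQ, mul_zero]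
    obtain ⟨c1, l1, c2, e1⟩ := (mem_Ng' g).1 (hPN x hx _ (Zg_le_Ng (s_mem_Zg l)))
    have e1' : x • sf k l = c1 • p (v 0 1) + sf k l1 + c2 • n k := e1
    have h3 : ∀ a : F, a * (c1 * c') + a * a * (c1 * c2 + ε * q l k * c' + q l1 k) +
        a * a * a * (ε * q l k * c2) = 0 := by
      intro a
      have h4 := qN_curve g hPR hUP hk0 hK hΩ hm₀ hβ hm1 hx l a
      have e2 : x • ((a * a * q l k) • p (v 0 1) + sf k (a • l) + n k) =
          (a * a * q l k * ε + a * c1) • p (v 0 1) + sf k (a • l1) + (a * c2 + c') • n k := by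
        rw [smul_add, smul_add, h.lin_cen hxC, hε, map_smul, h.lin_cen hxC, e1', hc', map_smul]
        module
      rw [e2, qN_eq g hk0 hK, g.q_smul] at h4
      linear_combination h4
    obtain ⟨hA, hB, hC⟩ := cubic_zero hζ hζ1 h3
    have hc1 : c1 = 0 := (mul_eq_zero.1 hA).resolve_right hc0
    have hc2 : c2 = 0 := (mul_eq_zero.1 hC).resolve_left (mul_ne_zero hε0 hQ)
    refine ⟨l1, ?_, ?_⟩
    · rw [e1', hc1, hc2, zero_smul, zero_smul, zero_add, add_zero]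
    · rw [hc1, zero_mul, zero_add] at hB
      linear_combination hB - ε * q l k * c' * h2
  obtain ⟨c, l, d, rfl⟩ := (mem_Ng' g).1 hm
  obtain ⟨l', e1, e2⟩ := key l
  have e3 : x • (c • p (v 0 1) + sf k l + d • n k) = (c * ε) • p (v 0 1) + sf k l' + (d * c') • n k := by
    rw [smul_add, smul_add, h.lin_cen hxC, hε, e1, h.lin_cen hxC, hc', smul_smul, smul_smul]
  rw [e3, qN_eq g hk0 hK, qN_eq g hk0 hK, e2]
  ring

include hPR hUP hk0 hK hPN hΩ hm₀ hβ hγ hm1 hm2 in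
/-- the element swapping `⟨e⟩` and `⟨n_k⟩` -/
theorem qN_swap (han : ∀ l, q l k = 0 → sf k l = 0)
    {m : M} (hm : m ∈ Ng (p (v 0 1)) n (fun a b => sf a b) k) :
    qN (p (v 0 1)) n sf q k (m₀ • m) = (β * γ) * qN (p (v 0 1)) n sf q k m := by
  have hxC := hPR hm₀
  obtain ⟨ζ, hζ, hζ1⟩ := h.four
  have h2 : (2 : F) = 0 := CharTwo.two_eq_zero
  have key : ∀ l, ∃ l', m₀ • sf k l = sf k l' ∧ q l' k = β * γ * q l k := by
    intro l
    by_cases hQ : q l k = 0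
    · refine ⟨0, ?_, ?_⟩
      · rw [han l hQ, smul_zero, map_zero]
      · rw [q_zero g, hQ, mul_zero]
    obtain ⟨c1, l1, c2, e1⟩ := (mem_Ng' g).1 (hPN m₀ hm₀ _ (Zg_le_Ng (s_mem_Zg l)))
    have e1' : m₀ • sf k l = c1 • p (v 0 1) + sf k l1 + c2 • n k := e1
    have h3 : ∀ a : F, a * (γ * c2) + a * a * (c1 * c2 + γ * q l k * β + q l1 k) +
        a * a * a * (c1 * q l k * β) = 0 := by
      intro a
      have h4 := qN_curve g hPR hUP hk0 hK hΩ hm₀ hβ hm1 hm₀ l a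
      have e2 : m₀ • ((a * a * q l k) • p (v 0 1) + sf k (a • l) + n k) =
          (γ + a * c1) • p (v 0 1) + sf k (a • l1) + (a * c2 + a * a * q l k * β) • n k := by
        rw [smul_add, smul_add, h.lin_cen hxC, hm1, map_smul, h.lin_cen hxC, e1', hm2, map_smul]
        module
      rw [e2, qN_eq g hk0 hK, g.q_smul] at h4
      linear_combination h4
    obtain ⟨hA, hB, hC⟩ := cubic_zero hζ hζ1 h3
    have hc2 : c2 = 0 := (mul_eq_zero.1 hA).resolve_left hγ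
    have hc1 : c1 = 0 := by
      rcases mul_eq_zero.1 hC with h5 | h5
      · exact (mul_eq_zero.1 h5).resolve_right hQ
      · exact absurd h5 hβ
    refine ⟨l1, ?_, ?_⟩
    · rw [e1', hc1, hc2, zero_smul, zero_smul, zero_add, add_zero]
    · rw [hc1, zero_mul, zero_add] at hB
      linear_combination hB - γ * q l k * β * h2
  obtain ⟨c, l, d, rfl⟩ := (mem_Ng' g).1 hm
  obtain ⟨l', e1, e2⟩ := key l
  have e3 : m₀ • (c • p (v 0 1) + sf k l + d • n k) = (d * γ) • p (v 0 1) + sf k l' + (c * β) • n k := by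
    rw [smul_add, smul_add, h.lin_cen hxC, hm1, e1, h.lin_cen hxC, hm2, smul_smul, smul_smul]
    abel
  rw [e3, qN_eq g hk0 hK, qN_eq g hk0 hK, e2]
  ring

include hPR hUP hk0 hK hPN hΩ hm₀ hβ hγ hm1 hm2 in
/-- an element fixing `⟨e⟩` -/
theorem qN_stab (han : ∀ l, q l k = 0 → sf k l = 0) {x : NR R i} (hx : (x : G) ∈ P) {ε : F}
    (hε : x • p (v 0 1) = ε • p (v 0 1)) : ∃ μ : F, ∀ m ∈ Ng (p (v 0 1)) n (fun a b => sf a b) k,
    qN (p (v 0 1)) n sf q k (x • m) = μ * qN (p (v 0 1)) n sf q k m := by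
  have hxC := hPR hx
  have hε0 : ε ≠ 0 := by
    intro h0
    rw [h0, zero_smul, smul_eq_zero_iff_eq] at hε
    exact h.e_ne hε
  have hnk : n k = β⁻¹ • m₀ • p (v 0 1) := by rw [hm1, smul_smul, inv_mul_cancel₀ hβ, one_smul]
  have hxn : x • n k = β⁻¹ • (x * m₀) • p (v 0 1) := by rw [hnk, h.lin_cen hxC, mul_smul]
  rcases hΩ (x * m₀) (mul_mem hx hm₀) with ⟨ε', e1⟩ | ⟨c, l, e1⟩
  · exfalso
    rw [e1, smul_smul] at hxn
    have h1 : n k = (β⁻¹ * ε' * ε⁻¹) • p (v 0 1) := by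
      have h2 : x • n k = x • ((β⁻¹ * ε' * ε⁻¹) • p (v 0 1)) := by
        rw [hxn, h.lin_cen hxC, hε, smul_smul, mul_assoc, mul_assoc, inv_mul_cancel₀ hε0, mul_one]
      exact MulAction.injective x h2
    obtain ⟨-, -, h3⟩ := g.indep (-(β⁻¹ * ε' * ε⁻¹)) 0 k (h.M0 τ).zero_mem (by
      rw [h1, neg_smul]; abel)
    exact hk0 h3
  · obtain ⟨a, ha, hak⟩ := exists_ak h y l
    have haC := cen_of_U h y ha
    have e2 : a • n k = n k + sf k l + q l k • p (v 0 1) := by rw [g.A_1 a ha, hak]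
    rw [e1, ← e2, smul_smul] at hxn
    have hc0 : β⁻¹ * c ≠ 0 := by
      intro h0
      rw [h0, zero_smul, smul_eq_zero_iff_eq] at hxn
      apply hk0
      exact (g.indep 0 0 k (h.M0 τ).zero_mem (by rw [zero_smul, hxn]; abel)).2.2
    have hx1 : ((a⁻¹ * x : NR R i) : G) ∈ P := mul_mem (inv_mem (hUP ha)) hx
    have f1 : (a⁻¹ * x) • p (v 0 1) = ε • p (v 0 1) := by
      rw [mul_smul, inv_smul_eq_iff, h.lin_cen haC, g.A_e a ha, hε]
    have f2 : (a⁻¹ * x) • n k = (β⁻¹ * c) • n k := by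
      rw [mul_smul, inv_smul_eq_iff, h.lin_cen haC, hxn]
    refine ⟨ε * (β⁻¹ * c), fun m hm => ?_⟩
    rw [← qN_fix g hPR hUP hk0 hK hPN hΩ hm₀ hβ hm1 han hx1 hε0 hc0 f1 f2 hm,
      ← qN_A g ha hk0 hK (hPN _ hx1 m hm), mul_smul, smul_inv_smul]

include hPR hUP hk0 hK hPN hΩ hm₀ hβ hγ hm1 hm2 in
/-- **`P` preserves `q_N` up to scalars** -/
theorem qN_P (han : ∀ l, q l k = 0 → sf k l = 0) {x : NR R i} (hx : (x : G) ∈ P) :
    ∃ μ : F, ∀ m ∈ Ng (p (v 0 1)) n (fun a b => sf a b) k,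
    qN (p (v 0 1)) n sf q k (x • m) = μ * qN (p (v 0 1)) n sf q k m := by
  rcases hΩ x hx with ⟨ε, e1⟩ | ⟨c, l, e1⟩
  · exact qN_stab g hPR hUP hk0 hK hPN hΩ hm₀ hβ hγ hm1 hm2 han hx e1
  · obtain ⟨a, ha, hak⟩ := exists_ak h y l
    have haC := cen_of_U h y ha
    have e2 : a • n k = n k + sf k l + q l k • p (v 0 1) := by rw [g.A_1 a ha, hak]
    rw [← e2] at e1
    set x3 : NR R i := m₀ * a⁻¹ * x with hx3
    have hx3P : (x3 : G) ∈ P := mul_mem (mul_mem hm₀ (inv_mem (hUP ha))) hx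
    have f1 : x3 • p (v 0 1) = (c * γ) • p (v 0 1) := by
      have haC' : ((a⁻¹ : NR R i) : G) ∈ centralizer (R i : Set G) := inv_mem haC
      rw [hx3, mul_smul, mul_smul, e1, h.lin_cen haC', inv_smul_smul, h.lin_cen (hPR hm₀), hm2, smul_smul]
    obtain ⟨μ, hμ⟩ := qN_stab g hPR hUP hk0 hK hPN hΩ hm₀ hβ hγ hm1 hm2 han hx3P f1
    refine ⟨(β * γ)⁻¹ * μ, fun m hm => ?_⟩
    have hβγ : β * γ ≠ 0 := mul_ne_zero hβ hγ
    have hain : ((a⁻¹ * x : NR R i) : G) ∈ P := mul_mem (inv_mem (hUP ha)) hx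
    have e3 : qN (p (v 0 1)) n sf q k (x • m) = qN (p (v 0 1)) n sf q k ((a⁻¹ * x) • m) := by
      rw [← qN_A g ha hk0 hK (hPN _ hain m hm), mul_smul, smul_inv_smul]
    have e4 := qN_swap g hPR hUP hk0 hK hPN hΩ hm₀ hβ hγ hm1 hm2 han (hPN _ hain m hm)
    have e5 : m₀ • (a⁻¹ * x) • m = x3 • m := by rw [hx3, ← mul_smul, mul_assoc]
    rw [e5, hμ m hm] at e4
    rw [e3, mul_assoc, e4, ← mul_assoc, inv_mul_cancel₀ hβγ, one_mul]

include hPR hUP hk0 hK hPN hΩ hm₀ hβ hγ hm1 hm2 in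
/-- **the multiplier condition in type (beta)** -/
theorem hmul_beta (han : ∀ l, q l k = 0 → sf k l = 0)
    (hgen : ∀ H : Subgroup P, (∀ x, (∃ m : ℕ, x ^ 2 ^ m = 1) → x ∈ H) → H = ⊤)
    (x : NR R i) (hx : (x : G) ∈ P) (ε c' : F) (hε : x • p (v 0 1) = ε • p (v 0 1))
    (hc' : x • n k - c' • n k ∈ h.fr.sb (DD V R)) : ε * c' = 1 := by
  have hle : P ≤ NR R i := hPR.trans (centralizer_le_normalizer _)
  let I1 : DistribMulAction P M := DistribMulAction.compHom M (Subgroup.inclusion hle)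
  have hsm : ∀ (x : P) (m : M), x • m = (⟨x, hle x.2⟩ : NR R i) • m := fun _ _ => rfl
  have I2 : SMulCommClass P F M := ⟨fun x c m => by
    rw [hsm, hsm]
    exact h.lin_cen (hPR x.2) c m⟩
  have hqe : ∀ c : F, qN (p (v 0 1)) n sf q k (c • p (v 0 1)) = 0 := by
    intro c
    have e1 : c • p (v 0 1) = c • p (v 0 1) + sf k 0 + (0 : F) • n k := by
      rw [map_zero, zero_smul, add_zero, add_zero]
    rw [e1, qN_eq g hk0 hK, q_zero g, mul_zero, add_zero]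
  have hqn : qN (p (v 0 1)) n sf q k (n k) = 0 := by
    have e1 : n k = (0 : F) • p (v 0 1) + sf k 0 + (1 : F) • n k := by
      rw [map_zero, zero_smul, add_zero, zero_add, one_smul]
    rw [e1, qN_eq g hk0 hK, q_zero g, zero_mul, add_zero]
  have hqs : qN (p (v 0 1)) n sf q k (p (v 0 1) + n k) = 1 := by
    have e1 : p (v 0 1) + n k = (1 : F) • p (v 0 1) + sf k 0 + (1 : F) • n k := by
      rw [map_zero, add_zero, one_smul, one_smul]
    rw [e1, qN_eq g hk0 hK, q_zero g, mul_one, add_zero]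
  -- the components of `x n_k`
  obtain ⟨c1, l1, c2, e1⟩ := (mem_Ng' g).1 (hPN x hx _ n_mem_Ng)
  have hcc : c2 = c' := by
    have h1 : n (c2 • k) - n (c' • k) ∈ h.fr.sb (DD V R) := by
      have h2 : n (c2 • k) - n (c' • k) = (x • n k - c' • n k) - (c1 • p (v 0 1) + sf k l1) := by
        rw [e1, map_smul, map_smul]
        abel
      rw [h2]
      exact sub_mem hc' ((g.mem_D _).2 ⟨c1, _, g.sf_mem k l1, rfl⟩)
    have h2 := n_of_D g h1
    have h3 : (c2 - c') • k = 0 := by rw [sub_smul, h2, sub_self]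
    exact sub_eq_zero.1 ((smul_eq_zero.1 h3).resolve_right hk0)
  rw [hcc] at e1
  refine Fixed.mul_eq_one_of_quad (F := F) (P := P) hgen (Ng (p (v 0 1)) n (fun a b => sf a b) k)
    (fun x m hm => hPN ⟨x, hle x.2⟩ x.2 m hm) (qN (p (v 0 1)) n sf q k)
    (fun x => qN_P g hPR hUP hk0 hK hPN hΩ hm₀ hβ hγ hm1 hm2 han (x := ⟨x, hle x.2⟩) x.2)
    (x₀ := p (v 0 1)) (x := n k) e_mem_Ng n_mem_Ng ?_ ⟨x, hx⟩ (ε := ε) (c' := c') ?_
  · have := hqe 1
    rw [one_smul] at this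
    rw [hqs, this, hqn, sub_zero, sub_zero]
    exact one_ne_zero
  · have hq1 := hqe 1
    rw [one_smul] at hq1
    rw [hsm, hsm, hqs, hq1, hqn, sub_zero, sub_zero, mul_one]
    have f1 : (⟨x, hle hx⟩ : NR R i) • p (v 0 1) = ε • p (v 0 1) := hε
    have f2 : (⟨x, hle hx⟩ : NR R i) • n k = c1 • p (v 0 1) + sf k l1 + c' • n k := e1
    have f3 : ε • p (v 0 1) + (c1 • p (v 0 1) + sf k l1 + c' • n k) =
        (ε + c1) • p (v 0 1) + sf k l1 + c' • n k := by module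
    rw [f1, f2, f3, hqe, qN_eq g hk0 hK, qN_eq g hk0 hK]
    ring

end P

end Cfsg.Agent.Omega.Lie.Nodes
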