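import Cfsg.Agent.Omega.Lie.Nodes.FratRes
import Cfsg.Agent.Omega.Lie.Nodes.SInst
import Cfsg.Agent.Omega.Lie.End.ZeroSep

/-!
# NODE LIE, residues `(0, x)`: the field `sep`

`z = t (m t m⁻¹)`, `m ∈ P x ∩ C(R i)` swapping the lines `V`, `V'` fixed by `T`: `z` is a scalar on `N`, hence in the kernel
of the panel of `x`, and it is `(a², 1)` resp. `(a², a⁻¹)` on `V`: fixed-point-free on `U / Q₀`.
-/

set_option autoImplicit false
set_option linter.unusedSectionVars false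

namespace Cfsg.Agent.Omega.Lie.Nodes

open Subgroup Cfsg.Agent.Omega.BTwo Cfsg.Agent.ParSys

universe u v w

variable {G : Type u} [Group G] {ι : Type w} {V : Subgroup G} {R : ι → Subgroup G} {i j : ι} {F : Type v}
  [Field F] {v : F → F → G} {w1 w2 : F → G} {B U : Subgroup G}

/-- an element of `B` with different scalars on `R i` and `V / R i` is fixed-point-free on `U / Q₀` -/
theorem fpf_of_ratio [CharP F 2] (b : BT V R) (D : Zero.Dat V R i B U) (c : Coord V R i j v w1 w2) {z : G}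
    (hzB : z ∈ B) {a d : F} {ε : F → F} (ha : a ≠ 0) (hd : d ≠ 0) (had : a ≠ d)
    (hz : ∀ p r, z * v p r * z⁻¹ = v (a * p + ε r) (d * r)) :
    ∀ u ∈ U, z * u * z⁻¹ * u⁻¹ ∈ Qk B (Zero.P0 V R B) → u ∈ Qk B (Zero.P0 V R B) := by
  intro u hu hQ
  have hBP : B ≤ Zero.P0 V R B := le_sup_right
  have huB := D.UB hu
  obtain ⟨w, hw, hc⟩ := D.UC u hu
  obtain ⟨s, hs⟩ := c.W1_act w hw
  have hu1 : ∀ p r, u * v p r * u⁻¹ = v (p + s * r) r := by
    intro p r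
    have e : u * v p r * u⁻¹ = w * ((w⁻¹ * u) * v p r * (w⁻¹ * u)⁻¹) * w⁻¹ := by group
    rw [e, ← mem_centralizer_iff.1 hc _ (c.v_mem p r), mul_inv_cancel_right, hs]
  have hu2 : ∀ p r, u⁻¹ * v p r * u = v (p - s * r) r := by
    intro p r
    have h2 := hu1 (p - s * r) r
    rw [sub_add_cancel] at h2
    rw [← h2]
    group
  have hz' : ∀ p r, z⁻¹ * v p r * z = v (a⁻¹ * (p - ε (d⁻¹ * r))) (d⁻¹ * r) := by
    intro p r
    have h2 := hz (a⁻¹ * (p - ε (d⁻¹ * r))) (d⁻¹ * r)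
    rw [mul_inv_cancel_left₀ ha, sub_add_cancel, mul_inv_cancel_left₀ hd] at h2
    rw [← h2]
    group
  have h3 : (z * u * z⁻¹ * u⁻¹) * v 0 1 * (z * u * z⁻¹ * u⁻¹)⁻¹ = v ((a * d⁻¹ - 1) * s) 1 := by
    have e : (z * u * z⁻¹ * u⁻¹) * v 0 1 * (z * u * z⁻¹ * u⁻¹)⁻¹ =
        z * (u * (z⁻¹ * (u⁻¹ * v 0 1 * u) * z) * u⁻¹) * z⁻¹ := by group
    rw [e, hu2, hz', hu1, hz]
    congr 1
    · field_simp
      ring
    · rw [mul_one, mul_inv_cancel₀ hd]
  have h4 := (Zero.mem_Qk_iff b D (hBP (Qk_le _ _ hQ))).1 hQ j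
  have h5 : v ((a * d⁻¹ - 1) * s) 1 ∈ R j := by
    rw [← h3]
    exact BTwo.conj_mem_of_normalizer h4 ((c.mem_R2 _).2 ⟨1, rfl⟩)
  obtain ⟨r, hr⟩ := (c.mem_R2 _).1 h5
  have h6 := (c.v_inj hr).1
  have h7 : s = 0 := by
    rcases mul_eq_zero.1 h6.symm with h9 | h9
    · refine absurd ?_ had
      have h10 : a * d⁻¹ = 1 := sub_eq_zero.1 h9
      field_simp at h10
      exact h10
    · exact h9
  refine Zero.cen_le_Qk b D (hBP huB) ?_
  rw [mem_centralizer_iff]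
  intro x hx
  obtain ⟨p, r, rfl⟩ := (c.mem_V x).1 hx
  have h8 := hu1 p r
  rw [h7, zero_mul, add_zero] at h8
  exact (mul_inv_eq_iff_eq_mul.1 h8).symm

/-- `SepG` from an element of the kernel of the panel `P` -/
theorem sep_of_ker [CharP F 2] [Finite G] (b : BT V R) (D : Zero.Dat V R i B U) (c : Coord V R i j v w1 w2)
    {Px : Subgroup G} (X : NodeX V R i B U Px) {z : G} (hzQ : z ∈ Qk B Px) {a d : F} {ε : F → F} (ha : a ≠ 0)
    (hd : d ≠ 0) (had : a ≠ d) (hz : ∀ p r, z * v p r * z⁻¹ = v (a * p + ε r) (d * r)) :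
    SepG 2 B U Px (Zero.P0 V R B) := by
  have hzB := Qk_le _ _ hzQ
  refine Zero.sepG_of_pow Nat.prime_two X.isP D.UB X.le le_sup_right hzB (n := U.relIndex B) ?_ X.index
    (Hall.pow_relIndex_mem X.norm hzB) (fun u hu => ?_) (fpf_of_ratio b D c hzB ha hd had hz)
  · refine Nat.pos_of_ne_zero fun h0 => ?_
    have h1 := X.index
    rw [h0] at h1
    exact absurd h1 (by decide)
  · have e : z * u * z⁻¹ * u⁻¹ = z * (u * z⁻¹ * u⁻¹) := by group
    rw [e]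
    exact mul_mem hzQ (Qk_conj' (inv_mem hzQ) (X.le (D.UB hu)))

section mod

variable {M E : Type u} [AddCommGroup M] [AddCommGroup E]
  [DistribMulAction (NR R i) M] [DistribMulAction (NR R i) E] [Module F M] {p : G → M} {r : G → E}
  {f : M →+ M →+ E} {φ : M →ₗ[F] M →ₗ[F] F} {s : NR R i → (F ≃+* F)} [CharP F 2]
  (h : FMod V R i j v w1 w2 M E p r f φ s)
include h

/-- an element of `N(R i)` fixing the line `⟨e⟩` of `M` normalises `V` -/
theorem mem_NV_of_e [Finite G] {z : NR R i} {d : F} (hz : z • p (v 0 1) = d • p (v 0 1)) :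
    (z : G) ∈ normalizer (V : Set G) := by
  have b := h.bt
  apply mem_normalizer_of_le
  intro x hx
  have hxW := V_le_WW V (R i) hx
  have hzx : (z : G) * x * (z : G)⁻¹ ∈ WW V (R i) :=
    BTwo.conj_mem_of_normalizer (normalizer_le_WW V (R i) z.2) hxW
  rw [← h.fr.p_mem_iff hzx (b.R_le i), ← h.fr.p_act z x hxW]
  obtain ⟨β, γ, rfl⟩ := (h.co.mem_V x).1 hx
  rw [h.p_v, h.semi, hz, smul_smul]
  exact h.mem_V.2 ⟨_, rfl⟩

/-- an element of `P x` which is a scalar on `N ∋ e` is in the kernel of the panel -/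
theorem mem_Qk_of_scalar [Finite G] {Px : Subgroup G} (X : NodeX V R i B U Px) {N : Submodule F M}
    (hN : ∀ x : NR R i, (x : G) ∈ Px → ∀ m ∈ N, x • m ∈ N) (he : p (v 0 1) ∈ N) {z : NR R i} (hz : (z : G) ∈ Px)
    {d : F} (hzN : ∀ m ∈ N, z • m = d • m) : (z : G) ∈ Qk B Px := by
  intro g hg
  have hgR : g ∈ normalizer (R i : Set G) := X.PR hg
  set g' : NR R i := ⟨g, hgR⟩ with hg'
  refine X.PV (mem_inf.2 ⟨mul_mem (mul_mem (inv_mem hg) hz) hg, ?_⟩)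
  have h1 : (g'⁻¹ * z * g') • p (v 0 1) = s g'⁻¹ d • p (v 0 1) := by
    rw [mul_smul, mul_smul, hzN _ (hN g' hg _ he), h.semi, inv_smul_smul]
  exact mem_NV_of_e h h1

/-- the action on `V` of an element of `N(R i)` which is a scalar on `R i` and fixes the line `⟨e⟩` -/
theorem act_V_of {z : NR R i} {a d : F} (ha : a ≠ 0) (hzR : ∀ β, (z : G) * v β 0 * (z : G)⁻¹ = v (a * β) 0)
    (hz : z • p (v 0 1) = d • p (v 0 1)) :
    ∃ ε : F → F, ∀ β γ, (z : G) * v β γ * (z : G)⁻¹ = v (a * β + ε γ) (d * γ) := by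
  have b := h.bt
  have h1 : ∀ γ, ∃ ε, (z : G) * v 0 γ * (z : G)⁻¹ = v ε (d * γ) := by
    intro γ
    have hxW : v 0 γ ∈ WW V (R i) := V_le_WW V (R i) (h.co.v_mem _ _)
    have hzx : (z : G) * v 0 γ * (z : G)⁻¹ ∈ WW V (R i) :=
      BTwo.conj_mem_of_normalizer (normalizer_le_WW V (R i) z.2) hxW
    have h2 : p ((z : G) * v 0 γ * (z : G)⁻¹) = p (v 0 (d * γ)) := by
      rw [← h.fr.p_act z _ hxW, h.p_v 0 γ, h.p_v 0 (d * γ), h.lin ha hzR, hz, smul_smul, mul_comm]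
    have h3 := (h.fr.p_eq_iff hzx (V_le_WW V (R i) (h.co.v_mem _ _))).1 h2
    obtain ⟨ε, hε⟩ := (h.co.mem_R1 _).1 h3
    refine ⟨ε, ?_⟩
    have h4 : (z : G) * v 0 γ * (z : G)⁻¹ = v ε 0 * v 0 (d * γ) := by rw [hε]; group
    rw [h4, ← h.co.v_add, add_zero, zero_add]
  choose ε hε using h1
  refine ⟨ε, fun β γ => ?_⟩
  have h2 : v β γ = v β 0 * v 0 γ := by rw [← h.co.v_add, add_zero, zero_add]
  have h3 : (z : G) * v β γ * (z : G)⁻¹ = ((z : G) * v β 0 * (z : G)⁻¹) * ((z : G) * v 0 γ * (z : G)⁻¹) := by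
    rw [h2]; group
  rw [h3, hzR, hε, ← h.co.v_add, zero_add]

/-- **`sep` from a scalar** -/
theorem sep_of_scalar [Finite G] (D : Zero.Dat V R i B U) {Px : Subgroup G} (X : NodeX V R i B U Px)
    {N : Submodule F M} (hN : ∀ x : NR R i, (x : G) ∈ Px → ∀ m ∈ N, x • m ∈ N) (he : p (v 0 1) ∈ N) {z : NR R i}
    (hz : (z : G) ∈ Px) {a d : F} (ha : a ≠ 0) (hzR : ∀ β, (z : G) * v β 0 * (z : G)⁻¹ = v (a * β) 0)
    (hd : d ≠ 0) (had : a ≠ d) (hzN : ∀ m ∈ N, z • m = d • m) : SepG 2 B U Px (Zero.P0 V R B) := by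
  obtain ⟨ε, hε⟩ := act_V_of h ha hzR (hzN _ he)
  exact sep_of_ker h.bt D h.co X (mem_Qk_of_scalar h X hN he hz hzN) ha hd had hε

variable {t : F → G} (τ : Lie.TorD V R i j v t)
include τ

/-- `t (m t m⁻¹)` on `R i` -/
theorem tmt_R {m : NR R i} (hm : (m : G) ∈ centralizer (R i : Set G)) (a : Fˣ) (β : F) :
    ((tT τ a * (m * tT τ a * m⁻¹) : NR R i) : G) * v β 0 * ((tT τ a * (m * tT τ a * m⁻¹) : NR R i) : G)⁻¹ =
      v (a * a * β) 0 := by
  have h1 : ∀ β, (m : G) * v β 0 * (m : G)⁻¹ = v β 0 := fun β => by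
    rw [h.cen_aux hm, one_mul]
  have h2 : ∀ β, (m : G)⁻¹ * v β 0 * (m : G) = v β 0 := fun β => by
    conv_lhs => rw [← h1 β]
    group
  have h3 := h.T_aux τ a
  have e : ((tT τ a * (m * tT τ a * m⁻¹) : NR R i) : G) * v β 0 * ((tT τ a * (m * tT τ a * m⁻¹) : NR R i) : G)⁻¹ =
      (tT τ a : G) * ((m : G) * ((tT τ a : G) * ((m : G)⁻¹ * v β 0 * (m : G)) * (tT τ a : G)⁻¹) * (m : G)⁻¹) *
        (tT τ a : G)⁻¹ := by
    push_cast
    group
  rw [e, h2, h3, h1, h3, mul_assoc]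

/-- `t (m t m⁻¹)` on `M`: a vector `x` with `t (m⁻¹ x) = c (m⁻¹ x)` and `t x = d x` -/
theorem tmt_eig {m : NR R i} (hm : (m : G) ∈ centralizer (R i : Set G)) (a : Fˣ) {x : M} {c d : F}
    (h1 : tT τ a • (m⁻¹ • x) = c • (m⁻¹ • x)) (h2 : tT τ a • x = d • x) :
    (tT τ a * (m * tT τ a * m⁻¹)) • x = (c * d) • x := by
  rw [mul_smul, mul_smul, mul_smul, h1, h.lin_cen hm, smul_inv_smul, h.T_lin τ, h2, smul_smul]

end mod

section eig

variable {M E : Type u} [AddCommGroup M] [AddCommGroup E]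
  [DistribMulAction (NR R i) M] [DistribMulAction (NR R i) E] [Module F M] {p : G → M} {r : G → E}
  {f : M →+ M →+ E} {φ : M →ₗ[F] M →ₗ[F] F} {s : NR R i → (F ≃+* F)} [CharP F 2]
  {h : FMod V R i j v w1 w2 M E p r f φ s} {t : F → G} {τ : Lie.TorD V R i j v t}
  {N : Type u} [AddCommGroup N] [Module F N] {P1 P2 : G → N} {y : YPair V R i j w1 w2 N P1 P2}
  {n : N →ₗ[F] M} {sf : N →ₗ[F] N →ₗ[F] M} {q : N → N →ₗ[F] F} (g : Eig h τ y n sf q)
include g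

theorem swap_aux [Finite G] [Finite F] {k : N} (hk0 : k ≠ 0)
    {m : NR R i} (hN : ∀ x ∈ Ng (p (v 0 1)) n (fun a b => sf a b) k, m • x ∈ Ng (p (v 0 1)) n (fun a b => sf a b) k)
    (hmC : (m : G) ∈ centralizer (R i : Set G)) {β γ : F} (hβ : β ≠ 0) (hγ : γ ≠ 0)
    (hme : m • p (v 0 1) = β • n k) (hmn : m • n k = γ • p (v 0 1)) {x : M} (hx : x ∈ Zg F (fun a b => sf a b) k) :
    ∃ z ∈ Zg F (fun a b => sf a b) k, ∃ r : F, m • x = z + r • n k := by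
  have b := h.bt
  obtain ⟨a, ha⟩ := h.exists_unit
  have ha0 := a.ne_zero
  have hmi : m⁻¹ • n k = β⁻¹ • p (v 0 1) := by
    have h1 : m⁻¹ • (β • n k) = p (v 0 1) := by rw [← hme, inv_smul_smul]
    have hmC' : ((m⁻¹ : NR R i) : G) ∈ centralizer (R i : Set G) := inv_mem hmC
    rw [h.lin_cen hmC'] at h1
    rw [← h1, smul_smul, inv_mul_cancel₀ hβ, one_smul]
  have hmi' : ∀ c : F, m⁻¹ • (c • p (v 0 1)) = (c * γ⁻¹) • n k := by
    intro c
    have hmC' : ((m⁻¹ : NR R i) : G) ∈ centralizer (R i : Set G) := inv_mem hmC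
    have h1 : m⁻¹ • (γ • p (v 0 1)) = n k := by rw [← hmn, inv_smul_smul]
    rw [h.lin_cen hmC'] at h1
    rw [h.lin_cen hmC', ← h1, smul_smul, mul_assoc, inv_mul_cancel₀ hγ, mul_one]
  obtain ⟨c, z, hz, r, e1⟩ := mem_Ng.1 (hN x (Zg_le_Ng hx))
  -- `m' = m⁻¹ t m` normalises `V`
  set m' : NR R i := m⁻¹ * tT τ a * m with hm'
  have hT : tT τ a • n k = (a : F) • n k := g.n_mem k a
  have hm'e : m' • p (v 0 1) = (a : F) • p (v 0 1) := by
    rw [hm', mul_smul, mul_smul, hme, h.T_lin τ, hT, smul_smul, mul_comm, ← smul_smul, ← hme]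
    have hmC' : ((m⁻¹ : NR R i) : G) ∈ centralizer (R i : Set G) := inv_mem hmC
    rw [h.lin_cen hmC', inv_smul_smul]
  have hm'V := mem_NV_of_e h hm'e
  have hD : ∀ x ∈ h.fr.sb (DD V R), m' • x ∈ h.fr.sb (DD V R) := fun x hx => h.fr.sb_smul (b.NV_le_ND hm'V) hx
  have hZM : ∀ z ∈ Zg F (fun a b => sf a b) k, z ∈ h.M0 τ := fun z hz => (nfr_of g).Zg_le hz
  have hxD : x ∈ h.fr.sb (DD V R) := h.M0_le τ y (hZM x hx)
  -- the combination
  have hTz : tT τ a • z = z := hZM z hz a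
  have h1 : tT τ a • (m • x) = (c * (a : F)⁻¹) • p (v 0 1) + z + ((a : F) * r) • n k := by
    rw [e1, smul_add, smul_add, h.T_smul_e τ, hTz, h.T_lin τ, hT, smul_smul, mul_comm r]
  have h2 : tT τ a • (tT τ a • (m • x)) = (c * (a : F)⁻¹ * (a : F)⁻¹) • p (v 0 1) + z + ((a : F) * (a : F) * r) • n k := by
    rw [h1, smul_add, smul_add, h.T_smul_e τ, hTz, h.T_lin τ, hT]
    module
  have h3 : m' • x = m⁻¹ • (tT τ a • (m • x)) := by rw [hm', mul_smul, mul_smul]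
  have h4 : m' • (m' • x) = m⁻¹ • (tT τ a • (tT τ a • (m • x))) := by
    rw [h3, hm', mul_smul, mul_smul, smul_inv_smul]
  have hmC' : ((m⁻¹ : NR R i) : G) ∈ centralizer (R i : Set G) := inv_mem hmC
  have h5 : m' • (m' • x) - (1 + (a : F)) • (m' • x) + (a : F) • x =
      m⁻¹ • ((c * (((a : F)⁻¹ - 1) * ((a : F)⁻¹ - a))) • p (v 0 1)) := by
    have h6 : (a : F) • x = m⁻¹ • ((a : F) • (m • x)) := by rw [h.lin_cen hmC', inv_smul_smul]
    rw [h4, h3, h6, ← h.lin_cen hmC', ← smul_sub, ← smul_add, h2, h1, e1]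
    congr 1
    have h7 : (a : F) * (a : F)⁻¹ = 1 := mul_inv_cancel₀ ha0
    have h8 : c * (((a : F)⁻¹ - 1) * ((a : F)⁻¹ - a)) = c * (a : F)⁻¹ * (a : F)⁻¹ - (1 + (a : F)) * (c * (a : F)⁻¹) + a * c := by
      linear_combination (-c + c) * h7
    rw [h8]
    module
  have h6 : m' • (m' • x) - (1 + (a : F)) • (m' • x) + (a : F) • x ∈ h.fr.sb (DD V R) :=
    add_mem (sub_mem (hD _ (hD _ hxD)) (h.D_smul τ y (hD _ hxD) _)) (h.D_smul τ y hxD _)
  rw [h5, hmi', ← map_smul] at h6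
  have h7 : (c * (((a : F)⁻¹ - 1) * ((a : F)⁻¹ - a)) * γ⁻¹) • k = 0 := by
    apply n_of_D g
    rw [map_zero, sub_zero]
    exact h6
  have h8 := (smul_eq_zero.1 h7).resolve_right hk0
  have h9 : c = 0 := by
    rcases mul_eq_zero.1 h8 with h9 | h9
    · rcases mul_eq_zero.1 h9 with h10 | h10
      · exact h10
      · exfalso
        rcases mul_eq_zero.1 h10 with h11 | h11
        · exact ha (inv_eq_one.1 (sub_eq_zero.1 h11))
        · refine h.sub_inv_ne ha0 ha ?_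
          rw [← neg_sub, h11, neg_zero]
    · exact absurd h9 (inv_ne_zero hγ)
  exact ⟨z, hz, r, by rw [e1, h9, zero_smul, zero_add]⟩

/-- `m ∈ C(R i)` preserving `N_k` and swapping `⟨e⟩` and `⟨n k⟩` preserves `Z_k` -/
theorem swap_Z [Finite G] [Finite F] {k : N} (hk0 : k ≠ 0)
    {m : NR R i} (hN : ∀ x ∈ Ng (p (v 0 1)) n (fun a b => sf a b) k, m • x ∈ Ng (p (v 0 1)) n (fun a b => sf a b) k)
    (hN' : ∀ x ∈ Ng (p (v 0 1)) n (fun a b => sf a b) k, m⁻¹ • x ∈ Ng (p (v 0 1)) n (fun a b => sf a b) k)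
    (hmC : (m : G) ∈ centralizer (R i : Set G)) {β γ : F} (hβ : β ≠ 0) (hγ : γ ≠ 0)
    (hme : m • p (v 0 1) = β • n k) (hmn : m • n k = γ • p (v 0 1)) {x : M} (hx : x ∈ Zg F (fun a b => sf a b) k) :
    m • x ∈ Zg F (fun a b => sf a b) k := by
  have hmC' : ((m⁻¹ : NR R i) : G) ∈ centralizer (R i : Set G) := inv_mem hmC
  have hmi : m⁻¹ • n k = β⁻¹ • p (v 0 1) := by
    have h1 : m⁻¹ • (β • n k) = p (v 0 1) := by rw [← hme, inv_smul_smul]
    rw [h.lin_cen hmC'] at h1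
    rw [← h1, smul_smul, inv_mul_cancel₀ hβ, one_smul]
  have hmi' : m⁻¹ • p (v 0 1) = γ⁻¹ • n k := by
    have h1 : m⁻¹ • (γ • p (v 0 1)) = n k := by rw [← hmn, inv_smul_smul]
    rw [h.lin_cen hmC'] at h1
    rw [← h1, smul_smul, inv_mul_cancel₀ hγ, one_smul]
  obtain ⟨z1, hz1, r, e1⟩ := swap_aux g hk0 hN hmC hβ hγ hme hmn hx
  obtain ⟨z2, hz2, r', e2⟩ := swap_aux g hk0 (m := m⁻¹) hN' hmC' (inv_ne_zero hγ) (inv_ne_zero hβ) hmi' hmi hz1
  have hZM : ∀ z ∈ Zg F (fun a b => sf a b) k, z ∈ h.M0 τ := fun z hz => (nfr_of g).Zg_le hz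
  have h1 : x = z2 + r' • n k + (r * β⁻¹) • p (v 0 1) := by
    rw [← e2, mul_smul, ← hmi, ← h.lin_cen hmC', ← smul_add, ← e1, inv_smul_smul]
  have h2 : r * β⁻¹ = 0 := by
    refine (g.indep (r * β⁻¹) (z2 - x) (r' • k) (sub_mem (hZM _ hz2) (hZM _ hx)) ?_).1
    have h3 : (r * β⁻¹) • p (v 0 1) + (z2 - x) + r' • n k = (z2 + r' • n k + (r * β⁻¹) • p (v 0 1)) - x := by abel
    rw [map_smul, h3, ← h1, sub_self]
  have h3 : r = 0 := (mul_eq_zero.1 h2).resolve_right (inv_ne_zero hβ)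
  rw [e1, h3, zero_smul, add_zero]
  exact hz1

/-- **`sep`, types `(sigma)` and `(beta)`** -/
theorem sep_four_eig [Finite G] [Finite F] (D : Zero.Dat V R i B U) {Px : Subgroup G} (X : NodeX V R i B U Px) {k : N} (hk0 : k ≠ 0)
    (hN : ∀ x : NR R i, (x : G) ∈ Px → ∀ m ∈ Ng (p (v 0 1)) n (fun a b => sf a b) k,
      x • m ∈ Ng (p (v 0 1)) n (fun a b => sf a b) k)
    {m : NR R i} (hm : (m : G) ∈ Px) (hmC : (m : G) ∈ centralizer (R i : Set G)) {β γ : F} (hβ : β ≠ 0) (hγ : γ ≠ 0)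
    (hme : m • p (v 0 1) = β • n k) (hmn : m • n k = γ • p (v 0 1)) : SepG 2 B U Px (Zero.P0 V R B) := by
  have b := h.bt
  obtain ⟨a, ha⟩ := h.exists_unit
  have ha0 := a.ne_zero
  have hmC' : ((m⁻¹ : NR R i) : G) ∈ centralizer (R i : Set G) := inv_mem hmC
  have hmi : m⁻¹ • n k = β⁻¹ • p (v 0 1) := by
    have h1 : m⁻¹ • (β • n k) = p (v 0 1) := by rw [← hme, inv_smul_smul]
    rw [h.lin_cen hmC'] at h1
    rw [← h1, smul_smul, inv_mul_cancel₀ hβ, one_smul]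
  have hmi' : m⁻¹ • p (v 0 1) = γ⁻¹ • n k := by
    have h1 : m⁻¹ • (γ • p (v 0 1)) = n k := by rw [← hmn, inv_smul_smul]
    rw [h.lin_cen hmC'] at h1
    rw [← h1, smul_smul, inv_mul_cancel₀ hγ, one_smul]
  have hT : tT τ a • n k = (a : F) • n k := g.n_mem k a
  have hZM : ∀ z ∈ Zg F (fun a b => sf a b) k, z ∈ h.M0 τ := fun z hz => (nfr_of g).Zg_le hz
  have hmi_mem : ((m⁻¹ : NR R i) : G) ∈ Px := inv_mem hm
  set z : NR R i := tT τ a * (m * tT τ a * m⁻¹) with hz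
  have hzN : ∀ x ∈ Ng (p (v 0 1)) n (fun a b => sf a b) k, z • x = (1 : F) • x := by
    intro x hx
    obtain ⟨c, d, hd, r, rfl⟩ := mem_Ng.1 hx
    have h1 : z • p (v 0 1) = p (v 0 1) := by
      rw [hz, tmt_eig h τ hmC a (c := (a : F)) (d := (a : F)⁻¹) ?_ (h.T_e τ a), mul_inv_cancel₀ ha0, one_smul]
      rw [hmi', h.T_lin τ, hT, smul_smul, smul_smul, mul_comm]
    have h2 : z • n k = n k := by
      rw [hz, tmt_eig h τ hmC a (c := (a : F)⁻¹) (d := (a : F)) ?_ hT, inv_mul_cancel₀ ha0, one_smul]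
      rw [hmi, h.T_smul_e τ, smul_smul, mul_comm]
    have h3 : z • d = d := by
      rw [hz, tmt_eig h τ hmC a (c := 1) (d := 1) ?_ (by rw [one_smul]; exact hZM d hd a), mul_one, one_smul]
      rw [one_smul]
      refine hZM _ ?_ a
      refine swap_Z g hk0 (m := m⁻¹) (fun x hx => hN m⁻¹ hmi_mem x hx) (fun x hx => by rw [inv_inv]; exact hN m hm x hx)
        hmC' (inv_ne_zero hγ) (inv_ne_zero hβ) hmi' hmi hd
    have hzR := tmt_R h τ hmC a
    have hl := h.lin (mul_ne_zero ha0 ha0) hzR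
    rw [one_smul, smul_add, smul_add, hl, hl, h1, h2, h3]
  have htB : t a ∈ B := Zero.t_mem_B b D τ ha0
  have hzP : (z : G) ∈ Px := by
    have ht : ((tT τ a : NR R i) : G) ∈ Px := X.le htB
    rw [hz]
    exact mul_mem ht (mul_mem (mul_mem hm ht) (inv_mem hm))
  refine sep_of_scalar h D X hN e_mem_Ng hzP (a := (a : F) * a) (mul_ne_zero ha0 ha0) (tmt_R h τ hmC a) one_ne_zero
    ?_ hzN
  intro h1
  refine h.sub_inv_ne ha0 ha ?_
  rw [sub_eq_zero]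
  exact eq_inv_of_mul_eq_one_left h1

omit [AddCommGroup N] [Module F N] g in
/-- **`sep`, type `(alpha)`, `|F| > 4`** -/
theorem sep_three_eig [Finite G] (h : FMod V R i j v w1 w2 M E p r f φ s) (τ : Lie.TorD V R i j v t)
    (D : Zero.Dat V R i B U) {Px : Subgroup G} (X : NodeX V R i B U Px) {d : M} (hd : d ∈ h.M0 τ)
    (hN : ∀ x : NR R i, (x : G) ∈ Px → ∀ m ∈ Submodule.span F {p (v 0 1)} ⊔ Submodule.span F {d},
      x • m ∈ Submodule.span F {p (v 0 1)} ⊔ Submodule.span F {d})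
    {m : NR R i} (hm : (m : G) ∈ Px) (hmC : (m : G) ∈ centralizer (R i : Set G)) {β γ : F} (hβ : β ≠ 0) (hγ : γ ≠ 0)
    (hme : m • p (v 0 1) = β • d) (hmd : m • d = γ • p (v 0 1)) (h3 : ∃ a : F, a ≠ 0 ∧ a ^ 3 ≠ 1) :
    SepG 2 B U Px (Zero.P0 V R B) := by
  have b := h.bt
  obtain ⟨a', ha', ha3⟩ := h3
  set a : Fˣ := Units.mk0 a' ha' with haa
  have ha0 := a.ne_zero
  have ha3' : (a : F) ^ 3 ≠ 1 := ha3
  have hmC' : ((m⁻¹ : NR R i) : G) ∈ centralizer (R i : Set G) := inv_mem hmC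
  have hmi : m⁻¹ • d = β⁻¹ • p (v 0 1) := by
    have h1 : m⁻¹ • (β • d) = p (v 0 1) := by rw [← hme, inv_smul_smul]
    rw [h.lin_cen hmC'] at h1
    rw [← h1, smul_smul, inv_mul_cancel₀ hβ, one_smul]
  have hmi' : m⁻¹ • p (v 0 1) = γ⁻¹ • d := by
    have h1 : m⁻¹ • (γ • p (v 0 1)) = d := by rw [← hmd, inv_smul_smul]
    rw [h.lin_cen hmC'] at h1
    rw [← h1, smul_smul, inv_mul_cancel₀ hγ, one_smul]
  have hT : tT τ a • d = d := hd a
  set z : NR R i := tT τ a * (m * tT τ a * m⁻¹) with hz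
  have hzN : ∀ x ∈ Submodule.span F {p (v 0 1)} ⊔ Submodule.span F {d}, z • x = (a : F)⁻¹ • x := by
    intro x hx
    obtain ⟨x1, hx1, x2, hx2, rfl⟩ := Submodule.mem_sup.1 hx
    obtain ⟨c, rfl⟩ := Submodule.mem_span_singleton.1 hx1
    obtain ⟨c', rfl⟩ := Submodule.mem_span_singleton.1 hx2
    have h1 : z • p (v 0 1) = (a : F)⁻¹ • p (v 0 1) := by
      rw [hz, tmt_eig h τ hmC a (c := 1) (d := (a : F)⁻¹) ?_ (h.T_e τ a), one_mul]
      rw [hmi', h.T_lin τ, hT, one_smul]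
    have h2 : z • d = (a : F)⁻¹ • d := by
      rw [hz, tmt_eig h τ hmC a (c := (a : F)⁻¹) (d := 1) ?_ (by rw [one_smul]; exact hT), mul_one]
      rw [hmi, h.T_smul_e τ, smul_smul, mul_comm]
    have hzR := tmt_R h τ hmC a
    have hl := h.lin (mul_ne_zero ha0 ha0) hzR
    rw [smul_add, hl, hl, h1, h2]
    module
  have htB : t a ∈ B := Zero.t_mem_B b D τ ha0
  have hzP : (z : G) ∈ Px := by
    have ht : ((tT τ a : NR R i) : G) ∈ Px := X.le htB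
    rw [hz]
    exact mul_mem ht (mul_mem (mul_mem hm ht) (inv_mem hm))
  refine sep_of_scalar h D X hN (Submodule.mem_sup_left (Submodule.mem_span_singleton_self _)) hzP (a := (a : F) * a)
    (mul_ne_zero ha0 ha0) (tmt_R h τ hmC a) (inv_ne_zero ha0) ?_ hzN
  intro h1
  apply ha3'
  have h2 : (a : F) * a * a = (a : F)⁻¹ * a := by rw [h1]
  rw [inv_mul_cancel₀ ha0] at h2
  rw [← h2]
  ring

end eig

end Cfsg.Agent.Omega.Lie.Nodes
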