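import Cfsg.Agent.Omega.Lie.Nodes.SigLin
import Cfsg.Agent.Omega.BTwo.XMod

/-!
# NODE LIE, TEXT NODES (#14331) (L): `Σ = W_N y_2` in the group, frame `i` only

`GFr`: the frame of `M = W i / R i` attached to the group.  `SG g`: the preimage of `N_g` in `W i`.
`KEY`: `[M, A_g] ≤ N_g`.  Then `Σ = SG g ⊔ (SG g) ^ n` is elementary abelian and normalised by `X`.
-/

set_option autoImplicit false
set_option linter.unusedSectionVars false

namespace Cfsg.Agent.Omega.Lie.Nodes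

open Subgroup Cfsg.Agent.Omega.BTwo

universe u v w

variable {G : Type u} [Group G] {ι : Type w}

/-- the frame of `M = W i / R i` in the group -/
structure GFr (V : Subgroup G) (R : ι → Subgroup G) (i j : ι) {F : Type v} [Field F] (v : F → F → G)
    {M E : Type u} [AddCommGroup M] [Module F M] [AddCommGroup E] [Module F E] (P1 P2 : G → E)
    (q : G → M) (f : M →ₗ[F] M →ₗ[F] F) (e : M) (M0 : Submodule F M) (n : E →ₗ[F] M) (s : E → E → M)
    (sh : E → E → F) (α : E → M →ₗ[F] M) : Prop where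
  fr : Fr (R i) (WW V (R i)) q f (fun a => v a 0)
  lin : NFr f e M0 n s
  q_V : ∀ b c, q (v b c) = c • e
  mem_U : ∀ x ∈ WW V (R i), f e (q x) = 0 → x ∈ UU V R i
  q_U : ∀ x ∈ UU V R i, ∃ c : F, ∃ d ∈ M0, q x = c • e + d + n (P1 x)
  act : ∀ y ∈ UU V R j, ∀ x ∈ WW V (R i), q (y * x * y⁻¹) = α (P2 y) (q x)
  α_e : ∀ k, α k e = e
  α_M0 : ∀ k, ∀ d ∈ M0, α k d = d + f d (n k) • e
  α_n : ∀ k g, α k (n g) = n g + s g k + sh k g • e
  α_f : ∀ k m m', f (α k m) (α k m') = f m m'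

/-- the preimage in `W` of the submodule `N` -/
def pre {F : Type v} [Field F] {M : Type u} [AddCommGroup M] [Module F M] {R W : Subgroup G}
    {q : G → M} {f : M →ₗ[F] M →ₗ[F] F} {r : F → G} (h : Fr R W q f r) (N : Submodule F M) : Subgroup G where
  carrier := {x | x ∈ W ∧ q x ∈ N}
  one_mem' := by
    refine ⟨one_mem _, ?_⟩
    have := h.mul 1 (one_mem _) 1 (one_mem _)
    rw [mul_one] at this
    rw [left_eq_add.1 this]
    exact N.zero_mem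
  mul_mem' := by
    rintro x y ⟨hx, hx'⟩ ⟨hy, hy'⟩
    exact ⟨mul_mem hx hy, by rw [h.mul x hx y hy]; exact N.add_mem hx' hy'⟩
  inv_mem' := by
    rintro x ⟨hx, hx'⟩
    refine ⟨inv_mem hx, ?_⟩
    have h1 := h.mul x hx x⁻¹ (inv_mem hx)
    have h0 := h.mul 1 (one_mem _) 1 (one_mem _)
    rw [mul_one] at h0
    rw [mul_inv_cancel, left_eq_add.1 h0] at h1
    rw [← neg_eq_of_add_eq_zero_right h1.symm]
    exact N.neg_mem hx'

section pre

variable {F : Type v} [Field F] {M : Type u} [AddCommGroup M] [Module F M] {R W : Subgroup G}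
    {q : G → M} {f : M →ₗ[F] M →ₗ[F] F} {r : F → G} (h : Fr R W q f r) {N : Submodule F M}

theorem mem_pre {x : G} : x ∈ pre h N ↔ x ∈ W ∧ q x ∈ N := Iff.rfl

theorem pre_le : pre h N ≤ W := fun _ hx => hx.1

theorem le_pre (hRW : R ≤ W) : R ≤ pre h N := fun x hx => ⟨hRW hx, by
  rw [(h.zero x (hRW hx)).2 hx]; exact N.zero_mem⟩

include h in
theorem Fr.q_one : q 1 = 0 := by
  have h0 := h.mul 1 (one_mem _) 1 (one_mem _)
  rw [mul_one] at h0
  exact left_eq_add.1 h0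

include h in
theorem Fr.q_inv {x : G} (hx : x ∈ W) : q x⁻¹ = - q x := by
  have h1 := h.mul x hx x⁻¹ (inv_mem hx)
  rw [mul_inv_cancel, h.q_one] at h1
  exact (neg_eq_of_add_eq_zero_right h1.symm).symm

include h in
theorem Fr.q_comm {x y : G} (hx : x ∈ W) (hy : y * x * y⁻¹ ∈ W) :
    q (x * y * x⁻¹ * y⁻¹) = q x - q (y * x * y⁻¹) := by
  have e : x * y * x⁻¹ * y⁻¹ = x * (y * x * y⁻¹)⁻¹ := by group
  rw [e, h.mul x hx _ (inv_mem hy), h.q_inv hy, sub_eq_add_neg]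

end pre

namespace GFr

variable {V : Subgroup G} {R : ι → Subgroup G} {i j : ι} {F : Type v} [Field F] {v : F → F → G}
    {M E : Type u} [AddCommGroup M] [Module F M] [AddCommGroup E] [Module F E] {P1 P2 : G → E}
    {q : G → M} {f : M →ₗ[F] M →ₗ[F] F} {e : M} {M0 : Submodule F M} {n : E →ₗ[F] M} {s : E → E → M}
    {sh : E → E → F} {α : E → M →ₗ[F] M} (h : GFr V R i j v P1 P2 q f e M0 n s sh α)

/-- the preimage of `N_g` -/
def SG (g : E) : Subgroup G := pre h.fr (Ng e n s g)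

theorem mem_SG {g : E} {x : G} : x ∈ h.SG g ↔ x ∈ WW V (R i) ∧ q x ∈ Ng e n s g := Iff.rfl

theorem SG_le_W (g : E) : h.SG g ≤ WW V (R i) := pre_le h.fr

include h in
theorem f_e_Ng {g : E} {m : M} (hm : m ∈ Ng e n s g) : f e m = 0 := h.lin.Ng_isotropic e_mem_Ng hm

theorem SG_le_U (g : E) : h.SG g ≤ UU V R i := fun x hx => h.mem_U x hx.1 (h.f_e_Ng hx.2)

include h in
/-- uniqueness of the `n`-component -/
theorem n_unique {c c' : F} {d d' : M} {g g' : E} (hd : d ∈ M0) (hd' : d' ∈ M0)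
    (hh : c • e + d + n g = c' • e + d' + n g') : g = g' := by
  have h1 : (c - c') • e + (d - d') + n (g - g') = 0 := by
    rw [sub_smul, map_sub]
    have : c • e - c' • e + (d - d') + (n g - n g') = (c • e + d + n g) - (c' • e + d' + n g') := by abel
    rw [this, hh, sub_self]
  exact sub_eq_zero.1 (h.lin.indep _ _ (M0.sub_mem hd hd') _ h1)

theorem P1_SG {g : E} {x : G} (hx : x ∈ h.SG g) : ∃ r : F, P1 x = r • g := by
  obtain ⟨c, z, hz, r, e1⟩ := mem_Ng.1 hx.2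
  obtain ⟨c', d', hd', e2⟩ := h.q_U x (h.SG_le_U g hx)
  refine ⟨r, h.n_unique (c := c') (c' := c) hd' (h.lin.Zg_le hz) ?_⟩
  rw [← e2, e1, map_smul]

include h in
theorem q_D {x : G} (b : BT V R) {w1 w2 : F → G} (y : YPair V R i j w1 w2 E P1 P2) (hx : x ∈ DD V R) :
    ∃ c : F, ∃ d ∈ M0, q x = c • e + d := by
  obtain ⟨c, d, hd, e1⟩ := h.q_U x (b.D_le_U i hx)
  refine ⟨c, d, hd, ?_⟩
  rw [((y.mem_D x (b.D_le_Y hx)).1 hx).1, map_zero, add_zero] at e1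
  exact e1

include h in
theorem mem_D_of {x : G} (b : BT V R) {w1 w2 : F → G} (y : YPair V R i j w1 w2 E P1 P2)
    (hx : x ∈ WW V (R i)) {c : F} {d : M} (hd : d ∈ M0) (hq : q x = c • e + d) : x ∈ DD V R := by
  have hU : x ∈ UU V R i := by
    apply h.mem_U x hx
    rw [hq, map_add, map_smul, h.lin.ee, h.lin.f_e_M0 d hd, smul_zero, add_zero]
  have hY : x ∈ YY V R := UU_le_YY i hU
  rw [y.mem_D x hY]
  refine ⟨?_, (y.mem_U1 x hY).1 hU⟩
  have _ := b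
  obtain ⟨c', d', hd', e1⟩ := h.q_U x hU
  refine (h.n_unique (c := c) (c' := c') (g := 0) hd hd' ?_).symm
  rw [← e1, hq, map_zero, add_zero]

include h in
/-- `α` preserves `N_g` -/
theorem α_Ng {g : E} (k : E) {m : M} (hm : m ∈ Ng e n s g) : α k m ∈ Ng e n s g := by
  obtain ⟨c, z, hz, r, rfl⟩ := mem_Ng.1 hm
  have h1 : α k (c • e + z + r • n g) = (c + f z (n k) + r * sh k g) • e + (z + r • s g k) + r • n g := by
    rw [map_add, map_add, map_smul, map_smul, h.α_e, h.α_M0 k z (h.lin.Zg_le hz), h.α_n]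
    module
  rw [h1]
  exact mem_Ng.2 ⟨_, _, Submodule.add_mem _ hz (Submodule.smul_mem _ _ (s_mem_Zg k)), r, rfl⟩

variable (b : BT V R)
include b

theorem R_le_SG (g : E) : R i ≤ h.SG g := le_pre h.fr ((b.R_le i).trans (V_le_WW V (R i)))

theorem V_le_SG (c : ∀ x, x ∈ V ↔ ∃ b c, v b c = x) (g : E) : V ≤ h.SG g := by
  intro x hx
  obtain ⟨a, a', rfl⟩ := (c x).1 hx
  refine ⟨V_le_WW V (R i) hx, ?_⟩
  rw [h.q_V]
  exact Submodule.smul_mem _ _ e_mem_Ng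

theorem W_norm_SG (g : E) : WW V (R i) ≤ normalizer (h.SG g : Set G) := by
  refine le_normalizer_of fun w hw x hx => ?_
  have h1 := h.R_le_SG b g (b.WW_comm i hw (h.SG_le_W g hx))
  have h2 := mul_mem h1 hx
  rwa [inv_mul_cancel_right] at h2

/-- `Y` normalises `SG g` -/
theorem Y_norm_SG (hij : i ≠ j) (g : E) : YY V R ≤ normalizer (h.SG g : Set G) := by
  rw [b.Y_eq hij]
  refine sup_le ((UU_le_WW i).trans (h.W_norm_SG b g)) ?_
  refine le_normalizer_of fun y hy x hx => ?_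
  have hx' : y * x * y⁻¹ ∈ WW V (R i) :=
    conj_mem_of_normalizer (b.cen_le_NW i (UU_le_cen j hy)) (h.SG_le_W g hx)
  refine ⟨hx', ?_⟩
  rw [h.act y hy x (h.SG_le_W g hx)]
  exact h.α_Ng _ hx.2

/-- `SG g` is abelian -/
theorem SG_comm {g : E} {x y : G} (hx : x ∈ h.SG g) (hy : y ∈ h.SG g) : x * y = y * x :=
  (h.fr.comm_iff hx.1 hy.1).2 (h.lin.Ng_isotropic hx.2 hy.2)

end GFr

/-! ### `KEY` and `Σ` -/

/-- `KEY`: `[M, A_g] ≤ N_g` -/
def Key {F : Type v} [Field F] {M E : Type u} [AddCommGroup M] [Module F M] [AddCommGroup E] [Module F E]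
    (e : M) (n : E →ₗ[F] M) (s : E → E → M) (α : E → M →ₗ[F] M) (g : E) : Prop :=
  ∀ (r : F) (m : M), α (r • g) m - m ∈ Ng e n s g

namespace GFr

variable {V : Subgroup G} {R : ι → Subgroup G} {i j : ι} {F : Type v} [Field F] {v : F → F → G}
    {M E : Type u} [AddCommGroup M] [Module F M] [AddCommGroup E] [Module F E] {P1 P2 : G → E}
    {q : G → M} {f : M →ₗ[F] M →ₗ[F] F} {e : M} {M0 : Submodule F M} {n : E →ₗ[F] M} {s : E → E → M}
    {sh : E → E → F} {α : E → M →ₗ[F] M} (h : GFr V R i j v P1 P2 q f e M0 n s sh α) (b : BT V R)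
    {w1 w2 : F → G} (y : YPair V R i j w1 w2 E P1 P2)
include h b y

theorem α_surj (k : E) : Function.Surjective (α k) := by
  intro m
  obtain ⟨u, hu, hu1, hu2⟩ := y.surj 0 k
  have huU : u ∈ UU V R j := (y.mem_U2 u hu).2 hu1
  obtain ⟨x, hx, rfl⟩ := h.fr.surj m
  have hx' : u⁻¹ * x * u ∈ WW V (R i) := conj_inv_mem_of_normalizer (b.cen_le_NW i (UU_le_cen j huU)) hx
  refine ⟨q (u⁻¹ * x * u), ?_⟩
  rw [← hu2, ← h.act u huU _ hx']
  congr 1
  group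

/-- `A_g` is trivial on `N_g^⊥` -/
theorem fix_perp {g : E} (hk : Key e n s α g) {m : M} (hm : ∀ x ∈ Ng e n s g, f m x = 0) (r : F) :
    α (r • g) m = m := by
  rw [← sub_eq_zero]
  apply h.lin.nd
  intro m''
  obtain ⟨m', rfl⟩ := h.α_surj b y (r • g) m''
  have h1 := hm _ (hk r m')
  rw [map_sub, LinearMap.sub_apply, h.α_f, ← map_sub]
  rw [map_sub, sub_eq_zero] at h1
  rw [map_sub, h1, sub_self]

/-- `A_g` is trivial on `N_g` -/
theorem fix_N {g : E} (hk : Key e n s α g) {m : M} (hm : m ∈ Ng e n s g) (r : F) : α (r • g) m = m :=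
  h.fix_perp b y hk (fun _ hx => h.lin.Ng_isotropic hm hx) r

variable [CharP F 2] (c : Coord V R i j v w1 w2)
include c

/-- elements of `(SG g) ^ n` -/
theorem mem_cj_SG {g : E} {x : G} (hx : x ∈ cj (nn w1 w2 1) (h.SG g)) :
    x ∈ UU V R j ∧ ∃ r : F, P2 x = r • g := by
  have hU := h.SG_le_U g (mem_cj.1 hx)
  have e1 : x = nn w1 w2 1 * ((nn w1 w2 1)⁻¹ * x * nn w1 w2 1) * (nn w1 w2 1)⁻¹ := by group
  constructor
  · rw [← b.cj_UU (b.X_le_NV (c.nn_mem_X b 1)) (c.nn_R1 b one_ne_zero), mem_cj]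
    exact hU
  · obtain ⟨r, hr⟩ := h.P1_SG (mem_cj.1 hx)
    refine ⟨r, ?_⟩
    have h2 := (y.nn1 b c one_ne_zero (UU_le_YY i hU)).2
    rw [← e1, inv_one, one_smul] at h2
    rw [h2, hr]

theorem key_W {g : E} (hk : Key e n s α g) {w : G} (hw : w ∈ WW V (R i)) {x : G}
    (hx : x ∈ cj (nn w1 w2 1) (h.SG g)) : w * x * w⁻¹ * x⁻¹ ∈ h.SG g := by
  obtain ⟨hxU, r, hr⟩ := h.mem_cj_SG b y c hx
  have hx' : x * w * x⁻¹ ∈ WW V (R i) := conj_mem_of_normalizer (b.cen_le_NW i (UU_le_cen j hxU)) hw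
  have e1 : w * x * w⁻¹ * x⁻¹ = w * (x * w * x⁻¹)⁻¹ := by group
  refine ⟨by rw [e1]; exact mul_mem hw (inv_mem hx'), ?_⟩
  rw [h.fr.q_comm hw hx', h.act x hxU w hw, hr, ← neg_sub]
  exact Submodule.neg_mem _ (hk r (q w))

theorem comm_R {g : E} (hk : Key e n s α g) {w : G} (hw : w ∈ h.SG g) {x : G}
    (hx : x ∈ cj (nn w1 w2 1) (h.SG g)) : w * x * w⁻¹ * x⁻¹ ∈ R i := by
  obtain ⟨hxU, r, hr⟩ := h.mem_cj_SG b y c hx
  have hw' := h.SG_le_W g hw
  have hx' : x * w * x⁻¹ ∈ WW V (R i) := conj_mem_of_normalizer (b.cen_le_NW i (UU_le_cen j hxU)) hw'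
  have e1 : w * x * w⁻¹ * x⁻¹ = w * (x * w * x⁻¹)⁻¹ := by group
  rw [← h.fr.zero _ (by rw [e1]; exact mul_mem hw' (inv_mem hx')), h.fr.q_comm hw' hx',
    h.act x hxU w hw', hr, h.fix_N b y hk hw.2 r, sub_self]

end GFr

section sigma

variable {V : Subgroup G} {R : ι → Subgroup G} {i j : ι} {F : Type v} [Field F] {v : F → F → G}
    {M E : Type u} [AddCommGroup M] [Module F M] [AddCommGroup E] [Module F E] {P1 P2 : G → E}
    {q : G → M} {f : M →ₗ[F] M →ₗ[F] F} {e : M} {M0 : Submodule F M} {n : E →ₗ[F] M} {s : E → E → M}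
    {sh : E → E → F} {α : E → M →ₗ[F] M} (h : GFr V R i j v P1 P2 q f e M0 n s sh α) (b : BTC V R)
    {w1 w2 : F → G} (y : YPair V R i j w1 w2 E P1 P2) [CharP F 2] (c : Coord V R i j v w1 w2)
    [Finite G] [Finite F]
include h b y c

/-- `n² ∈ Y` -/
theorem GFr.nn_sq : nn w1 w2 1 * nn w1 w2 1 ∈ YY V R := by
  have _ := h
  rw [← y.cen_X_V c b]
  have hX := c.nn_mem_X b.toBT 1
  refine mem_inf.2 ⟨mul_mem hX hX, ?_⟩
  rw [mem_centralizer_iff]
  intro x hx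
  obtain ⟨a, a', rfl⟩ := (c.mem_V x).1 hx
  have h1 := c.nn_act one_ne_zero a a'
  have h2 := c.nn_act one_ne_zero a' a
  rw [inv_one, one_mul, one_mul] at h1 h2
  have h3 : nn w1 w2 1 * nn w1 w2 1 * v a a' * (nn w1 w2 1 * nn w1 w2 1)⁻¹ = v a a' := by
    calc nn w1 w2 1 * nn w1 w2 1 * v a a' * (nn w1 w2 1 * nn w1 w2 1)⁻¹
        = nn w1 w2 1 * (nn w1 w2 1 * v a a' * (nn w1 w2 1)⁻¹) * (nn w1 w2 1)⁻¹ := by group
      _ = v a a' := by rw [h1, h2]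
  exact (mul_inv_eq_iff_eq_mul.1 h3).symm

theorem GFr.cj_cj_SG (g : E) : cj (nn w1 w2 1) (cj (nn w1 w2 1) (h.SG g)) = h.SG g := by
  rw [← cj_mul]
  exact cj_eq_self_iff.2 (h.Y_norm_SG b.toBT c.ne g (h.nn_sq b y c))

/-- **`X` normalises `Σ`** -/
theorem GFr.X_norm_sigma {g : E} (hk : Key e n s α g) :
    XX V R ≤ normalizer ((h.SG g ⊔ cj (nn w1 w2 1) (h.SG g) : Subgroup G) : Set G) := by
  have h1 := X_norm (R := R i) (W := WW V (R i)) (S := h.SG g) (n := nn w1 w2 1) (h.R_le_SG b.toBT g)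
    (h.SG_le_W g) (fun x hx y hy => b.WW_comm i hx hy) (fun w hw x hx => h.key_W b.toBT y c hk hw hx)
    (h.cj_cj_SG b y c g)
  rw [b.X_eq c.ne]
  rwa [b.cj_WW (c.nn_R1 b.toBT one_ne_zero)] at h1

/-- `SG g` and its conjugate commute -/
theorem GFr.SG_comm_cj {g : E} (hk : Key e n s α g) :
    ∀ w ∈ h.SG g, ∀ x ∈ cj (nn w1 w2 1) (h.SG g), w * x = x * w := by
  intro w hw x hx
  have h1 := h.comm_R b.toBT y c hk hw hx
  -- conjugate by `n`
  set m := nn w1 w2 1 with hm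
  have hw' : m * w * m⁻¹ ∈ cj m (h.SG g) := conj_mem_cj hw
  have hx' : m * x * m⁻¹ ∈ h.SG g := by
    rw [← h.cj_cj_SG b y c g]
    exact conj_mem_cj hx
  have h2 := h.comm_R b.toBT y c hk hx' hw'
  have h3 : w * x * w⁻¹ * x⁻¹ ∈ R j := by
    have h4 : (m * w * m⁻¹) * (m * x * m⁻¹) * (m * w * m⁻¹)⁻¹ * (m * x * m⁻¹)⁻¹ ∈ R i := by
      have := inv_mem h2
      rwa [show (m * x * m⁻¹ * (m * w * m⁻¹) * (m * x * m⁻¹)⁻¹ * (m * w * m⁻¹)⁻¹)⁻¹ =
        (m * w * m⁻¹) * (m * x * m⁻¹) * (m * w * m⁻¹)⁻¹ * (m * x * m⁻¹)⁻¹ by group] at this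
    rw [show (m * w * m⁻¹) * (m * x * m⁻¹) * (m * w * m⁻¹)⁻¹ * (m * x * m⁻¹)⁻¹ =
      m * (w * x * w⁻¹ * x⁻¹) * m⁻¹ by group, ← c.nn_R2 b.toBT one_ne_zero, mem_cj,
      show (nn w1 w2 1)⁻¹ * (m * (w * x * w⁻¹ * x⁻¹) * m⁻¹) * nn w1 w2 1 = w * x * w⁻¹ * x⁻¹ by
        rw [hm]; group] at h4
    exact h4
  have h5 : w * x * w⁻¹ * x⁻¹ ∈ R i ⊓ R j := mem_inf.2 ⟨h1, h3⟩
  rw [b.R_inf i j c.ne, mem_bot, mul_inv_eq_one, mul_inv_eq_iff_eq_mul] at h5
  exact h5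

/-- `Σ` is abelian -/
theorem GFr.sigma_comm {g : E} (hk : Key e n s α g) :
    ∀ x ∈ h.SG g ⊔ cj (nn w1 w2 1) (h.SG g), ∀ y ∈ h.SG g ⊔ cj (nn w1 w2 1) (h.SG g), x * y = y * x :=
  Nodes.sigma_comm (fun _ hx _ hy => h.SG_comm b.toBT hx hy) (h.SG_comm_cj b y c hk)

/-- `Σ` is elementary abelian -/
theorem GFr.sigma_sq {g : E} (hk : Key e n s α g) (h2 : ∀ x ∈ h.SG g, x * x = 1) :
    ∀ x ∈ h.SG g ⊔ cj (nn w1 w2 1) (h.SG g), x * x = 1 :=
  Nodes.sigma_sq (fun _ hx _ hy => h.SG_comm b.toBT hx hy) (h.SG_comm_cj b y c hk) h2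

end sigma

end Cfsg.Agent.Omega.Lie.Nodes
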