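import Cfsg.Agent.Omega.Lie.Nodes.Sigma
import Mathlib.LinearAlgebra.BilinearForm.Orthogonal

/-!
# NODE LIE, TEXT NODES (#14331) (L): the linear algebra of `N = e + Z + ⟨n_g⟩`

`NFr f e M0 n s`: the frame of `M = W i / R i`: `e^⊥ = e ⊕ M0 ⊕ n(E)`, `s : E × E → M0`, `T(g,h,k) = f (s g h) (n k)`
alternating.  `Ng g = ⟨e⟩ + s(g, E) + ⟨n g⟩` is totally isotropic and `(Ng g)^⊥ = {c e + d + n h | f d (n g) = 0, s g h = 0}`.
-/

set_option autoImplicit false

namespace Cfsg.Agent.Omega.Lie.Nodes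

open Submodule

universe u v w

/-- the linear frame -/
structure NFr {F : Type v} [Field F] {M : Type u} [AddCommGroup M] [Module F M] {E : Type w} [AddCommGroup E]
    [Module F E] (f : M →ₗ[F] M →ₗ[F] F) (e : M) (M0 : Submodule F M) (n : E →ₗ[F] M)
    (s : E → E → M) : Prop where
  alt : ∀ m, f m m = 0
  nd : ∀ m, (∀ m', f m m' = 0) → m = 0
  f_e_M0 : ∀ d ∈ M0, f e d = 0
  f_e_n : ∀ g, f e (n g) = 0
  f_M0 : ∀ d ∈ M0, ∀ d' ∈ M0, f d d' = 0
  f_n : ∀ g g', f (n g) (n g') = 0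
  perp : ∀ m, f e m = 0 → ∃ c : F, ∃ d ∈ M0, ∃ g, m = c • e + d + n g
  inj : ∀ d ∈ M0, (∀ g, f d (n g) = 0) → d = 0
  indep : ∀ c : F, ∀ d ∈ M0, ∀ g, c • e + d + n g = 0 → g = 0
  s_mem : ∀ g h, s g h ∈ M0
  T_self : ∀ g h, f (s g h) (n g) = 0
  T_swap : ∀ g h k, f (s g h) (n k) = - f (s g k) (n h)

namespace NFr

variable {F : Type v} [Field F] {M : Type u} [AddCommGroup M] [Module F M] {E : Type w} [AddCommGroup E]
    [Module F E] {f : M →ₗ[F] M →ₗ[F] F} {e : M} {M0 : Submodule F M} {n : E →ₗ[F] M}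
    {s : E → E → M} (h : NFr f e M0 n s)
include h

theorem skew (m m' : M) : f m m' = - f m' m := by
  have h1 := h.alt (m + m')
  rw [map_add, map_add, LinearMap.add_apply, LinearMap.add_apply, h.alt, h.alt, zero_add, add_zero] at h1
  exact eq_neg_of_add_eq_zero_right h1

theorem ee : f e e = 0 := h.alt e

theorem f_M0_e {d : M} (hd : d ∈ M0) : f d e = 0 := by rw [h.skew, h.f_e_M0 d hd, neg_zero]

theorem f_n_e (g : E) : f (n g) e = 0 := by rw [h.skew, h.f_e_n g, neg_zero]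

theorem s_eq_zero {g k : E} (hk : ∀ l, f (s g k) (n l) = 0) : s g k = 0 := h.inj _ (h.s_mem g k) hk

theorem s_self (g : E) : ∀ l, f (s g l) (n g) = 0 := h.T_self g

theorem s_diag (g : E) (h2 : ∀ l, f (s g l) (n g) = 0) : s g g = 0 := by
  apply h.s_eq_zero
  intro l
  rw [h.T_swap, h2, neg_zero]

theorem s_gg (g : E) : s g g = 0 := h.s_diag g (h.T_self g)

end NFr

section N

variable {F : Type v} [Field F] {M : Type u} [AddCommGroup M] [Module F M] {E : Type w} [AddCommGroup E]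
    [Module F E]

/-- `N = ⟨e⟩ + s(g, E) + ⟨n g⟩` -/
def Ng (e : M) (n : E →ₗ[F] M) (s : E → E → M) (g : E) : Submodule F M :=
  span F {e} ⊔ span F (Set.range (s g)) ⊔ span F {n g}

/-- `Z = ⟨s(g, E)⟩` -/
def Zg (F : Type v) [Field F] {M : Type u} [AddCommGroup M] [Module F M] {E : Type w} (s : E → E → M) (g : E) :
    Submodule F M := span F (Set.range (s g))

variable {f : M →ₗ[F] M →ₗ[F] F} {e : M} {M0 : Submodule F M} {n : E →ₗ[F] M} {s : E → E → M} {g : E}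

theorem e_mem_Ng : e ∈ Ng e n s g :=
  (le_sup_left.trans le_sup_left : span F {e} ≤ Ng e n s g) (mem_span_singleton_self e)

theorem n_mem_Ng : n g ∈ Ng e n s g :=
  (le_sup_right : span F {n g} ≤ Ng e n s g) (mem_span_singleton_self _)

theorem Zg_le_Ng : Zg F s g ≤ Ng e n s g := le_sup_right.trans le_sup_left

omit [AddCommGroup E] [Module F E] in
theorem s_mem_Zg (k : E) : s g k ∈ Zg F s g := subset_span ⟨k, rfl⟩

theorem mem_Ng {m : M} : m ∈ Ng e n s g ↔ ∃ c : F, ∃ z ∈ Zg F s g, ∃ r : F, m = c • e + z + r • n g := by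
  unfold Ng
  rw [mem_sup]
  constructor
  · rintro ⟨y, hy, z, hz, rfl⟩
    obtain ⟨y1, hy1, y2, hy2, rfl⟩ := mem_sup.1 hy
    obtain ⟨c, rfl⟩ := mem_span_singleton.1 hy1
    obtain ⟨r, rfl⟩ := mem_span_singleton.1 hz
    exact ⟨c, y2, hy2, r, rfl⟩
  · rintro ⟨c, z, hz, r, rfl⟩
    exact ⟨c • e + z, mem_sup.2 ⟨c • e, mem_span_singleton.2 ⟨c, rfl⟩, z, hz, rfl⟩, r • n g,
      mem_span_singleton.2 ⟨r, rfl⟩, rfl⟩

variable (h : NFr f e M0 n s)
include h

theorem NFr.Zg_le : Zg F s g ≤ M0 := by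
  refine span_le.2 ?_
  rintro _ ⟨k, rfl⟩
  exact h.s_mem g k

theorem NFr.f_Zg_n {z : M} (hz : z ∈ Zg F s g) : f z (n g) = 0 := by
  refine span_induction (p := fun z _ => f z (n g) = 0) ?_ ?_ ?_ ?_ hz
  · rintro _ ⟨k, rfl⟩
    exact h.T_self g k
  · rw [map_zero, LinearMap.zero_apply]
  · intro x y _ _ hx hy
    rw [map_add, LinearMap.add_apply, hx, hy, add_zero]
  · intro a x _ hx
    rw [map_smul, LinearMap.smul_apply, hx, smul_zero]

/-- `N` is totally isotropic -/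
theorem NFr.Ng_isotropic {m m' : M} (hm : m ∈ Ng e n s g) (hm' : m' ∈ Ng e n s g) : f m m' = 0 := by
  obtain ⟨c, z, hz, r, rfl⟩ := mem_Ng.1 hm
  obtain ⟨c', z', hz', r', rfl⟩ := mem_Ng.1 hm'
  have e1 : f z (n g) = 0 := h.f_Zg_n hz
  have e2 : f (n g) z' = 0 := by rw [h.skew, h.f_Zg_n hz', neg_zero]
  simp only [map_add, map_smul, LinearMap.add_apply, LinearMap.smul_apply, h.ee, h.f_e_M0 z' (h.Zg_le hz'),
    h.f_e_n, h.f_M0_e (h.Zg_le hz), h.f_M0 z (h.Zg_le hz) z' (h.Zg_le hz'), h.f_n, h.f_n_e, e1, e2,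
    smul_zero, add_zero]

/-- the elements of `N^⊥` -/
theorem NFr.mem_perp {m : M} (hm : ∀ x ∈ Ng e n s g, f m x = 0) :
    ∃ c : F, ∃ d ∈ M0, ∃ k, m = c • e + d + n k ∧ f d (n g) = 0 ∧ s g k = 0 := by
  have h1 : f e m = 0 := by rw [h.skew, hm e e_mem_Ng, neg_zero]
  obtain ⟨c, d, hd, k, rfl⟩ := h.perp m h1
  refine ⟨c, d, hd, k, rfl, ?_, ?_⟩
  · have h2 := hm _ (n_mem_Ng (e := e) (s := s))
    simpa only [map_add, map_smul, LinearMap.add_apply, LinearMap.smul_apply, h.f_e_n, h.f_n, smul_zero,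
      zero_add, add_zero] using h2
  · apply h.s_eq_zero
    intro l
    have h2 := hm _ (Zg_le_Ng (s_mem_Zg l))
    have h3 : f (n k) (s g l) = 0 := by
      simpa only [map_add, map_smul, LinearMap.add_apply, LinearMap.smul_apply, h.f_e_M0 _ (h.s_mem g l),
        h.f_M0 d hd _ (h.s_mem g l), smul_zero, zero_add, add_zero] using h2
    rw [h.T_swap, ← h.skew, h3]

/-- `N^⊥^⊥ ≤ N` -/
theorem NFr.perp_perp [Finite M] [Finite F] (N : Submodule F M) :
    ∀ m, (∀ m', (∀ x ∈ N, f m' x = 0) → f m m' = 0) → m ∈ N := by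
  have : FiniteDimensional F M := Module.Finite.of_finite
  intro m hm
  have hr : LinearMap.BilinForm.IsRefl f := by
    intro x y hxy
    rw [h.skew, hxy, neg_zero]
  have hn : LinearMap.BilinForm.Nondegenerate f := by
    refine ⟨fun x hx => h.nd x hx, fun x hx => h.nd x fun y => ?_⟩
    rw [h.skew, hx y, neg_zero]
  have key := LinearMap.BilinForm.orthogonal_orthogonal hn hr N
  rw [← key, LinearMap.BilinForm.mem_orthogonal_iff]
  intro m' hm'
  rw [LinearMap.BilinForm.mem_orthogonal_iff] at hm'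
  show f m' m = 0
  rw [h.skew, hm m' fun x hx => ?_, neg_zero]
  have : f x m' = 0 := hm' x hx
  rw [h.skew, this, neg_zero]

end N

end Cfsg.Agent.Omega.Lie.Nodes
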