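import Cfsg.Agent.Omega.BTwo.Cen

/-!
# NODE LIE, TEXT NODES (#14331) (L): `Σ = W_N y_2` is normalised by `X` and by `P^`

`S` is the preimage `W_N` of `N` in `W`, `n ∈ X` swaps `R i` and `R j`, `Σ = S ⊔ S ^ n`.

* `W_norm`, `n_norm`, `X_norm`: `[W, S ^ n] ≤ S` implies that `W`, `n` and `X = ⟨W, W ^ n⟩` normalise `Σ`.
* `P_norm`: `[P, S ^ n] ≤ W`, `P ≤ C(R)`, the double centraliser condition and "linear = semilinear" imply
  that `P` normalises `Σ`.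
-/

set_option autoImplicit false

namespace Cfsg.Agent.Omega.Lie.Nodes

open Subgroup Cfsg.Agent.Omega.BTwo

universe u v w

variable {G : Type u} [Group G]

/-- `K` normalises `S ⊔ T` if it moves elements of `S`, `T` inside modulo `S ⊔ T` -/
theorem le_normalizer_sup {K S T : Subgroup G}
    (hS : ∀ k ∈ K, ∀ s ∈ S, k * s * k⁻¹ ∈ S ⊔ T) (hT : ∀ k ∈ K, ∀ s ∈ T, k * s * k⁻¹ ∈ S ⊔ T) :
    K ≤ normalizer ((S ⊔ T : Subgroup G) : Set G) := by
  have key : ∀ k ∈ K, ∀ x ∈ S ⊔ T, k * x * k⁻¹ ∈ S ⊔ T := by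
    intro k hk
    have h : S ⊔ T ≤ (S ⊔ T).comap (MulAut.conj k).toMonoidHom :=
      sup_le (fun s hs => hS k hk s hs) (fun s hs => hT k hk s hs)
    exact fun x hx => h hx
  intro k hk
  rw [mem_normalizer_iff]
  intro x
  refine ⟨fun hx => key k hk x hx, fun hx => ?_⟩
  have := key k⁻¹ (inv_mem hk) _ hx
  rwa [inv_inv, show k⁻¹ * (k * x * k⁻¹) * k = x by group] at this

/-! ### `X` normalises `Σ` -/

section X

variable {R W S : Subgroup G} {n : G}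

theorem W_norm (hRS : R ≤ S) (hSW : S ≤ W) (hW : ∀ x ∈ W, ∀ y ∈ W, x * y * x⁻¹ * y⁻¹ ∈ R)
    (key : ∀ w ∈ W, ∀ x ∈ cj n S, w * x * w⁻¹ * x⁻¹ ∈ S) :
    W ≤ normalizer ((S ⊔ cj n S : Subgroup G) : Set G) := by
  refine le_normalizer_sup (fun w hw s hs => ?_) (fun w hw s hs => ?_)
  · have h := mul_mem (hRS (hW w hw s (hSW hs))) hs
    rw [inv_mul_cancel_right] at h
    exact (le_sup_left : S ≤ _) h
  · have h := mul_mem ((le_sup_left : S ≤ S ⊔ cj n S) (key w hw s hs)) ((le_sup_right : cj n S ≤ S ⊔ cj n S) hs)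
    rwa [inv_mul_cancel_right] at h

theorem cj_sigma (hnn : cj n (cj n S) = S) : cj n (S ⊔ cj n S) = S ⊔ cj n S := by
  have h : cj n (S ⊔ cj n S) = cj n S ⊔ cj n (cj n S) := by
    unfold cj
    rw [Subgroup.map_sup]
  rw [h, hnn, sup_comm]

/-- **`X` normalises `Σ`** -/
theorem X_norm (hRS : R ≤ S) (hSW : S ≤ W) (hW : ∀ x ∈ W, ∀ y ∈ W, x * y * x⁻¹ * y⁻¹ ∈ R)
    (key : ∀ w ∈ W, ∀ x ∈ cj n S, w * x * w⁻¹ * x⁻¹ ∈ S) (hnn : cj n (cj n S) = S) :
    W ⊔ cj n W ≤ normalizer ((S ⊔ cj n S : Subgroup G) : Set G) := by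
  have h1 := W_norm hRS hSW hW key
  refine sup_le h1 ?_
  have h2 : n ∈ normalizer ((S ⊔ cj n S : Subgroup G) : Set G) := by
    have e := cj_sigma hnn
    rw [mem_normalizer_iff]
    intro x
    have h3 : x ∈ S ⊔ cj n S ↔ n * x * n⁻¹ ∈ cj n (S ⊔ cj n S) := by
      rw [mem_cj]
      rw [show n⁻¹ * (n * x * n⁻¹) * n = x by group]
    rw [h3, e]
  intro x hx
  have hx' := mem_cj.1 hx
  have h4 := mul_mem (mul_mem h2 (h1 hx')) (inv_mem h2)
  rwa [show n * (n⁻¹ * x * n) * n⁻¹ = x by group] at h4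

/-- `Σ` is abelian -/
theorem sigma_comm (hS : ∀ x ∈ S, ∀ y ∈ S, x * y = y * x) (hSS : ∀ x ∈ S, ∀ y ∈ cj n S, x * y = y * x) :
    ∀ x ∈ S ⊔ cj n S, ∀ y ∈ S ⊔ cj n S, x * y = y * x := by
  have h1 : S ≤ centralizer ((S ⊔ cj n S : Subgroup G) : Set G) := by
    intro x hx
    have h : S ⊔ cj n S ≤ centralizer {x} :=
      sup_le (fun y hy => mem_centralizer_singleton_iff.2 (hS y hy x hx))
        (fun y hy => mem_centralizer_singleton_iff.2 (hSS x hx y hy).symm)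
    rw [mem_centralizer_iff]
    intro y hy
    exact mem_centralizer_singleton_iff.1 (h hy)
  have h2 : cj n S ≤ centralizer ((S ⊔ cj n S : Subgroup G) : Set G) := by
    intro x hx
    have h : S ⊔ cj n S ≤ centralizer {x} := by
      refine sup_le (fun y hy => mem_centralizer_singleton_iff.2 (hSS y hy x hx))
        (fun y hy => mem_centralizer_singleton_iff.2 ?_)
      have h3 := hS _ (mem_cj.1 hx) _ (mem_cj.1 hy)
      calc y * x = n * (n⁻¹ * y * n * (n⁻¹ * x * n)) * n⁻¹ := by group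
        _ = n * (n⁻¹ * x * n * (n⁻¹ * y * n)) * n⁻¹ := by rw [← h3]
        _ = x * y := by group
    rw [mem_centralizer_iff]
    intro y hy
    exact mem_centralizer_singleton_iff.1 (h hy)
  intro x hx y hy
  exact ((mem_centralizer_iff.1 ((sup_le h1 h2) hx)) y hy).symm

/-- `Σ` is elementary abelian -/
theorem sigma_sq (hS : ∀ x ∈ S, ∀ y ∈ S, x * y = y * x) (hSS : ∀ x ∈ S, ∀ y ∈ cj n S, x * y = y * x)
    (hS2 : ∀ x ∈ S, x * x = 1) : ∀ x ∈ S ⊔ cj n S, x * x = 1 := by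
  have hc := sigma_comm hS hSS
  let T : Subgroup G :=
    { carrier := {x | x ∈ S ⊔ cj n S ∧ x * x = 1}
      one_mem' := ⟨one_mem _, one_mul 1⟩
      mul_mem' := by
        rintro x y ⟨hx, hx'⟩ ⟨hy, hy'⟩
        refine ⟨mul_mem hx hy, ?_⟩
        calc x * y * (x * y) = x * (y * x) * y := by group
          _ = x * (x * y) * y := by rw [hc y hy x hx]
          _ = (x * x) * (y * y) := by group
          _ = 1 := by rw [hx', hy', one_mul]
      inv_mem' := by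
        rintro x ⟨hx, hx'⟩
        refine ⟨inv_mem hx, ?_⟩
        rw [← mul_inv_rev, hx', inv_one] }
  have hT : S ⊔ cj n S ≤ T := by
    refine sup_le (fun x hx => ⟨(le_sup_left : S ≤ _) hx, hS2 x hx⟩)
      (fun x hx => ⟨(le_sup_right : cj n S ≤ _) hx, ?_⟩)
    have h3 := hS2 _ (mem_cj.1 hx)
    calc x * x = n * (n⁻¹ * x * n * (n⁻¹ * x * n)) * n⁻¹ := by group
      _ = 1 := by rw [h3]; group
  exact fun x hx => (hT hx).2

end X

/-! ### `P` normalises `Σ` -/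

section P

/-- the commutator form of `W / R` over `F` -/
structure Fr {F : Type v} [Field F] {M : Type w} [AddCommGroup M] [Module F M] (R W : Subgroup G)
    (q : G → M) (f : M →ₗ[F] M →ₗ[F] F) (r : F → G) : Prop where
  mul : ∀ x ∈ W, ∀ y ∈ W, q (x * y) = q x + q y
  zero : ∀ x ∈ W, (q x = 0 ↔ x ∈ R)
  surj : ∀ m, ∃ x ∈ W, q x = m
  comm : ∀ x ∈ W, ∀ y ∈ W, x * y * x⁻¹ * y⁻¹ = r (f (q x) (q y))
  r_mem : ∀ a, r a ∈ R
  r_add : ∀ a b, r (a + b) = r a * r b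
  r_inj : ∀ a, r a = 1 → a = 0
  cen : ∀ x ∈ W, ∀ a, x * r a = r a * x
  nd : ∀ m, (∀ m', f m m' = 0) → m = 0

variable {F : Type v} [Field F] {M : Type w} [AddCommGroup M] [Module F M] {R W : Subgroup G}
    {q : G → M} {f : M →ₗ[F] M →ₗ[F] F} {r : F → G}

namespace Fr

theorem r_zero (h : Fr R W q f r) : r 0 = 1 := by
  have := h.r_add 0 0
  rw [add_zero] at this
  exact left_eq_mul.1 this

theorem r_injective (h : Fr R W q f r) {a b : F} (hab : r a = r b) : a = b := by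
  have h1 : r (a - b) * r b = r b := by rw [← h.r_add, sub_add_cancel, hab]
  have h2 : r (a - b) = 1 := mul_eq_right.1 h1
  exact sub_eq_zero.1 (h.r_inj _ h2)

theorem comm_iff (h : Fr R W q f r) {x y : G} (hx : x ∈ W) (hy : y ∈ W) :
    x * y = y * x ↔ f (q x) (q y) = 0 := by
  have h1 := h.comm x hx y hy
  constructor
  · intro e
    have h2 : x * y * x⁻¹ * y⁻¹ = 1 := by rw [e]; group
    rw [h2] at h1
    exact h.r_inj _ h1.symm
  · intro e
    rw [e, h.r_zero, mul_inv_eq_one, mul_inv_eq_iff_eq_mul] at h1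
    exact h1

theorem r_inv (h : Fr R W q f r) (a : F) : (r a)⁻¹ = r (-a) := by
  have h1 : r (-a) * r a = 1 := by rw [← h.r_add, neg_add_cancel, h.r_zero]
  exact (eq_inv_of_mul_eq_one_left h1).symm

/-- double centraliser: if `q x` lies in the span of `q S` whenever `x` centralises `C_W(S)` -/
theorem dc_of [Finite M] (h : Fr R W q f r) {S : Subgroup G} (hRS : R ≤ S) (hSW : S ≤ W)
    (N : Submodule F M) (hN : ∀ x ∈ W, (x ∈ S ↔ q x ∈ N))
    (hD : ∀ m, (∀ m', (∀ n ∈ N, f m' n = 0) → f m m' = 0) → m ∈ N) :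
    ∀ x ∈ W, (∀ y ∈ W, (∀ s ∈ S, y * s = s * y) → x * y = y * x) → x ∈ S := by
  have _ := hRS
  intro x hx hc
  rw [hN x hx]
  apply hD
  intro m' hm'
  obtain ⟨y, hy, rfl⟩ := h.surj m'
  rw [← h.comm_iff hx hy]
  apply hc y hy
  intro s hs
  rw [h.comm_iff hy (hSW hs)]
  exact hm' _ ((hN s (hSW hs)).1 hs)

end Fr

variable {S P : Subgroup G} {n : G}

/-- **`P` normalises `Σ`** -/
theorem P_norm (h : Fr R W q f r) (hSW : S ≤ W)
    (hSC : ∀ x ∈ S, ∀ y ∈ cj n S, x * y = y * x)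
    (hPR : P ≤ centralizer (R : Set G)) (hPS : P ≤ normalizer (S : Set G)) (hPW : P ≤ normalizer (W : Set G))
    (hPM : ∀ p ∈ P, ∃ A : M →ₗ[F] M, ∀ x ∈ W, q (p * x * p⁻¹) = A (q x))
    -- (S)
    (hS : ∀ p ∈ P, ∀ x ∈ cj n S, p * x * p⁻¹ * x⁻¹ ∈ W)
    -- (KEY): the elements of `C_W(S)` centralise `S ^ n` modulo `R`; the form `β_x`
    (β : G → M → F) (hβ : ∀ x ∈ cj n S, ∀ w ∈ W, (∀ s ∈ S, w * s = s * w) →
      w * x * w⁻¹ * x⁻¹ = r (β x (q w)))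
    {l : F} (hl : l ≠ 0) (hl1 : l ≠ 1)
    (hsemi : ∀ x ∈ cj n S, ∀ w ∈ W, (∀ s ∈ S, w * s = s * w) → β x (l • q w) = (l * l) * β x (q w))
    (dc : ∀ x ∈ W, (∀ y ∈ W, (∀ s ∈ S, y * s = s * y) → x * y = y * x) → x ∈ S) :
    P ≤ normalizer ((S ⊔ cj n S : Subgroup G) : Set G) := by
  refine le_normalizer_sup (fun p hp s hs => (le_sup_left : S ≤ _) (conj_mem_of_normalizer (hPS hp) hs))
    (fun p hp x hx => ?_)
  -- `w₀ = [p, x]`
  set u := p * x * p⁻¹ * x⁻¹ with hu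
  have huW : u ∈ W := hS p hp x hx
  have hpx : p * x * p⁻¹ = u * x := by rw [hu]; group
  suffices hus : u ∈ S by
    rw [hpx]
    exact mul_mem ((le_sup_left : S ≤ _) hus) ((le_sup_right : cj n S ≤ _) hx)
  apply dc u huW
  -- elements of `C_W(S)`
  have hconjC : ∀ p ∈ P, ∀ w, (∀ s ∈ S, w * s = s * w) → ∀ s ∈ S, (p * w * p⁻¹) * s = s * (p * w * p⁻¹) := by
    intro p hp w hw s hs
    have h1 := hw (p⁻¹ * s * p) (conj_inv_mem_of_normalizer (hPS hp) hs)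
    calc (p * w * p⁻¹) * s = p * (w * (p⁻¹ * s * p)) * p⁻¹ := by group
      _ = p * (p⁻¹ * s * p * w) * p⁻¹ := by rw [h1]
      _ = s * (p * w * p⁻¹) := by group
  have hPr : ∀ p ∈ P, ∀ a, p * r a * p⁻¹ = r a := by
    intro p hp a
    have h1 := mem_centralizer_iff.1 (hPR hp) _ (h.r_mem a)
    rw [← h1, mul_inv_cancel_right]
  -- `u` centralises `S`
  have hxC : ∀ s ∈ S, x * s = s * x := fun s hs => (hSC s hs x hx).symm
  have hpxC : ∀ s ∈ S, (p * x * p⁻¹) * s = s * (p * x * p⁻¹) := hconjC p hp x hxC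
  have huC : ∀ s ∈ S, u * s = s * u := by
    intro s hs
    have e : u = p * x * p⁻¹ * x⁻¹ := hu
    have h1 : x⁻¹ * s = s * x⁻¹ := by
      have := hxC s hs
      calc x⁻¹ * s = x⁻¹ * (s * x) * x⁻¹ := by group
        _ = x⁻¹ * (x * s) * x⁻¹ := by rw [this]
        _ = s * x⁻¹ := by group
    calc u * s = (p * x * p⁻¹) * (x⁻¹ * s) := by rw [e]; group
      _ = (p * x * p⁻¹) * s * x⁻¹ := by rw [h1]; group
      _ = s * (p * x * p⁻¹) * x⁻¹ := by rw [hpxC s hs]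
      _ = s * u := by rw [e]; group
  -- the key identity: `β_x(w) = f(w^p, u) + β_x(w^p)`
  have hid : ∀ w ∈ W, (∀ s ∈ S, w * s = s * w) →
      β x (q w) = f (q (p * w * p⁻¹)) (q u) + β x (q (p * w * p⁻¹)) := by
    intro w hw hwC
    have hw' : p * w * p⁻¹ ∈ W := conj_mem_of_normalizer (hPW hp) hw
    have hwC' := hconjC p hp w hwC
    apply h.r_injective
    rw [h.r_add, ← hβ x hx w hw hwC, ← hβ x hx _ hw' hwC', ← h.comm _ hw' u huW]
    -- `[w, x] = [w, x]^p = [w^p, u x] = [w^p, u] u [w^p, x] u⁻¹`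
    have h1 : w * x * w⁻¹ * x⁻¹ = p * (w * x * w⁻¹ * x⁻¹) * p⁻¹ := by
      rw [hβ x hx w hw hwC, hPr p hp]
    have h2 : p * (w * x * w⁻¹ * x⁻¹) * p⁻¹ =
        (p * w * p⁻¹) * (p * x * p⁻¹) * (p * w * p⁻¹)⁻¹ * (p * x * p⁻¹)⁻¹ := by group
    have h3 : u * ((p * w * p⁻¹) * x * (p * w * p⁻¹)⁻¹ * x⁻¹) = (p * w * p⁻¹) * x * (p * w * p⁻¹)⁻¹ * x⁻¹ * u := by
      rw [hβ x hx _ hw' hwC', h.cen u huW]
    calc w * x * w⁻¹ * x⁻¹ = (p * w * p⁻¹) * (p * x * p⁻¹) * (p * w * p⁻¹)⁻¹ * (p * x * p⁻¹)⁻¹ := by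
          rw [h1, h2]
      _ = (p * w * p⁻¹) * (u * x) * (p * w * p⁻¹)⁻¹ * (u * x)⁻¹ := by rw [hpx]
      _ = ((p * w * p⁻¹) * u * (p * w * p⁻¹)⁻¹ * u⁻¹) *
          (u * ((p * w * p⁻¹) * x * (p * w * p⁻¹)⁻¹ * x⁻¹)) * u⁻¹ := by group
      _ = ((p * w * p⁻¹) * u * (p * w * p⁻¹)⁻¹ * u⁻¹) *
          ((p * w * p⁻¹) * x * (p * w * p⁻¹)⁻¹ * x⁻¹) := by rw [h3]; group
  -- linear = semilinear
  obtain ⟨A, hA⟩ := hPM p hp
  have hzero : ∀ w ∈ W, (∀ s ∈ S, w * s = s * w) → f (q (p * w * p⁻¹)) (q u) = 0 := by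
    intro w hw hwC
    obtain ⟨w', hw', hq⟩ := h.surj (l • q w)
    have hwC2 : ∀ s ∈ S, w' * s = s * w' := by
      intro s hs
      rw [h.comm_iff hw' (hSW hs), hq, map_smul, LinearMap.smul_apply, (h.comm_iff hw (hSW hs)).1 (hwC s hs),
        smul_zero]
    have hcw : p * w * p⁻¹ ∈ W := conj_mem_of_normalizer (hPW hp) hw
    have hcw' : p * w' * p⁻¹ ∈ W := conj_mem_of_normalizer (hPW hp) hw'
    have e1 := hid w hw hwC
    have e2 := hid w' hw' hwC2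
    have e3 : q (p * w' * p⁻¹) = l • q (p * w * p⁻¹) := by
      rw [hA w' hw', hq, map_smul, ← hA w hw]
    rw [e3, hq, map_smul, LinearMap.smul_apply, hsemi x hx w hw hwC,
      hsemi x hx _ hcw (hconjC p hp w hwC), e1, smul_eq_mul] at e2
    have e4 : (l * l - l) * f (q (p * w * p⁻¹)) (q u) = 0 := by linear_combination e2
    have e5 : l * l - l ≠ 0 := by
      rw [show l * l - l = l * (l - 1) by ring]
      exact mul_ne_zero hl (sub_ne_zero.2 hl1)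
    exact (mul_eq_zero.1 e4).resolve_left e5
  intro y hy hyC
  -- `y = w^p`
  have hpi : p⁻¹ ∈ P := inv_mem hp
  have hy' : p⁻¹ * y * p ∈ W := conj_inv_mem_of_normalizer (hPW hp) hy
  have hyC' : ∀ s ∈ S, (p⁻¹ * y * p) * s = s * (p⁻¹ * y * p) := by
    have := hconjC p⁻¹ hpi y hyC
    rwa [inv_inv] at this
  have h1 := hzero _ hy' hyC'
  rw [show p * (p⁻¹ * y * p) * p⁻¹ = y by group] at h1
  exact ((h.comm_iff hy huW).2 h1).symm

end P

end Cfsg.Agent.Omega.Lie.Nodes
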